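import Cfsg.Agent.Lib.Spec.JOneSquare.Basic
import Cfsg.Agent.Lib.Fusion.Abelian
import Cfsg.Agent.Lib.Coprime.Action
import Cfsg.Agent.Lib.Coprime.Generation
import Cfsg.Agent.Lib.Solv.FixedPointFree
import Cfsg.Agent.S3901
import Cfsg.Agent.S0205

/-!
# Actions of elements and of perfect subgroups
-/

set_option autoImplicit false
set_option linter.style.haveILetI false
set_option linter.unusedSectionVars false

namespace Cfsg.Lib.Spec.JOneSq

open Subgroup

universe u v

/-- A perfect group with commutative Sylow two-subgroups has no central involution. -/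
theorem no_central_invol {D : Type u} [Group D] [Finite D] (h : Le D) (hD : commutator D = ⊤) {z : D}
    (hz : z ∈ center D) (hz2 : z * z = 1) : z = 1 := by
  haveI : Fact (Nat.Prime 2) := ⟨Nat.prime_two⟩
  obtain ⟨P, hP⟩ := (IsPGroup.of_card (n := Nat.log 2 (Nat.card (zpowers z))) (by
    have hd : orderOf z ∣ 2 := orderOf_dvd_of_pow_eq_one (by rw [pow_two, hz2])
    rw [Nat.card_zpowers]
    rcases (Nat.dvd_prime Nat.prime_two).1 hd with h1 | h1 <;> rw [h1] <;> decide) :
      IsPGroup 2 (zpowers z)).exists_le_sylow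
  haveI := h.sylow_two_comm P
  have hm : z ∈ (P : Subgroup D) ⊓ commutator D ⊓ center D :=
    ⟨⟨hP (mem_zpowers z), hD ▸ mem_top z⟩, hz⟩
  rwa [Fusion.inf_commutator_inf_center_eq_bot_sylow P, mem_bot] at hm

theorem commutator_range {D : Type u} {E : Type v} [Group D] [Group E] (hD : commutator D = ⊤) (f : D →* E) :
    commutator f.range = ⊤ := by
  have := map_commutator (⊤ : Subgroup D) ⊤ f.rangeRestrict
  rw [← commutator_def, hD, map_top_of_surjective _ f.rangeRestrict_surjective] at this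
  rw [commutator_def]; exact this.symm

theorem commutator_eq_top_of_self {G : Type u} [Group G] {D : Subgroup G} (hD : ⁅D, D⁆ = D) :
    commutator ↥D = ⊤ := by
  have := map_commutator (⊤ : Subgroup ↥D) ⊤ D.subtype
  rw [← MonoidHom.range_eq_map, range_subtype, hD] at this
  rw [← (map_injective D.subtype_injective).eq_iff, commutator_def, this, ← MonoidHom.range_eq_map, range_subtype]

/-- An involution of a perfect group of automorphisms does not act without fixed points. -/
theorem exists_fixed_hom {D : Type u} [Group D] [Finite D] (h : Le D) (hD : commutator D = ⊤) {V : Type v}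
    [Group V] [Finite V] [Nontrivial V] (hodd : Odd (Nat.card V)) (ρ : D →* MulAut V) {t : D} (ht : t * t = 1) :
    ∃ v : V, v ≠ 1 ∧ ρ t v = v := by
  by_contra hno
  push Not at hno
  have hf : MonoidHom.FixedPointFree (ρ t) := fun v hv => by
    by_contra h1
    exact hno v h1 hv
  have hinvo : Function.Involutive (ρ t) := fun v => by
    rw [← MulAut.mul_apply, ← map_mul, ht, map_one, MulAut.one_apply]
  have hinv : ∀ v, ρ t v = v⁻¹ := fun v => congrFun (hf.coe_eq_inv_of_involutive hinvo) v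
  haveI : Finite ρ.range := Finite.of_surjective _ ρ.rangeRestrict_surjective
  have hcen : ρ.rangeRestrict t ∈ center ρ.range := by
    refine mem_center_iff.2 fun g => Subtype.ext (MulEquiv.ext fun v => ?_)
    obtain ⟨-, g', rfl⟩ := g
    show ρ g' (ρ t v) = ρ t (ρ g' v)
    rw [hinv, hinv, map_inv]
  have h1 := no_central_invol (h.of_surjective _ ρ.rangeRestrict_surjective) (commutator_range hD ρ) hcen
    (by rw [← map_mul, ht, map_one])
  obtain ⟨v, hv⟩ := exists_ne (1 : V)
  have h2 : v⁻¹ = v := by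
    rw [← hinv, show ρ t = 1 from congrArg Subtype.val h1, MulAut.one_apply]
  exact hno v hv (by rw [hinv, h2])

/-- An involution of a perfect subgroup fixes a nontrivial element of each odd subgroup normalized by it. -/
theorem exists_fixed {G : Type u} [Group G] [Finite G] (h : Le G) {D V : Subgroup G} (hD : ⁅D, D⁆ = D)
    (hDV : D ≤ normalizer (V : Set G)) (hodd : Odd (Nat.card V)) (hV : V ≠ ⊥) {t : G} (htD : t ∈ D)
    (ht : t * t = 1) : ∃ v ∈ V, v ≠ 1 ∧ Commute t v := by
  haveI := (nontrivial_iff_ne_bot V).2 hV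
  obtain ⟨v, hv1, hv⟩ := exists_fixed_hom (h.subgroup D) (commutator_eq_top_of_self hD) hodd
    (Solv.conjAut hDV) (t := ⟨t, htD⟩) (Subtype.ext ht)
  refine ⟨v, v.2, fun e => hv1 (Subtype.ext e), ?_⟩
  have : t * (v : G) * t⁻¹ = v := by simpa [Solv.conjAut_apply] using congrArg Subtype.val hv
  exact mul_inv_eq_iff_eq_mul.1 this

/-- Two commuting involutions in a nontrivial perfect group. -/
theorem exists_four {D : Type u} [Group D] [Finite D] [Nontrivial D] (h : Le D) (hD : commutator D = ⊤) :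
    ∃ s u : D, orderOf s = 2 ∧ orderOf u = 2 ∧ Commute s u ∧ s ≠ u := by
  haveI : Fact (Nat.Prime 2) := ⟨Nat.prime_two⟩
  obtain ⟨P⟩ : Nonempty (Sylow 2 D) := inferInstance
  haveI := h.sylow_two_comm P
  by_cases hbig : ∃ s u : D, s ∈ (P : Subgroup D) ∧ u ∈ (P : Subgroup D) ∧ s ≠ 1 ∧ u ≠ 1 ∧ s ≠ u
  · obtain ⟨s, u, hs, hu, hs1, hu1, hne⟩ := hbig
    exact ⟨s, u, h.orderOf_of_mem P.2 hs hs1, h.orderOf_of_mem P.2 hu hu1,
      congrArg Subtype.val ((h.sylow_two_comm P).is_comm.comm ⟨s, hs⟩ ⟨u, hu⟩), hne⟩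
  push Not at hbig
  exfalso
  have hcent : normalizer ((P : Subgroup D) : Set D) ≤ centralizer ((P : Subgroup D) : Set D) := by
    intro g hg
    refine mem_centralizer_iff.2 fun x hx => ?_
    rcases eq_or_ne x 1 with rfl | hx1
    · simp
    · have hgx : g * x * g⁻¹ ∈ (P : Subgroup D) := (mem_normalizer_iff.1 hg x).1 hx
      have := hbig x (g * x * g⁻¹) hx hgx hx1 (fun e => hx1 (conj_eq_one_iff.1 e))
      exact (mul_inv_eq_iff_eq_mul.1 this.symm).symm
  obtain ⟨Q, N, hNn, hNc⟩ := Fusion.hasNormalPComplement_of_normalizer_le_centralizer P hcent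
  haveI := hNn
  haveI := h.sylow_two_comm Q
  have hodd : Odd (Nat.card N) := by
    rw [← hNc.index_eq_card]
    exact Nat.not_even_iff_odd.1 fun he => Q.not_dvd_index (even_iff_two_dvd.1 he)
  have hq : Group.IsSolvable (D ⧸ N) :=
    Group.isSolvable_of_comm fun a b => by
      obtain ⟨a, rfl⟩ := hNc.symm.QuotientMulEquiv.symm.surjective a
      obtain ⟨b, rfl⟩ := hNc.symm.QuotientMulEquiv.symm.surjective b
      rw [← map_mul, ← map_mul, mul_comm' a b]
  haveI := Cfsg.Agent.S0205.result (G := ↥N) hodd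
  haveI := hq
  haveI : Group.IsSolvable D := Group.isSolvable_of_ker_le_range N.subtype (QuotientGroup.mk' N) (by simp)
  obtain ⟨⟨n, hn⟩⟩ := (inferInstance : Group.IsSolvable D)
  have htop : ∀ m, derivedSeries D m = ⊤ := by
    intro m
    induction m with
    | zero => rfl
    | succ m ih => rw [derivedSeries_succ, ih, ← _root_.commutator_def, hD]
  exact bot_ne_top (hn.symm.trans (htop n))

/-- A perfect group fixes every element of an odd group of order dividing the square of a prime. -/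
theorem trivial_of_small {D : Type u} [Group D] [Finite D] (h : Le D) (hD : commutator D = ⊤) {V : Type v}
    [Group V] [Finite V] {r : ℕ} (hr : r.Prime) (hr2 : r ≠ 2) (hV : Nat.card V ∣ r ^ 2) (ρ : D →* MulAut V) :
    ∀ d, ρ d = 1 := by
  classical
  by_contra hne
  push Not at hne
  obtain ⟨d, hd⟩ := hne
  haveI := Fact.mk hr
  have hodd : Odd (Nat.card V) := ((hr.odd_of_ne_two hr2).pow).of_dvd_nat hV
  haveI : Finite ρ.range := Finite.of_surjective _ ρ.rangeRestrict_surjective
  haveI : Nontrivial ρ.range := ⟨⟨ρ.rangeRestrict d, 1, fun e => hd (congrArg Subtype.val e)⟩⟩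
  obtain ⟨s, u, hs, hu, hsu, hne'⟩ :=
    exists_four (h.of_surjective _ ρ.rangeRestrict_surjective) (commutator_range hD ρ)
  haveI : Nontrivial V := by
    by_contra hnt
    rw [not_nontrivial_iff_subsingleton] at hnt
    exact hd (MulEquiv.ext fun v => Subsingleton.elim _ _)
  have hcom : ∀ a b : V, a * b = b * a := by
    obtain ⟨k, hk, hk'⟩ := (Nat.dvd_prime_pow hr).1 hV
    interval_cases k
    · intro a b
      haveI : Subsingleton V := (Nat.card_eq_one_iff_unique.1 (by simpa using hk')).1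
      exact Subsingleton.elim _ _
    · haveI := isCyclic_of_prime_card (α := V) (p := r) (by simpa using hk')
      exact fun a b => (IsCyclic.commGroup (α := V)).mul_comm a b
    · exact (IsPGroup.commGroupOfCardEqPrimeSq (p := r) hk').mul_comm
  -- fixed subgroups
  let F : ↥ρ.range → Subgroup V := fun x =>
    { carrier := {v | (x : MulAut V) v = v}
      mul_mem' := fun {a b} ha hb => by simp only [Set.mem_setOf_eq] at ha hb ⊢; rw [map_mul, ha, hb]
      one_mem' := by simp
      inv_mem' := fun {a} ha => by simp only [Set.mem_setOf_eq] at ha ⊢; rw [map_inv, ha] }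
  have hmemF : ∀ x v, v ∈ F x ↔ (x : MulAut V) v = v := fun x v => Iff.rfl
  have hF : ∀ x : ↥ρ.range, orderOf x = 2 → Nat.card (F x) = r := by
    intro x hx
    have hxx : x * x = 1 := by rw [← pow_two, ← hx, pow_orderOf_eq_one]
    obtain ⟨v, hv1, hv⟩ := exists_fixed_hom (h.of_surjective _ ρ.rangeRestrict_surjective)
      (commutator_range hD ρ) hodd ρ.range.subtype hxx
    obtain ⟨k, hk, hk'⟩ := (Nat.dvd_prime_pow hr).1 ((F x).card_subgroup_dvd_card.trans hV)
    interval_cases k
    · rw [pow_zero, card_eq_one] at hk'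
      exact absurd (mem_bot.1 (hk' ▸ (show v ∈ F x from hv))) hv1
    · rw [hk', pow_one]
    · exfalso
      have htop : F x = ⊤ := eq_top_of_le_card _ (hk' ▸ Nat.le_of_dvd (pow_pos hr.pos 2) hV)
      refine (fun e => by rw [e, orderOf_one] at hx; omega : x ≠ 1) (Subtype.ext (MulEquiv.ext fun w => ?_))
      exact (hmemF x w).1 (htop ▸ mem_top w)
  have hss : ∀ {x : ↥ρ.range}, orderOf x = 2 → ∀ v : V, (x : MulAut V) ((x : MulAut V) v) = v := fun {x} hx v => by
    rw [← MulAut.mul_apply, ← Subgroup.coe_mul, ← pow_two, ← hx, pow_orderOf_eq_one, Subgroup.coe_one,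
      MulAut.one_apply]
  have hsu' : ∀ v : V, (s : MulAut V) ((u : MulAut V) v) = (u : MulAut V) ((s : MulAut V) v) := fun v => by
    rw [← MulAut.mul_apply, ← MulAut.mul_apply, ← Subgroup.coe_mul, hsu.eq, Subgroup.coe_mul]
  have hx3 : orderOf (s * u) = 2 := by
    refine orderOf_eq_prime ?_ ?_
    · rw [hsu.mul_pow, ← hs, pow_orderOf_eq_one, hs, ← hu, pow_orderOf_eq_one, one_mul]
    · intro e
      refine hne' ?_
      rw [eq_inv_of_mul_eq_one_left e, inv_eq_of_mul_eq_one_right]
      rw [← pow_two, ← hu, pow_orderOf_eq_one]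
  have hprod : ∀ v : V, ((s * u : ↥ρ.range) : MulAut V) v = (s : MulAut V) ((u : MulAut V) v) := fun v => rfl
  by_cases hI : F s ⊓ F u = ⊥
  · -- the two lines are inverted by the product
    have hinv : ∀ v, v ∈ F s ∨ v ∈ F u → ((s * u : ↥ρ.range) : MulAut V) v = v⁻¹ := by
      intro v hv
      rcases hv with hv | hv
      · have hw : v * (u : MulAut V) v ∈ F s ⊓ F u := by
          refine ⟨(F s).mul_mem hv ?_, ?_⟩
          · rw [hmemF, hsu', (hmemF _ _).1 hv]
          · show (u : MulAut V) (v * (u : MulAut V) v) = _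
            rw [map_mul, hss hu, hcom]
        rw [hI, mem_bot] at hw
        rw [hprod, hsu', (hmemF _ _).1 hv, eq_inv_of_mul_eq_one_right hw]
      · have hw : v * (s : MulAut V) v ∈ F s ⊓ F u := by
          refine ⟨?_, (F u).mul_mem hv ?_⟩
          · show (s : MulAut V) (v * (s : MulAut V) v) = _
            rw [map_mul, hss hs, hcom]
          · rw [hmemF, ← hsu', (hmemF _ _).1 hv]
        rw [hI, mem_bot] at hw
        rw [hprod, (hmemF _ _).1 hv, eq_inv_of_mul_eq_one_right hw]
    obtain ⟨w, hw1, hw⟩ : ∃ w : V, w ≠ 1 ∧ ((s * u : ↥ρ.range) : MulAut V) w = w := by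
      have h3 := hF _ hx3
      haveI := (nontrivial_iff_ne_bot (F (s * u))).2 (fun e => by
        rw [e, card_bot] at h3; exact hr.ne_one h3.symm)
      obtain ⟨w, hw1⟩ := exists_ne (1 : F (s * u))
      exact ⟨w, fun e => hw1 (Subtype.ext e), w.2⟩
    have hbij : Function.Bijective fun p : F s × F u => (p.1 : V) * p.2 := by
      refine (Nat.bijective_iff_injective_and_card _).2 ⟨?_, ?_⟩
      · rintro ⟨a, b⟩ ⟨a', b'⟩ e
        have e' : ((a' : V))⁻¹ * a = (b' : V) * (b : V)⁻¹ := by
          rw [eq_mul_inv_iff_mul_eq, mul_assoc, inv_mul_eq_iff_eq_mul]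
          exact e
        have hm : ((a' : V))⁻¹ * a ∈ F s ⊓ F u :=
          ⟨(F s).mul_mem ((F s).inv_mem a'.2) a.2, e' ▸ (F u).mul_mem b'.2 ((F u).inv_mem b.2)⟩
        rw [hI, mem_bot] at hm
        rw [hm] at e'
        exact Prod.ext (Subtype.ext (inv_mul_eq_one.1 hm).symm) (Subtype.ext (mul_inv_eq_one.1 e'.symm).symm)
      · rw [Nat.card_prod, hF _ hs, hF _ hu, ← pow_two]
        refine Nat.dvd_antisymm ?_ hV
        have h4 : Nat.card (F s) * Nat.card (F u) ∣ Nat.card V :=
          Nat.card_prod (F s) (F u) ▸ (Subgroup.card_dvd_of_injective ((F s).subtype.noncommCoprod (F u).subtype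
            fun a b => hcom _ _) (by
              rintro ⟨a, b⟩ ⟨a', b'⟩ e
              have e' : ((a' : V))⁻¹ * a = (b' : V) * (b : V)⁻¹ := by
                rw [eq_mul_inv_iff_mul_eq, mul_assoc, inv_mul_eq_iff_eq_mul]
                exact e
              have hm : ((a' : V))⁻¹ * a ∈ F s ⊓ F u :=
                ⟨(F s).mul_mem ((F s).inv_mem a'.2) a.2, e' ▸ (F u).mul_mem b'.2 ((F u).inv_mem b.2)⟩
              rw [hI, mem_bot] at hm
              rw [hm] at e'
              exact Prod.ext (Subtype.ext (inv_mul_eq_one.1 hm).symm)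
                (Subtype.ext (mul_inv_eq_one.1 e'.symm).symm)))
        rwa [hF _ hs, hF _ hu, ← pow_two] at h4
    obtain ⟨⟨a, b⟩, hab⟩ := hbij.2 w
    have hw2 : w⁻¹ = w := by
      conv_rhs => rw [← hw, ← hab]
      rw [map_mul, hinv _ (Or.inl a.2), hinv _ (Or.inr b.2), ← hab]
      simp only
      rw [mul_inv_rev, hcom]
    apply hw1
    refine orderOf_eq_one_iff.1 (Nat.eq_one_of_dvd_coprimes (Nat.coprime_two_left.2 hodd)
      (orderOf_dvd_of_pow_eq_one ?_) (orderOf_dvd_natCard w))
    rw [pow_two]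
    nth_rw 1 [← hw2]
    rw [inv_mul_cancel]
  · -- one line, and the product is trivial modulo it
    have heq : ∀ x : ↥ρ.range, orderOf x = 2 → F s ⊓ F u ≤ F x → F x = F s ⊓ F u := by
      intro x hx hle
      refine (eq_of_le_of_card_ge hle ?_).symm
      obtain ⟨k, hk, hk'⟩ := (Nat.dvd_prime_pow hr).1 ((F s ⊓ F u).card_subgroup_dvd_card.trans hV)
      rw [hF x hx]
      interval_cases k
      · rw [pow_zero, card_eq_one] at hk'
        exact absurd hk' hI
      · rw [hk', pow_one]
      · rw [hk']; nlinarith [hr.two_le]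
    have h1 := heq s hs inf_le_left
    have h2 := heq u hu inf_le_right
    have h3 := heq (s * u) hx3 (fun v hv => by
      rw [hmemF, hprod, (hmemF _ _).1 hv.2, (hmemF _ _).1 hv.1])
    have hmod : ∀ x : ↥ρ.range, orderOf x = 2 → ∀ v, v * (x : MulAut V) v ∈ F x := by
      intro x hx v
      show (x : MulAut V) (v * (x : MulAut V) v) = _
      rw [map_mul, hss hx, hcom]
    have hall : ∀ v : V, v ∈ F s ⊓ F u := by
      intro v
      have a1 : v * (u : MulAut V) v ∈ F s ⊓ F u := h2 ▸ hmod u hu v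
      have a2 : (u : MulAut V) v * (s : MulAut V) ((u : MulAut V) v) ∈ F s ⊓ F u := h1 ▸ hmod s hs _
      have a3 : v * (s : MulAut V) ((u : MulAut V) v) ∈ F s ⊓ F u := h3 ▸ hmod (s * u) hx3 v
      have hv2 : v ^ 2 ∈ F s ⊓ F u := by
        have := (F s ⊓ F u).mul_mem ((F s ⊓ F u).mul_mem a1 a3) ((F s ⊓ F u).inv_mem a2)
        have e : v * (u : MulAut V) v * (v * (s : MulAut V) ((u : MulAut V) v)) *
            ((u : MulAut V) v * (s : MulAut V) ((u : MulAut V) v))⁻¹ = v ^ 2 := by
          letI : CommGroup V := { (inferInstance : Group V) with mul_comm := hcom }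
          simp only [mul_inv_rev]
          rw [pow_two]
          ac_nf
          simp
        rwa [e] at this
      have hco : (orderOf v).Coprime 2 :=
        Nat.Coprime.coprime_dvd_left (orderOf_dvd_natCard v) (Nat.coprime_two_right.2 hodd)
      obtain ⟨m, hm⟩ := exists_pow_eq_self_of_coprime (n := 2) hco.symm
      exact hm ▸ pow_mem hv2 m
    have htop : F s = ⊤ := eq_top_iff.2 fun v _ => (hall v).1
    have := hF s hs
    rw [htop, card_top] at this
    have hsu1 : F s = F (s * u) := h1.trans h3.symm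
    exact hne' (Subtype.ext (MulEquiv.ext fun v => by rw [(hmemF _ _).1 (hall v).1, (hmemF _ _).1 (hall v).2]))

/-- A perfect subgroup centralizes every odd subgroup of order dividing the square of a prime that it normalizes. -/
theorem le_centralizer_of_small {G : Type u} [Group G] [Finite G] (h : Le G) {D V : Subgroup G} (hD : ⁅D, D⁆ = D)
    (hDV : D ≤ normalizer (V : Set G)) {r : ℕ} (hr : r.Prime) (hr2 : r ≠ 2) (hV : Nat.card V ∣ r ^ 2) :
    D ≤ centralizer (V : Set G) := by
  intro d hd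
  refine mem_centralizer_iff.2 fun v hv => ?_
  have h1 := congrArg (fun f : MulAut V => ((f ⟨v, hv⟩ : V) : G))
    (trivial_of_small (h.subgroup D) (commutator_eq_top_of_self hD) hr hr2 hV (Solv.conjAut hDV) ⟨d, hd⟩)
  simp only [Solv.conjAut_apply, MulAut.one_apply] at h1
  exact (mul_inv_eq_iff_eq_mul.1 h1).symm

variable {G : Type u} [Group G] [Finite G]

/-- The fixed points of an element of order `r` have index at least `q ^ m`, if the order of `q` modulo `r` is at
least `m`. -/
theorem pow_ord_le {q r : ℕ} [hq : Fact q.Prime] [hr : Fact r.Prime] (hqr : q ≠ r) (m : ℕ)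
    (hm : ∀ i, 0 < i → i < m → ¬ r ∣ q ^ i - 1) {V : Subgroup G} (hV : IsPGroup q V) {e : G} (he : e ^ r = 1)
    (heV : e ∈ normalizer (V : Set G)) (hne : ¬ ∀ v ∈ V, Commute e v) :
    q ^ m * Nat.card (V ⊓ centralizer ({e} : Set G) : Subgroup G) ≤ Nat.card V := by
  classical
  have hle : zpowers e ≤ normalizer (V : Set G) := zpowers_le.2 heV
  letI : MulAction (zpowers e) V := MulAction.compHom V (Solv.conjAut hle)
  have hp : IsPGroup r (zpowers e) := by
    rcases (Nat.dvd_prime hr.out).1 (orderOf_dvd_of_pow_eq_one he) with h0 | h0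
    · exact IsPGroup.of_card (n := 0) (by rw [Nat.card_zpowers, h0, pow_zero])
    · exact IsPGroup.of_card (n := 1) (by rw [Nat.card_zpowers, h0, pow_one])
  have hmod := hp.card_modEq_card_fixedPoints V
  have hfix : Nat.card (MulAction.fixedPoints (zpowers e) V) =
      Nat.card (V ⊓ centralizer ({e} : Set G) : Subgroup G) := by
    refine Nat.card_congr
      { toFun := fun v => ⟨(v.1 : G), v.1.2, mem_centralizer_singleton_iff.2 ?_⟩
        invFun := fun v => ⟨⟨(v : G), v.2.1⟩, fun k => Subtype.ext ?_⟩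
        left_inv := fun v => rfl
        right_inv := fun v => rfl }
    · have := congrArg Subtype.val (v.2 ⟨e, mem_zpowers e⟩)
      exact ((mul_inv_eq_iff_eq_mul.1 (show e * (v.1 : G) * e⁻¹ = v.1 from this))).symm
    · show (k : G) * (v : G) * (k : G)⁻¹ = v
      obtain ⟨j, hj⟩ := mem_zpowers_iff.1 k.2
      rw [← hj]
      exact mul_inv_eq_iff_eq_mul.2
        (((show Commute e (v : G) from (mem_centralizer_singleton_iff.1 v.2.2).symm).zpow_left j).eq)
  rw [hfix] at hmod
  obtain ⟨k, hk⟩ := IsPGroup.iff_card.1 hV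
  obtain ⟨c, hck, hc⟩ := (Nat.dvd_prime_pow hq.out).1 (hk ▸ card_dvd_of_le
    (inf_le_left : V ⊓ centralizer ({e} : Set G) ≤ V))
  rw [hc, hk, ← pow_add]
  refine Nat.pow_le_pow_right hq.out.pos ?_
  by_contra hlt
  rw [hc, hk] at hmod
  have hlt' : c < k := by
    refine lt_of_le_of_ne hck fun hcc => hne fun v hv => ?_
    have heq : V ⊓ centralizer ({e} : Set G) = V :=
      eq_of_le_of_card_ge inf_le_left (by rw [hk, hc, hcc])
    rw [← heq] at hv
    exact (mem_centralizer_singleton_iff.1 hv.2).symm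
  have hcop : (q ^ c).Coprime r := ((Nat.coprime_primes hq.out hr.out).2 hqr).pow_left c
  have hmd : 1 ≡ q ^ (k - c) [MOD r] := by
    refine Nat.ModEq.cancel_left_of_coprime (c := q ^ c) (by rw [Nat.gcd_comm]; exact hcop) ?_
    rw [mul_one, ← pow_add, Nat.add_sub_cancel' hck]
    exact hmod.symm
  have hd := (Nat.modEq_iff_dvd' (Nat.one_le_pow _ _ hq.out.pos)).1 hmd
  exact hm (k - c) (by omega) (by omega) hd

/-- The fixed points of an element of order `r` have index at least `q ^ 3`. -/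
theorem pow_three_le {q r : ℕ} [hq : Fact q.Prime] [hr : Fact r.Prime] (hqr : q ≠ r) (h1 : ¬ r ∣ q - 1)
    (h2 : ¬ r ∣ q ^ 2 - 1) {V : Subgroup G} (hV : IsPGroup q V) {e : G} (he : e ^ r = 1)
    (heV : e ∈ normalizer (V : Set G)) (hne : ¬ ∀ v ∈ V, Commute e v) :
    q ^ 3 * Nat.card (V ⊓ centralizer ({e} : Set G) : Subgroup G) ≤ Nat.card V :=
  pow_ord_le hqr 3 (fun i hi him => by
    obtain rfl | rfl : i = 1 ∨ i = 2 := by omega
    · rwa [pow_one]
    · exact h2) hV he heV hne

/-- A subgroup of order a square of a prime inside a larger one of prime exponent. -/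
theorem exists_pair_le (h : Le G) {r : ℕ} [hr : Fact r.Prime] {R : Subgroup G} (hR : IsPGroup r R)
    (h2 : r ^ 2 ∣ Nat.card R) : ∃ A ≤ R, Nat.card A = r ^ 2 ∧ IsMulCommutative A := by
  obtain ⟨K, hK⟩ := Sylow.exists_subgroup_card_pow_prime (G := R) r h2
  refine ⟨K.map R.subtype, map_subtype_le K, by rw [card_map_of_injective R.subtype_injective, hK], ?_⟩
  haveI : IsMulCommutative K := ⟨⟨(IsPGroup.commGroupOfCardEqPrimeSq (p := r) hK).mul_comm⟩⟩
  refine ⟨⟨?_⟩⟩
  rintro ⟨_, a, ha, rfl⟩ ⟨_, b, hb, rfl⟩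
  exact Subtype.ext (congrArg (fun x => R.subtype x) (congrArg Subtype.val (mul_comm' (⟨a, ha⟩ : K) ⟨b, hb⟩)))

theorem not_isCyclic_of_sq (h : Le G) {r : ℕ} [hr : Fact r.Prime] {A : Subgroup G} (hA : r ^ 2 ∣ Nat.card A)
    (hAp : IsPGroup r A) : ¬ IsCyclic A := fun hc => by
  haveI := hc
  obtain ⟨⟨g, hg⟩, hgen⟩ := IsCyclic.exists_generator (α := A)
  have h1 : Nat.card A = orderOf (⟨g, hg⟩ : A) := (orderOf_eq_card_of_forall_mem_zpowers hgen).symm
  rw [Subgroup.orderOf_mk] at h1
  exact h.no_sq hr.out g (h1 ▸ pow_two r ▸ hA)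

/-- Some nontrivial element of a noncyclic elementary group has a fixed point. -/
theorem exists_fixed_of_pair (h : Le G) {r : ℕ} [hr : Fact r.Prime] {A V : Subgroup G} (hA : r ^ 2 ∣ Nat.card A)
    (hAp : IsPGroup r A) (hAV : A ≤ normalizer (V : Set G)) (hcop : (Nat.card A).Coprime (Nat.card V))
    (hV : V ≠ ⊥) : ∃ a ∈ A, a ≠ 1 ∧ ∃ v ∈ V, v ≠ 1 ∧ Commute a v := by
  obtain ⟨B, hB, hBc, hBab⟩ := exists_pair_le h hAp hA
  haveI := hBab
  by_contra hno
  push Not at hno
  refine hV (eq_bot_iff.2 ((Coprime.le_iSup_centralizer_of_not_isCyclic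
    (not_isCyclic_of_sq h (hBc ▸ dvd_rfl) (hAp.to_le hB))
    (hB.trans hAV) (hcop.coprime_dvd_left (card_dvd_of_le hB))).trans (iSup_le ?_)))
  rintro ⟨a, ha, ha1⟩ v ⟨hv, hc⟩
  rw [mem_bot]
  by_contra hv1
  exact hno a (hB ha) ha1 v hv hv1 (mem_centralizer_singleton_iff.1 hc).symm

/-- Some nontrivial element has fixed points not all centralized by the whole group. -/
theorem exists_fixed_moved (h : Le G) {r : ℕ} [hr : Fact r.Prime] {A V : Subgroup G} (hA : Nat.card A = r ^ 2)
    [IsMulCommutative A] (hAV : A ≤ normalizer (V : Set G)) (hcop : (Nat.card A).Coprime (Nat.card V))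
    (hne : ¬ A ≤ centralizer (V : Set G)) :
    ∃ a ∈ A, a ≠ 1 ∧ ∃ v ∈ V, Commute a v ∧ ∃ b ∈ A, ¬ Commute b v := by
  by_contra hno
  push Not at hno
  refine hne (le_centralizer_iff.1 ((Coprime.le_iSup_centralizer_of_not_isCyclic
    (not_isCyclic_of_sq h (hA ▸ dvd_rfl) (IsPGroup.of_card hA)) hAV hcop).trans (iSup_le ?_)))
  rintro ⟨a, ha, ha1⟩ v ⟨hv, hc⟩
  exact mem_centralizer_iff.2 fun b hb =>
    (hno a ha ha1 v hv (mem_centralizer_singleton_iff.1 hc).symm b hb).eq

/-- An element acting as a Frobenius complement on a subgroup fixes a point. -/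
theorem exists_fixed_frobenius {V : Subgroup G} [hVc : IsMulCommutative V] (hV : V ≠ ⊥) {S : Subgroup G}
    (hS : (Nat.card V).Coprime (Nat.card S)) (hSV : S ≤ normalizer (V : Set G)) {y : G}
    (hy : y ∈ normalizer (V : Set G)) (hyS : ∀ s ∈ S, y * s * y⁻¹ ∈ S)
    (hfix : ∀ i, 0 < i → i < orderOf y → ∀ s ∈ S, Commute s (y ^ i) → s = 1)
    (hmove : ∃ s ∈ S, ∀ v ∈ V, Commute s v → v = 1) : ∃ v ∈ V, v ≠ 1 ∧ Commute y v := by
  classical
  by_contra hno
  push Not at hno
  letI : CommGroup V := { (inferInstance : Group V) with mul_comm := hVc.is_comm.comm }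
  letI := Fintype.ofFinite S
  set N := normalizer (V : Set G)
  let φ : ↥N →* MulAut V := V.normalizerMonoidHom
  let c : (g : G) → g ∈ N → V → V := fun g hg v => φ ⟨g, hg⟩ v
  have hcv : ∀ g hg v, ((c g hg v : V) : G) = g * v * g⁻¹ := fun g hg v => rfl
  set n := orderOf y with hn
  have hn0 : 0 < n := orderOf_pos y
  have hpowN : ∀ (s : S) (i : ℕ), (s : G) * y ^ i * (s : G)⁻¹ ∈ N := fun s i =>
    N.mul_mem (N.mul_mem (hSV s.2) (N.pow_mem hy i)) (N.inv_mem (hSV s.2))
  haveI := (nontrivial_iff_ne_bot V).2 hV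
  obtain ⟨v, hv⟩ := exists_ne (1 : V)
  apply hv
  -- norm along each conjugate of `⟨y⟩`
  have hw : ∀ s : S, ∏ i ∈ Finset.range n, c _ (hpowN s i) v = 1 := by
    intro s
    set w := ∏ i ∈ Finset.range n, c _ (hpowN s i) v with hwd
    have hstep : c _ (hpowN s 1) w = w := by
      have e : ∀ i, c _ (hpowN s 1) (c _ (hpowN s i) v) = c _ (hpowN s (i + 1)) v := fun i =>
        Subtype.ext (by simp only [hcv, pow_succ', pow_zero, pow_one]; group)
      have h2 := (Finset.prod_range_succ' (fun i => c _ (hpowN s i) v) n).symm.trans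
        (Finset.prod_range_succ (fun i => c _ (hpowN s i) v) n)
      have e0 : c _ (hpowN s n) v = c _ (hpowN s 0) v :=
        Subtype.ext (by simp only [hcv, hn, pow_orderOf_eq_one, pow_zero])
      rw [e0] at h2
      calc c _ (hpowN s 1) w = ∏ i ∈ Finset.range n, c _ (hpowN s 1) (c _ (hpowN s i) v) :=
            map_prod (φ ⟨_, hpowN s 1⟩) _ _
        _ = w := by simp only [e]; exact mul_right_cancel h2
    have hsN : (s : G)⁻¹ ∈ N := N.inv_mem (hSV s.2)
    have h2 : c _ hsN w = 1 := by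
      by_contra h1
      refine hno _ (c _ hsN w).2 (fun e => h1 (Subtype.ext e)) (mul_inv_eq_iff_eq_mul.1 ?_)
      have := congrArg Subtype.val hstep
      simp only [hcv, pow_one] at this
      rw [hcv]
      conv_rhs => rw [← this]
      group
    refine Subtype.ext ?_
    have := congrArg Subtype.val h2
    rw [hcv, Subgroup.coe_one] at this
    exact conj_eq_one_iff.1 this
  have hyi : ∀ (i : ℕ), ∀ s ∈ S, y ^ i * s * (y ^ i)⁻¹ ∈ S := by
    intro i
    induction i with
    | zero => intro s hs; simpa using hs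
    | succ i ih => intro s hs; simpa [pow_succ', mul_assoc, mul_inv_rev] using hyS _ (ih s hs)
  have hi : ∀ i ∈ Finset.range n, i ≠ 0 → ∏ s : S, c _ (hpowN s i) v = 1 := by
    intro i hip hi0
    let e : S → S := fun s => ⟨(s : G) * (y ^ i * (s : G)⁻¹ * (y ^ i)⁻¹), S.mul_mem s.2 (hyi i _ (S.inv_mem s.2))⟩
    have hinj : Function.Injective e := by
      intro s t hst
      have h1 : (s : G) * (y ^ i * (s : G)⁻¹ * (y ^ i)⁻¹) = (t : G) * (y ^ i * (t : G)⁻¹ * (y ^ i)⁻¹) :=
        congrArg Subtype.val hst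
      have h2 : Commute ((t : G)⁻¹ * (s : G)) (y ^ i) := by
        show _ * _ = _ * _
        have h3 := congrArg (fun a => (t : G)⁻¹ * a * (y ^ i) * (s : G)) h1
        simpa [mul_assoc] using h3
      exact Subtype.ext (inv_mul_eq_one.1 (hfix i (Nat.pos_of_ne_zero hi0) (Finset.mem_range.1 hip) _
        (S.mul_mem (S.inv_mem t.2) s.2) h2)).symm
    have hyiN : y ^ i ∈ N := N.pow_mem hy i
    rw [show (∏ s : S, c _ (hpowN s i) v) = ∏ t : S, c _ (hSV t.2) (c _ hyiN v) from
      Fintype.prod_bijective e (Finite.injective_iff_bijective.1 hinj) _ _ fun s =>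
        Subtype.ext (by simp only [hcv, e]; group)]
    obtain ⟨s₀, hs₀, hs₀V⟩ := hmove
    refine Subtype.ext (hs₀V _ (Subtype.mem _) (mul_inv_eq_iff_eq_mul.1 ?_))
    have := congrArg Subtype.val
      (show c _ (hSV hs₀) (∏ t : S, c _ (hSV t.2) (c _ hyiN v)) = ∏ t : S, c _ (hSV t.2) (c _ hyiN v) from by
        refine (map_prod (φ ⟨_, hSV hs₀⟩) _ _).trans ?_
        exact Fintype.prod_bijective (fun t => (⟨s₀, hs₀⟩ : S) * t) (Group.mulLeft_bijective _) _ _ fun t =>
          Subtype.ext (by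
            show s₀ * ((t : G) * _ * (t : G)⁻¹) * s₀⁻¹ = s₀ * (t : G) * _ * (s₀ * (t : G))⁻¹
            group))
    rwa [hcv] at this
  have h1 : ∏ i ∈ Finset.range n, ∏ s : S, c _ (hpowN s i) v = 1 := by
    rw [Finset.prod_comm]; exact Finset.prod_eq_one fun s _ => hw s
  rw [Finset.prod_eq_single 0 hi (fun h0 => absurd (Finset.mem_range.2 hn0) h0)] at h1
  rw [show (fun s : S => c _ (hpowN s 0) v) = fun _ => v from funext fun s => Subtype.ext (by
    simp only [hcv, pow_zero, mul_one, mul_inv_cancel, one_mul, inv_one])] at h1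
  rw [Finset.prod_const, Finset.card_univ, ← Nat.card_eq_fintype_card] at h1
  exact orderOf_eq_one_iff.1 (Nat.eq_one_of_dvd_coprimes hS (orderOf_dvd_natCard v) (orderOf_dvd_of_pow_eq_one h1))

end Cfsg.Lib.Spec.JOneSq
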