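import Cfsg.Agent.Lib.J1.Spectrum
import Cfsg.Agent.Lib.Core.PSolvable
import Mathlib

/-!
# Groups whose element orders occur in `J₁ × J₁`
-/

set_option autoImplicit false
set_option linter.style.haveILetI false
set_option linter.unusedSectionVars false

namespace Cfsg.Lib.Spec.JOneSq

open Subgroup

universe u v

/-- The element orders of `J₁ × J₁`. -/
def omega : List ℕ :=
  Cfsg.Lib.J1.ordList.flatMap fun a => Cfsg.Lib.J1.ordList.map fun b => Nat.lcm a b

/-- Every element order occurs in `J₁ × J₁`. -/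
def Le (G : Type u) [Group G] : Prop := ∀ g : G, orderOf g ∈ omega

/-- Every element order of `J₁ × J₁` occurs. -/
def Ge (G : Type u) [Group G] : Prop := ∀ n ∈ omega, ∃ g : G, orderOf g = n

/-- `n` divides no element order of `J₁ × J₁`. -/
def Bad (n : ℕ) : Prop := ∀ m ∈ omega, ¬ n ∣ m

instance (n : ℕ) : Decidable (Bad n) := inferInstanceAs (Decidable (∀ m ∈ omega, ¬ n ∣ m))

/-- The primes seven, eleven and nineteen. -/
def Big (p : ℕ) : Prop := p = 7 ∨ p = 11 ∨ p = 19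

theorem Big.prime {p : ℕ} (h : Big p) : p.Prime := by
  rcases h with rfl | rfl | rfl <;> norm_num

theorem six_of_dvd : ∀ m ∈ omega, ∀ p ∈ m.divisors, p.Prime →
    p = 2 ∨ p = 3 ∨ p = 5 ∨ p = 7 ∨ p = 11 ∨ p = 19 := by decide +kernel

theorem pos_of_mem : ∀ m ∈ omega, 0 < m := by decide +kernel

theorem bad_sq : ∀ p ∈ [2, 3, 5, 7, 11, 19], Bad (p * p) := by decide +kernel

theorem bad_three_list : ∀ p ∈ [7, 11, 19], ∀ r ∈ [7, 11, 19], ∀ s ∈ [2, 3, 5, 7, 11, 19],
    p ≠ r → p ≠ s → r ≠ s → Bad (p * r * s) := by decide +kernel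

variable {G : Type u} [Group G] [Finite G]

theorem Le.not_bad (h : Le G) {g : G} {n : ℕ} (hb : Bad n) (hd : n ∣ orderOf g) : False :=
  hb _ (h g) hd

theorem exists_orderOf_of_dvd {g : G} {n : ℕ} (hd : n ∣ orderOf g) :
    ∃ m : ℕ, orderOf (g ^ m) = n := by
  refine ⟨orderOf g / n, orderOf_pow_orderOf_div (orderOf_pos g).ne' hd⟩

theorem Le.quotient (h : Le G) (N : Subgroup G) [N.Normal] : Le (G ⧸ N) := by
  intro x
  obtain ⟨g, rfl⟩ := QuotientGroup.mk'_surjective N x
  obtain ⟨m, hm⟩ := exists_orderOf_of_dvd (orderOf_map_dvd (QuotientGroup.mk' N) g)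
  exact hm ▸ h _

omit [Finite G] in
theorem Le.of_injective {H : Type v} [Group H] (f : H →* G) (hf : Function.Injective f) (h : Le G) : Le H :=
  fun x => orderOf_injective f hf x ▸ h (f x)

omit [Finite G] in
theorem Le.subgroup (h : Le G) (H : Subgroup G) : Le H := h.of_injective H.subtype H.subtype_injective

theorem Le.of_surjective {H : Type v} [Group H] (f : G →* H) (hf : Function.Surjective f) (h : Le G) : Le H := by
  intro x
  obtain ⟨g, rfl⟩ := hf x
  obtain ⟨m, hm⟩ := exists_orderOf_of_dvd (orderOf_map_dvd f g)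
  exact hm ▸ h _

theorem Le.six (h : Le G) {p : ℕ} (hp : p.Prime) (hd : p ∣ Nat.card G) :
    p = 2 ∨ p = 3 ∨ p = 5 ∨ p = 7 ∨ p = 11 ∨ p = 19 := by
  haveI := Fact.mk hp
  obtain ⟨g, hg⟩ := exists_prime_orderOf_dvd_card' p hd
  refine six_of_dvd _ (h g) p ?_ hp
  rw [hg]
  exact Nat.mem_divisors.2 ⟨dvd_rfl, hp.ne_zero⟩

theorem Le.no_sq (h : Le G) {p : ℕ} (hp : p.Prime) (g : G) : ¬ p * p ∣ orderOf g := fun hd => by
  refine h.not_bad (bad_sq p ?_) hd
  have hd' : p ∣ orderOf g := (dvd_mul_right p p).trans hd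
  have := six_of_dvd _ (h g) p (Nat.mem_divisors.2 ⟨hd', (orderOf_pos g).ne'⟩) hp
  simp only [List.mem_cons, List.not_mem_nil, or_false]
  exact this

/-- The Sylow subgroups have prime exponent. -/
theorem Le.pow_prime (h : Le G) {p : ℕ} (hp : p.Prime) {g : G} (hg : ∃ k, orderOf g = p ^ k) : g ^ p = 1 := by
  obtain ⟨k, hk⟩ := hg
  refine orderOf_dvd_iff_pow_eq_one.1 ?_
  rcases k with _ | _ | k
  · rw [hk]; simp
  · rw [hk, pow_one]
  · exact absurd (show p * p ∣ orderOf g from hk ▸ ⟨p ^ k, by ring⟩) (h.no_sq hp g)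

omit [Finite G] in
theorem IsPGroup_orderOf {p : ℕ} [Fact p.Prime] {P : Subgroup G} (hP : IsPGroup p P) {x : G} (hx : x ∈ P) :
    ∃ k, orderOf x = p ^ k := by
  obtain ⟨k, hk⟩ := IsPGroup.iff_orderOf.1 hP ⟨x, hx⟩
  exact ⟨k, by rw [← hk, Subgroup.orderOf_mk]⟩

theorem Le.pow_of_mem (h : Le G) {p : ℕ} [hp : Fact p.Prime] {P : Subgroup G} (hP : IsPGroup p P) {x : G}
    (hx : x ∈ P) : x ^ p = 1 :=
  h.pow_prime hp.out (IsPGroup_orderOf hP hx)

theorem Le.orderOf_of_mem (h : Le G) {p : ℕ} [hp : Fact p.Prime] {P : Subgroup G} (hP : IsPGroup p P) {x : G}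
    (hx : x ∈ P) (hx1 : x ≠ 1) : orderOf x = p :=
  orderOf_eq_prime (h.pow_of_mem hP hx) hx1

/-- Two-subgroups are commutative. -/
theorem Le.two_comm (h : Le G) {P : Subgroup G} (hP : IsPGroup 2 P) : IsMulCommutative P := by
  haveI : Fact (Nat.Prime 2) := ⟨Nat.prime_two⟩
  refine ⟨⟨fun a b => Subtype.ext ?_⟩⟩
  have e : ∀ {x : G}, x ∈ P → x⁻¹ = x := fun hx =>
    inv_eq_of_mul_eq_one_right (by rw [← pow_two]; exact h.pow_of_mem hP hx)
  have := e (P.mul_mem a.2 b.2)
  rw [mul_inv_rev, e a.2, e b.2] at this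
  exact this.symm

theorem Le.sylow_two_comm (h : Le G) (P : Sylow 2 G) : IsMulCommutative (P : Subgroup G) :=
  h.two_comm P.2

theorem dvd_orderOf_mul {a b : G} (hc : Commute a b) {m n : ℕ} (hm : m ∣ orderOf a) (hn : n ∣ orderOf b)
    (hmn : m.Coprime n) : ∃ g : G, orderOf g = m * n := by
  obtain ⟨i, hi⟩ := exists_orderOf_of_dvd hm
  obtain ⟨j, hj⟩ := exists_orderOf_of_dvd hn
  exact ⟨a ^ i * b ^ j, by rw [(hc.pow_pow i j).orderOf_mul_eq_mul_orderOf_of_coprime (by rw [hi, hj]; exact hmn), hi, hj]⟩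

theorem Le.not_bad_commute (h : Le G) {a b : G} (hc : Commute a b) {m n : ℕ} (hm : m ∣ orderOf a)
    (hn : n ∣ orderOf b) (hmn : m.Coprime n) (hb : Bad (m * n)) : False := by
  obtain ⟨g, hg⟩ := dvd_orderOf_mul hc hm hn hmn
  exact h.not_bad (g := g) hb (hg ▸ dvd_rfl)

theorem Le.bad_big (h : Le G) {p r s : ℕ} (hp : Big p) (hr : Big r) (hs : s.Prime) (hsd : s ∣ Nat.card G)
    (hpr : p ≠ r) (hps : p ≠ s) (hrs : r ≠ s) : Bad (p * r * s) := by
  refine bad_three_list p ?_ r ?_ s ?_ hpr hps hrs <;> simp only [List.mem_cons, List.not_mem_nil, or_false]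
  · exact hp
  · exact hr
  · exact h.six hs hsd

/-- No three commuting elements of orders two big primes and a third prime. -/
theorem Le.no_three (h : Le G) {p r s : ℕ} (hp : Big p) (hr : Big r) (hs : s.Prime) (hpr : p ≠ r) (hps : p ≠ s)
    (hrs : r ≠ s) {a b c : G} (ha : p ∣ orderOf a) (hb : r ∣ orderOf b) (hc : s ∣ orderOf c)
    (hab : Commute a b) (hac : Commute a c) (hbc : Commute b c) : False := by
  obtain ⟨i, hi⟩ := exists_orderOf_of_dvd ha
  obtain ⟨j, hj⟩ := exists_orderOf_of_dvd hb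
  have hcop : p.Coprime r := (Nat.coprime_primes hp.prime hr.prime).2 hpr
  have hmul : orderOf (a ^ i * b ^ j) = p * r := by
    rw [(hab.pow_pow i j).orderOf_mul_eq_mul_orderOf_of_coprime (by rw [hi, hj]; exact hcop), hi, hj]
  refine h.not_bad_commute (a := a ^ i * b ^ j) (b := c) ((hac.pow_left i).mul_left (hbc.pow_left j))
    (hmul ▸ dvd_rfl) hc (Nat.Coprime.mul_left ((Nat.coprime_primes hp.prime hs).2 hps)
      ((Nat.coprime_primes hr.prime hs).2 hrs)) (h.bad_big hp hr hs ?_ hpr hps hrs)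
  exact hc.trans (orderOf_dvd_natCard c)

/-- No element of order the product of two big primes commutes with one of a third prime order. -/
theorem Le.no_three' (h : Le G) {p r s : ℕ} (hp : Big p) (hr : Big r) (hs : s.Prime) (hpr : p ≠ r) (hps : p ≠ s)
    (hrs : r ≠ s) {g c : G} (hg : p * r ∣ orderOf g) (hc : s ∣ orderOf c) (hgc : Commute g c) : False := by
  refine h.not_bad_commute hgc hg hc (Nat.Coprime.mul_left ((Nat.coprime_primes hp.prime hs).2 hps)
      ((Nat.coprime_primes hr.prime hs).2 hrs)) (h.bad_big hp hr hs (hc.trans (orderOf_dvd_natCard c)) hpr hps hrs)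

/-- The centralizer of a Sylow two-subgroup of a normal subgroup covers every quotient without normal subgroups of
odd index. -/
theorem Le.centralizer_sup (h : Le G) (N : Subgroup G) [hN : N.Normal]
    (hgen : ∀ K : Subgroup G, K.Normal → N ≤ K → Odd K.index → K = ⊤) (E : Sylow 2 N) :
    centralizer (((E : Subgroup N).map N.subtype : Subgroup G) : Set G) ⊔ N = ⊤ := by
  haveI : Fact (Nat.Prime 2) := ⟨Nat.prime_two⟩
  set E' := (E : Subgroup N).map N.subtype with hE'
  set C := centralizer (E' : Set G) with hC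
  -- every two-element lies in the join
  have hmem : ∀ (P : Sylow 2 G), ∀ x ∈ (P : Subgroup G), x ∈ C ⊔ N := by
    intro P x hx
    obtain ⟨Q, hQ⟩ := (E.2.map N.subtype : IsPGroup 2 E').exists_le_sylow
    obtain ⟨g, rfl⟩ := MulAction.exists_smul_eq G Q P
    have hQC : (Q : Subgroup G) ≤ C := fun y hy => mem_centralizer_iff.2 fun e he =>
      congrArg Subtype.val ((h.sylow_two_comm Q).is_comm.comm ⟨e, hQ he⟩ ⟨y, hy⟩)
    obtain ⟨y, hy, rfl⟩ := hx
    -- the normalizer of `E` covers the quotient, and normalizes `C`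
    have hF := Sylow.normalizer_sup_eq_top E
    obtain ⟨n, hn, k, hk, rfl⟩ : ∃ n ∈ normalizer (E' : Set G), ∃ k ∈ N, g = n * k := by
      have hg : g ∈ normalizer (E' : Set G) ⊔ N := by rw [hF]; exact mem_top g
      obtain ⟨n, hn, k, hk, hnk⟩ := (Subgroup.mem_sup_of_normal_right).1 hg
      exact ⟨n, hn, k, hk, hnk.symm⟩
    have h1 : k * y * k⁻¹ ∈ C ⊔ N := by
      rw [show k * y * k⁻¹ = y * (y⁻¹ * k * y * k⁻¹) by group]
      exact mul_mem (mem_sup_left (hQC hy)) (mem_sup_right (mul_mem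
        (by simpa using hN.conj_mem k hk y⁻¹) (inv_mem hk)))
    obtain ⟨c, hc, m, hm, hcm⟩ := (Subgroup.mem_sup_of_normal_right).1 h1
    show MulAut.conj (n * k) y ∈ C ⊔ N
    rw [MulAut.conj_apply, show n * k * y * (n * k)⁻¹ = (n * c * n⁻¹) * (n * m * n⁻¹) by
      rw [mul_inv_rev, show n * k * y * (k⁻¹ * n⁻¹) = n * (k * y * k⁻¹) * n⁻¹ by group, ← hcm]; group]
    refine mul_mem (mem_sup_left (mem_centralizer_iff.2 fun e he => ?_)) (mem_sup_right (hN.conj_mem m hm n))
    have he' : n⁻¹ * e * n ∈ E' := (mem_normalizer_iff''.1 hn e).1 he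
    have h2 := mem_centralizer_iff.1 hc _ he'
    calc e * (n * c * n⁻¹) = n * (n⁻¹ * e * n * c) * n⁻¹ := by group
      _ = n * (c * (n⁻¹ * e * n)) * n⁻¹ := by rw [h2]
      _ = n * c * n⁻¹ * e := by group
  -- hence every conjugate of the join has odd index
  set K := (C ⊔ N).normalCore with hK
  have hKge : ∀ (P : Sylow 2 G), (P : Subgroup G) ≤ K := fun P x hx g =>
    hmem (g • P) _ ⟨x, hx, rfl⟩
  have hNK : N ≤ K := Subgroup.normal_le_normalCore.2 le_sup_right
  have hKtop : K = ⊤ := by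
    refine hgen K inferInstance hNK (Nat.not_even_iff_odd.1 fun he => ?_)
    obtain ⟨P⟩ : Nonempty (Sylow 2 G) := inferInstance
    exact P.not_dvd_index ((even_iff_two_dvd.1 he).trans (index_dvd_of_le (hKge P)))
  exact eq_top_iff.2 (hKtop.ge.trans (normalCore_le _))

end Cfsg.Lib.Spec.JOneSq
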