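import Cfsg.Agent.Lib.Spec.JOneSquare.Radical

/-!
# A group mapping onto the first Janko group with separable kernel
-/

set_option autoImplicit false
set_option linter.style.haveILetI false
set_option linter.unusedSectionVars false

namespace Cfsg.Lib.Spec.JOneSq

open Subgroup

universe u

variable {G : Type u} [Group G] [Finite G]

theorem bigs_split : ∀ l ∈ [7, 11, 19], ∃ r ∈ [7, 19], ∃ t ∈ [7, 11, 19],
    r ≠ l ∧ t ≠ l ∧ r ≠ t ∧ l * r ∈ omega ∧ l * t ∈ omega ∧ l * 2 ∈ omega := by decide +kernel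

theorem big_of_mem {p : ℕ} (h : p ∈ [7, 11, 19]) : Big p := by
  simpa [Big] using h

/-- The primes seven, eleven and nineteen divide the kernel. -/
theorem dvd_ker (h : Le G) (hge : Ge G) (φ : G →* ↥Spor.J1) (hφ : Function.Surjective φ) (hsep : Sep φ.ker)
    {l : ℕ} (hl : Big l) : l ∣ Nat.card φ.ker := by
  classical
  haveI := finite_J1
  by_contra hnl
  haveI := Fact.mk hl.prime
  obtain ⟨r, hr, t, ht, hrl, htl, hrt, hlr, hlt, hl2⟩ := bigs_split l hl.mem
  have hr' : r = 7 ∨ r = 19 := by simpa using hr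
  have hrB : Big r := by rcases hr' with rfl | rfl <;> simp [Big]
  have htB : Big t := big_of_mem ht
  haveI := Fact.mk hrB.prime
  have hcardG : Nat.card G = Nat.card φ.ker * 175560 := by
    rw [← card_J1, ← Nat.card_congr (QuotientGroup.quotientKerEquivOfSurjective φ hφ).toEquiv, mul_comm]
    exact card_eq_card_quotient_mul_card_subgroup φ.ker
  have hlJ : l ∣ 175560 ∧ ¬ l ^ 2 ∣ 175560 := by rcases hl with rfl | rfl | rfl <;> norm_num
  have hl1 : l ∣ Nat.card G := hcardG ▸ dvd_mul_of_dvd_right hlJ.1 _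
  have hl2' : ¬ l ^ 2 ∣ Nat.card G := fun hd => hlJ.2
    (Nat.Coprime.dvd_of_dvd_mul_left ((hl.prime.coprime_iff_not_dvd.2 hnl).pow_left 2) (hcardG ▸ hd))
  obtain ⟨a, ha⟩ := exists_prime_orderOf_dvd_card' l hl1
  set X := φ.ker ⊓ centralizer ({a} : Set G) with hX
  have mem : ∀ {q : ℕ}, q.Prime → l ≠ q → l * q ∈ omega → q ∣ Nat.card X := by
    intro q hq hlq hmem
    haveI := Fact.mk hq
    obtain ⟨g, hg, hga, hc⟩ := exists_commuting hlq hl2' ha (hge _ hmem)
    have hgl : orderOf (g ^ l) = q := by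
      rw [orderOf_pow' _ hl.prime.ne_zero, hg, Nat.gcd_mul_right_left, Nat.mul_div_cancel_left _ hl.prime.pos]
    have hgq : orderOf (g ^ q) = l := by
      rw [orderOf_pow' _ hq.ne_zero, hg, Nat.gcd_mul_left_left, Nat.mul_div_cancel _ hq.pos]
    have hker : g ^ l ∈ φ.ker := by
      rw [MonoidHom.mem_ker]
      have hy : orderOf (φ (g ^ q)) = l := by
        rw [orderOf_map_coprime φ (hgq.symm ▸ hl.prime.coprime_iff_not_dvd.2 hnl), hgq]
      have hmem' : φ (g ^ l) ∈ centralizer ({φ (g ^ q)} : Set ↥Spor.J1) :=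
        mem_centralizer_singleton_iff.2 (((Commute.refl g).pow_pow l q).map φ).eq
      have h1 := Subgroup.orderOf_dvd_natCard _ hmem'
      rw [card_centralizer_big card_J1 mem_spec hl hy] at h1
      exact orderOf_eq_one_iff.1 (Nat.eq_one_of_dvd_coprimes ((Nat.coprime_primes hl.prime hq).2 hlq) h1
        (hgl ▸ orderOf_map_dvd φ (g ^ l)))
    rw [← hgl]
    exact Subgroup.orderOf_dvd_natCard _ ⟨hker, mem_centralizer_singleton_iff.2 (hc.pow_right l).eq.symm⟩
  have hXsep : Sep X := hsep.of_le inf_le_left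
  have hcomm : ∀ g : X, Commute a (g : G) := fun g => (mem_centralizer_singleton_iff.1 g.2.2).symm
  have horda : l ∣ orderOf a := ha.symm.dvd
  refine no_triangle (G := X) (h.subgroup X) (r := r) (s := 2) (t := t) hrB.ne_two (hXsep.psolvable hr')
    Nat.prime_two htB.prime hrB.ne_two hrt htB.ne_two.symm (mem hrB.prime hrl.symm hlr)
    (mem Nat.prime_two hl.ne_two hl2) (mem htB.prime htl.symm hlt) (fun q hq hqr g hd => ?_) (fun g hd => ?_)
  · rw [← Subgroup.orderOf_coe] at hd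
    have hql : q ≠ l := by
      rintro rfl
      exact hnl (((dvd_mul_left q r).trans hd).trans (Subgroup.orderOf_dvd_natCard _ g.2.1))
    exact h.no_three hrB hl hq hrl hqr.symm hql.symm ((dvd_mul_right r q).trans hd) horda
      ((dvd_mul_left q r).trans hd) (hcomm g).symm (Commute.refl _) (hcomm g)
  · rw [← Subgroup.orderOf_coe] at hd
    exact h.no_three htB hl Nat.prime_two htl htB.ne_two hl.ne_two ((dvd_mul_left t 2).trans hd) horda
      ((dvd_mul_right 2 t).trans hd) (hcomm g).symm (Commute.refl _) (hcomm g)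

theorem odd_of_primes {n : ℕ} (hn : n ≠ 0) (h : ∀ q : ℕ, q.Prime → q ∣ n → q ≠ 2) : Odd n := by
  rw [← Nat.not_even_iff_odd, even_iff_two_dvd]
  exact fun hd => h 2 Nat.prime_two hd rfl

/-- Case B with solvable kernel. -/
theorem not_caseB_solvable (h : Le G) (hge : Ge G) (φ : G →* ↥Spor.J1) (hφ : Function.Surjective φ)
    (hsep : Sep φ.ker) [Group.IsSolvable φ.ker] : False := by
  classical
  obtain ⟨T₀, hT₀⟩ := Solv.exists_isPiHall ({7, 11, 19} : Set ℕ) φ.ker
  set T := T₀.map φ.ker.subtype with hT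
  have hcard : Nat.card T = Nat.card T₀ := card_map_of_injective φ.ker.subtype_injective
  have hcover : (normalizer (T : Set G)).map φ = ⊤ := by
    rw [← MonoidHom.range_eq_top.2 hφ, MonoidHom.range_eq_map,
      ← map_inf_normalizer_hall φ (C := ⊤) (H := φ.ker) le_rfl le_top le_normalizer_of_normal hT₀, top_inf_eq]
  obtain ⟨D, hD, hDp, hDmap⟩ := exists_perfect_map φ perfect_J1 hcover
  obtain ⟨d, hd, hd1⟩ : ∃ d ∈ D, φ d ≠ 1 := by
    by_contra hcon
    push Not at hcon
    haveI := simple_J1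
    obtain ⟨x, hx⟩ := exists_ne (1 : ↥Spor.J1)
    obtain ⟨d, hd, hde⟩ := (hDmap ▸ mem_top x : x ∈ D.map φ)
    exact hx (hde ▸ hcon d hd)
  obtain ⟨t, ht, ht2, ht1⟩ := exists_invol_notin h hDp φ ⟨d, hd, hd1⟩
  have hTodd : Odd (Nat.card T) := odd_of_primes Nat.card_pos.ne' fun q hq hqd => by
    rw [hcard] at hqd
    have := hT₀.1 q hq hqd
    simp at this
    omega
  haveI : Group.IsSolvable T := Core.isSolvable_of_le (map_subtype_le _) inferInstance
  set X := T ⊓ centralizer ({t} : Set G) with hX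
  haveI : Group.IsSolvable X := Core.isSolvable_of_le inf_le_left inferInstance
  have hmem : ∀ {q : ℕ}, Big q → q ∣ Nat.card X := by
    intro q hq
    have hqT : q ∣ Nat.card T := by
      rw [hcard]
      exact Solv.dvd_card_piHall hT₀ hq.prime (by rcases hq with rfl | rfl | rfl <;> simp) (dvd_ker h hge φ hφ hsep hq)
    obtain ⟨a, haT, hao, hac⟩ := exists_fixed_prime' h hDp hD hTodd ht ht2 hq.prime hqT
    rw [← hao]
    exact Subgroup.orderOf_dvd_natCard _ ⟨haT, mem_centralizer_singleton_iff.2 hac.eq.symm⟩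
  have hto : orderOf t = 2 := orderOf_eq_prime (by rw [pow_two, ht2]) fun e => ht1 (by rw [e, map_one])
  obtain ⟨⟨x, hx⟩, hxo⟩ := Solv.three_primes (G := X) (p := 7) (q := 11) (r := 19) (by norm_num) (by norm_num)
    (by norm_num) (by norm_num) (by norm_num) (by norm_num) (hmem (by simp [Big])) (hmem (by simp [Big]))
    (hmem (by simp [Big]))
  rw [Subgroup.orderOf_mk] at hxo
  have hc : Commute x t := mem_centralizer_singleton_iff.1 hx.2
  rcases hxo with hxo | hxo | hxo
  · exact h.no_three' (p := 7) (r := 11) (s := 2) (by simp [Big]) (by simp [Big]) Nat.prime_two (by norm_num)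
      (by norm_num) (by norm_num) hxo.symm.dvd hto.symm.dvd hc
  · exact h.no_three' (p := 7) (r := 19) (s := 2) (by simp [Big]) (by simp [Big]) Nat.prime_two (by norm_num)
      (by norm_num) (by norm_num) hxo.symm.dvd hto.symm.dvd hc
  · exact h.no_three' (p := 11) (r := 19) (s := 2) (by simp [Big]) (by simp [Big]) Nat.prime_two (by norm_num)
      (by norm_num) (by norm_num) hxo.symm.dvd hto.symm.dvd hc

theorem not_caseB (h : Le G) (hge : Ge G) (φ : G →* ↥Spor.J1) (hφ : Function.Surjective φ) (hsep : Sep φ.ker) :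
    False := by
  classical
  by_cases hsol : Group.IsSolvable φ.ker
  · exact not_caseB_solvable h hge φ hφ hsep
  haveI := finite_J1
  obtain ⟨R, hRn, hRN, hRs, -, hrad⟩ := exists_radical h hsep hsol
  haveI := hRn
  haveI := hRs
  have hrad' : ∀ z : G, z ^ 133 = 1 → ∃ M₁ : Subgroup G, R ≤ M₁ ∧ ¬ Group.IsSolvable M₁ ∧
      ∀ g ∈ M₁, z * g * z⁻¹ * g⁻¹ ∈ R := fun z hz => by
    obtain ⟨M₁, h1, -, h2, h3⟩ := hrad z hz
    exact ⟨M₁, h1, h2, h3⟩
  obtain ⟨M, hRM, hMN, hMns, -⟩ := hrad 1 (one_pow _)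
  have hex133 := hge 133 (by decide)
  have hsq7 := sq_dvd_radical h hex133 hrad' (r := 7) (p := 19) (Or.inl ⟨rfl, rfl⟩)
  have hsq19 := sq_dvd_radical h hex133 hrad' (r := 19) (p := 7) (Or.inr ⟨rfl, rfl⟩)
  obtain ⟨T, hTR, hTπ, -, hTdvd, hTcover, D, hD, hDp, hD0⟩ := exists_hall_perfect h hRM hMns
  set G₁ := normalizer (T : Set G) with hG₁
  have hcover : G₁.map φ = ⊤ := (hTcover φ hRN).trans (MonoidHom.range_eq_top.2 hφ)
  obtain ⟨d, hd1⟩ := ne_bot_iff_exists_ne_one.1 hD0
  obtain ⟨x, hx, hx2, hx1⟩ := exists_invol_notin h hDp (MonoidHom.id G)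
    ⟨d, d.2, fun e => hd1 (Subtype.ext e)⟩
  have hxo : orderOf x = 2 := orderOf_eq_prime (by rw [pow_two, hx2]) hx1
  have hTodd : Odd (Nat.card T) := odd_of_primes Nat.card_pos.ne' fun q hq hqd => by
    rcases hTπ q hq hqd with rfl | rfl <;> norm_num
  haveI : Group.IsSolvable T := Core.isSolvable_of_le hTR hRs
  set X := T ⊓ centralizer ({x} : Set G) with hX
  haveI : Group.IsSolvable X := Core.isSolvable_of_le inf_le_left inferInstance
  have hmem : ∀ q : ℕ, q = 7 ∨ q = 19 → q ∣ Nat.card X := by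
    intro q hq
    have hqp : q.Prime := by rcases hq with rfl | rfl <;> norm_num
    have h2 : q ^ 2 ∣ Nat.card R := by rcases hq with rfl | rfl; exacts [hsq7, hsq19]
    obtain ⟨a, haT, hao, hac⟩ := exists_fixed_prime' h hDp (hD.trans inf_le_right) hTodd hx hx2 hqp
      ((dvd_pow_self q two_ne_zero).trans (hTdvd q 2 hq h2))
    rw [← hao]
    exact Subgroup.orderOf_dvd_natCard _ ⟨haT, mem_centralizer_singleton_iff.2 hac.eq.symm⟩
  -- a cyclic Sylow subgroup of `X`
  haveI : Fact (Nat.Prime 7) := ⟨by norm_num⟩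
  haveI : Fact (Nat.Prime 19) := ⟨by norm_num⟩
  obtain ⟨c, q, hcq, hcore⟩ : ∃ c q : ℕ, ((c = 7 ∧ q = 19) ∨ (c = 19 ∧ q = 7)) ∧ core q X ≠ ⊥ := by
    haveI : Nontrivial X := Finite.one_lt_card_iff_nontrivial.1
      (lt_of_lt_of_le (by norm_num : 1 < 7) (Nat.le_of_dvd Nat.card_pos (hmem 7 (Or.inl rfl))))
    obtain ⟨W, hW⟩ := Core.exists_isMinNormal_univ (G := X)
    obtain ⟨-, q, hq, -, hWq⟩ := Core.minimal_solvable_elementary hW inferInstance
    haveI := Fact.mk hq
    have hq' := hTπ q hq (((dvd_card_of_pgroup hWq hW.2.1).trans (card_subgroup_dvd_card W)).trans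
      (card_dvd_of_le inf_le_left))
    have hne : core q X ≠ ⊥ := fun e => hW.2.1 (eq_bot_iff.2 ((Core.le_pCore' hW.1 hWq).trans
      (core_eq_bot_iff.1 e).le))
    rcases hq' with rfl | rfl
    · exact ⟨19, 7, Or.inr ⟨rfl, rfl⟩, hne⟩
    · exact ⟨7, 19, Or.inl ⟨rfl, rfl⟩, hne⟩
  have hcB : Big c := by rcases hcq with ⟨rfl, -⟩ | ⟨rfl, -⟩ <;> simp [Big]
  have hqB : Big q := by rcases hcq with ⟨-, rfl⟩ | ⟨-, rfl⟩ <;> simp [Big]
  have hc7 : c = 7 ∨ c = 19 := by omega
  haveI := Fact.mk hcB.prime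
  haveI := Fact.mk hqB.prime
  have hcq' : c ≠ q := by omega
  obtain ⟨P⟩ : Nonempty (Sylow c X) := inferInstance
  set Z := (P : Subgroup X).map X.subtype with hZdef
  have hZp : IsPGroup c Z := P.2.map _
  have hZc : Nat.card Z = c := by
    obtain ⟨k, hk⟩ := IsPGroup.iff_card.1 hZp
    have hd : c ∣ Nat.card Z := by
      rw [hZdef, card_map_of_injective X.subtype_injective]
      exact P.dvd_card_of_dvd_card (hmem c hc7)
    rcases k with _ | _ | k
    · rw [hk, pow_zero] at hd; exact absurd hd hcB.prime.not_dvd_one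
    · simpa using hk
    · exfalso
      obtain ⟨a, ha, ha1, v, hv, hv1, hav⟩ := exists_fixed_of_pair h (V := core q X)
        (hk ▸ pow_dvd_pow c (by omega : 2 ≤ k + 1 + 1)) hZp ((map_subtype_le _).trans (le_normalizer_core q X))
        (IsPGroup.coprime_card_of_ne c q hcq' Z _ hZp (core_isPGroup q X)) hcore
      exact h.no_three hcB hqB Nat.prime_two hcq' hcB.ne_two hqB.ne_two (h.orderOf_of_mem hZp ha ha1).symm.dvd
        (h.orderOf_of_mem (core_isPGroup q X) hv hv1).symm.dvd hxo.symm.dvd hav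
        (mem_centralizer_singleton_iff.1 ((map_subtype_le _ ha : a ∈ X).2))
        (mem_centralizer_singleton_iff.1 ((core_le q X hv).2))
  -- the centralizer of `x` covers
  haveI : Fact (Nat.Prime 2) := ⟨Nat.prime_two⟩
  set f := φ.comp G₁.subtype with hf
  have hfs : Function.Surjective f := fun y => by
    obtain ⟨g, hg, hgy⟩ := (hcover ▸ mem_top y : y ∈ G₁.map φ)
    exact ⟨⟨g, hg⟩, hgy⟩
  have hxG : x ∈ G₁ := (hD hx).2
  have hxN : (⟨x, hxG⟩ : G₁) ∈ f.ker := MonoidHom.mem_ker.2 (show φ x = 1 from MonoidHom.mem_ker.1 (hMN (hD hx).1))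
  obtain ⟨E, hE⟩ := (show IsPGroup 2 (zpowers (⟨⟨x, hxG⟩, hxN⟩ : f.ker)) from IsPGroup.of_card (n := 1)
    (by rw [Nat.card_zpowers, Subgroup.orderOf_mk, Subgroup.orderOf_mk, hxo, pow_one])).exists_le_sylow
  have hsup := (h.subgroup G₁).centralizer_sup f.ker (fun K hK hle hodd => by
    haveI := hK
    let g : ↥Spor.J1 →* ↥G₁ ⧸ K := (QuotientGroup.map f.ker K (MonoidHom.id _) hle).comp
      (QuotientGroup.quotientKerEquivOfSurjective f hfs).symm.toMonoidHom
    refine eq_top_iff.2 fun a _ => (QuotientGroup.eq_one_iff a).1 ?_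
    have e1 : (QuotientGroup.quotientKerEquivOfSurjective f hfs).symm (f a) = QuotientGroup.mk a :=
      (MulEquiv.symm_apply_eq _).2 rfl
    have e2 : g (f a) = QuotientGroup.mk a := by
      show QuotientGroup.map f.ker K (MonoidHom.id _) hle
        ((QuotientGroup.quotientKerEquivOfSurjective f hfs).symm (f a)) = _
      rw [e1]; rfl
    rw [← e2]
    exact j_odd_trivial (show Odd (Nat.card (↥G₁ ⧸ K)) from hodd) g _) E
  set C₁ := G₁ ⊓ centralizer ({x} : Set G) with hC₁
  have hC₁map : C₁.map φ = ⊤ := by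
    refine eq_top_iff.2 fun y _ => ?_
    obtain ⟨g, rfl⟩ := hfs y
    obtain ⟨c', hc', k, hk, rfl⟩ := Subgroup.mem_sup_of_normal_right.1 (hsup.symm ▸ mem_top g)
    rw [map_mul, MonoidHom.mem_ker.1 hk, mul_one]
    refine ⟨(c' : G), ⟨c'.2, mem_centralizer_singleton_iff.2 ?_⟩, rfl⟩
    exact congrArg Subtype.val ((mem_centralizer_iff.1 hc') _ (mem_map_of_mem _ (hE (mem_zpowers _)))).symm
  have hC₁X : C₁ ≤ normalizer (X : Set G) :=
    (le_inf inf_le_left (inf_le_right.trans le_normalizer)).trans inf_normalizer_le_normalizer_inf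
  have hXC₁ : X ≤ C₁ := le_inf (inf_le_left.trans le_normalizer) inf_le_right
  have h2 : (C₁ ⊓ normalizer (Z : Set G)).map φ = ⊤ :=
    (map_inf_normalizer_sylow φ ((inf_le_left.trans hTR).trans hRN) hXC₁ hC₁X P).trans hC₁map
  haveI : IsCyclic Z := isCyclic_of_prime_card hZc
  have h3 := map_inf_centralizer_cyclic φ perfect_J1 h2 (Z := Z) inf_le_right
  obtain ⟨y, -, hy, -⟩ := exists_frob (q := 11) (m := 10) (Or.inr (Or.inl ⟨rfl, rfl⟩))
  obtain ⟨g, hg, hgy⟩ := (h3 ▸ mem_top y : y ∈ _)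
  haveI : Nontrivial Z := Finite.one_lt_card_iff_nontrivial.1 (hZc ▸ hcB.prime.one_lt)
  obtain ⟨v, hv⟩ := exists_ne (1 : Z)
  have hvo : orderOf (v : G) = c := h.orderOf_of_mem hZp v.2 fun e => hv (Subtype.ext e)
  refine h.no_three (p := 11) (r := c) (s := 2) (by simp [Big]) hcB Nat.prime_two (by omega) (by norm_num)
    hcB.ne_two (a := g) (b := (v : G)) (c := x) ?_ hvo.symm.dvd hxo.symm.dvd ?_ ?_ ?_
  · rw [← hy, ← hgy]; exact orderOf_map_dvd φ g
  · exact (mem_centralizer_iff.1 hg.2 v v.2).symm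
  · exact mem_centralizer_singleton_iff.1 hg.1.1.2
  · exact mem_centralizer_singleton_iff.1 ((map_subtype_le _ v.2 : (v : G) ∈ X).2)

end Cfsg.Lib.Spec.JOneSq
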