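import Cfsg.Agent.Lib.Spec.JOneSquare.CaseB

/-!
# Groups without quotient the first Janko group: common facts
-/

set_option autoImplicit false
set_option linter.style.haveILetI false
set_option linter.unusedSectionVars false

namespace Cfsg.Lib.Spec.JOneSq

open Subgroup
open scoped Pointwise

universe u

variable {G : Type u} [Group G] [Finite G]

theorem big_pair : ∀ p ∈ [7, 11, 19], ∀ r ∈ [7, 11, 19], p ≠ r → p * r ∈ omega := by decide +kernel

theorem Big.mul_mem {p r : ℕ} (hp : Big p) (hr : Big r) (hpr : p ≠ r) : p * r ∈ omega :=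
  big_pair p hp.mem r hr.mem hpr

theorem Ge.dvd_card (hge : Ge G) {p : ℕ} (hp : Big p) : p ∣ Nat.card G := by
  have hmem : p * 2 ∈ omega := by
    obtain ⟨r, -, t, -, -, -, -, -, -, h2⟩ := bigs_split p hp.mem
    exact h2
  obtain ⟨g, hg⟩ := hge _ hmem
  exact (dvd_mul_right p 2).trans (hg ▸ _root_.orderOf_dvd_natCard g)

theorem not_solvable_of_perfect {D : Subgroup G} (hD : ⁅D, D⁆ = D) (hD0 : D ≠ ⊥) : ¬ Group.IsSolvable D := by
  intro hs
  haveI := hs
  haveI : Nontrivial D := (nontrivial_iff_ne_bot D).2 hD0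
  exact (Group.IsSolvable.commutator_lt_top_of_nontrivial (G := D)).ne (commutator_eq_top_of_self hD)

/-- The common part of both lemmas below: the centralizer modulo an element of prime order. -/
theorem quot_facts {p : ℕ} [Fact p.Prime] (hp2 : ¬ p ^ 2 ∣ Nat.card G) {a : G} (ha : orderOf a = p) :
    ∃ Z : Subgroup ↥(centralizer ({a} : Set G)), Z.Normal ∧
      ¬ p ∣ Nat.card (↥(centralizer ({a} : Set G)) ⧸ Z) ∧
      ∀ q : ℕ, q.Prime → p ≠ q → (∃ g : G, orderOf g = p * q) →
        q ∣ Nat.card (↥(centralizer ({a} : Set G)) ⧸ Z) := by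
  have hpp : p.Prime := Fact.out
  set C := centralizer ({a} : Set G) with hC
  have hle : zpowers a ≤ C := zpowers_le.2 (mem_centralizer_singleton_iff.2 rfl)
  set Z := (zpowers a).subgroupOf C with hZ
  have hZn : Z.Normal := ⟨fun z hz g => by
    obtain ⟨i, hi⟩ := mem_zpowers_iff.1 (mem_subgroupOf.1 hz)
    have hc : Commute (g : G) a := mem_centralizer_singleton_iff.1 g.2
    have e1 : g * z * g⁻¹ = z := Subtype.ext (by
      show (g : G) * z * (g : G)⁻¹ = z
      rw [← hi, (hc.zpow_right i).eq, mul_inv_cancel_right])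
    rw [e1]; exact hz⟩
  haveI := hZn
  have hZc : Nat.card Z = p := by
    rw [Nat.card_congr (subgroupOfEquivOfLe hle).toEquiv, Nat.card_zpowers, ha]
  have hC' : Nat.card (C ⧸ Z) * p ∣ Nat.card G := by
    rw [← hZc, ← card_eq_card_quotient_mul_card_subgroup]
    exact card_subgroup_dvd_card C
  refine ⟨Z, hZn, fun hd => hp2 (pow_two p ▸ (Nat.mul_dvd_mul_right hd p).trans hC'), fun q hq hpq hex => ?_⟩
  haveI := Fact.mk hq
  obtain ⟨g, hg, -, hc⟩ := exists_commuting hpq hp2 ha hex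
  have hqC : q ∣ Nat.card C := by
    refine ((dvd_mul_left q p).trans hg.symm.dvd).trans (Subgroup.orderOf_dvd_natCard _ ?_)
    exact mem_centralizer_singleton_iff.2 hc.eq.symm
  rw [card_eq_card_quotient_mul_card_subgroup Z, hZc] at hqC
  exact (hq.dvd_mul.1 hqC).resolve_right fun hd => hpq ((Nat.prime_dvd_prime_iff_eq hq hpp).1 hd).symm

theorem exists_lift_dvd {C : Subgroup G} (Z : Subgroup C) [Z.Normal] (x : C ⧸ Z) :
    ∃ g ∈ C, orderOf x ∣ orderOf g := by
  obtain ⟨g, rfl⟩ := QuotientGroup.mk'_surjective Z x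
  exact ⟨g, g.2, Subgroup.orderOf_coe g ▸ orderOf_map_dvd (QuotientGroup.mk' Z) g⟩

/-- The squares of the big primes divide the order. -/
theorem sq_dvd_of_sep (h : Le G) (hge : Ge G) (hs : Sep G) {l : ℕ} (hl : Big l) : l ^ 2 ∣ Nat.card G := by
  classical
  by_contra hl2
  haveI := Fact.mk hl.prime
  obtain ⟨r, hr, t, ht, hrl, htl, hrt, hlr, hlt, hl2'⟩ := bigs_split l hl.mem
  have hr' : r = 7 ∨ r = 19 := by simpa using hr
  have hrB : Big r := by rcases hr' with rfl | rfl <;> simp [Big]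
  have htB : Big t := big_of_mem ht
  haveI := Fact.mk hrB.prime
  obtain ⟨a, ha⟩ := exists_prime_orderOf_dvd_card' l (hge.dvd_card hl)
  obtain ⟨Z, hZn, hnd, hmem⟩ := quot_facts hl2 ha
  haveI := hZn
  have horda : l ∣ orderOf a := ha.symm.dvd
  have hX : Sep (↥(centralizer ({a} : Set G)) ⧸ Z) := (hs.subgroup _).quotient Z
  refine no_triangle (h := (h.subgroup _).quotient Z) (r := r) (s := 2) (t := t) hrB.ne_two (hX.psolvable hr')
    Nat.prime_two htB.prime hrB.ne_two hrt htB.ne_two.symm (hmem r hrB.prime hrl.symm (hge _ hlr))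
    (hmem 2 Nat.prime_two hl.ne_two (hge _ hl2')) (hmem t htB.prime htl.symm (hge _ hlt))
    (fun q hq hqr x hd => ?_) (fun x hd => ?_)
  · have hql : q ≠ l := by
      rintro rfl
      exact hnd ((dvd_mul_left q r).trans (hd.trans (_root_.orderOf_dvd_natCard x)))
    obtain ⟨g, hg, hgd⟩ := exists_lift_dvd Z x
    have hga : Commute g a := mem_centralizer_singleton_iff.1 hg
    exact h.no_three hrB hl hq hrl hqr.symm hql.symm ((dvd_mul_right r q).trans (hd.trans hgd)) horda
      ((dvd_mul_left q r).trans (hd.trans hgd)) hga (Commute.refl _) hga.symm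
  · obtain ⟨g, hg, hgd⟩ := exists_lift_dvd Z x
    have hga : Commute g a := mem_centralizer_singleton_iff.1 hg
    exact h.no_three htB hl Nat.prime_two htl htB.ne_two hl.ne_two ((dvd_mul_left t 2).trans (hd.trans hgd)) horda
      ((dvd_mul_right 2 t).trans (hd.trans hgd)) hga (Commute.refl _) hga.symm

theorem four_dvd_of_ge (h : Le G) (hge : Ge G) : 4 ∣ Nat.card G := by
  classical
  by_contra h4
  haveI := isSolvable_of_not_four h h4
  haveI : Fact (Nat.Prime 2) := ⟨Nat.prime_two⟩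
  have h2 : ¬ 2 ^ 2 ∣ Nat.card G := h4
  obtain ⟨g₀, hg₀⟩ := hge 14 (by decide)
  obtain ⟨s, hs⟩ := exists_prime_orderOf_dvd_card' 2
    ((by norm_num : (2 : ℕ) ∣ 14).trans (hg₀ ▸ _root_.orderOf_dvd_natCard g₀))
  obtain ⟨Z, hZn, -, hmem⟩ := quot_facts h2 hs
  haveI := hZn
  have hd : ∀ q : ℕ, Big q → q ∣ Nat.card (↥(centralizer ({s} : Set G)) ⧸ Z) := fun q hq =>
    hmem q hq.prime hq.ne_two.symm (hge _ (by rcases hq with rfl | rfl | rfl <;> decide))
  obtain ⟨x, hx⟩ := Solv.three_primes (G := ↥(centralizer ({s} : Set G)) ⧸ Z) (p := 7) (q := 11) (r := 19)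
    (by norm_num) (by norm_num) (by norm_num) (by norm_num) (by norm_num) (by norm_num) (hd 7 (by simp [Big]))
    (hd 11 (by simp [Big])) (hd 19 (by simp [Big]))
  obtain ⟨g, hg, hgd⟩ := exists_lift_dvd Z x
  have hga : Commute g s := mem_centralizer_singleton_iff.1 hg
  rcases hx with hx | hx | hx <;> rw [hx] at hgd
  · exact h.no_three' (p := 7) (r := 11) (s := 2) (by simp [Big]) (by simp [Big]) Nat.prime_two (by norm_num)
      (by norm_num) (by norm_num) hgd hs.symm.dvd hga
  · exact h.no_three' (p := 7) (r := 19) (s := 2) (by simp [Big]) (by simp [Big]) Nat.prime_two (by norm_num)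
      (by norm_num) (by norm_num) hgd hs.symm.dvd hga
  · exact h.no_three' (p := 11) (r := 19) (s := 2) (by simp [Big]) (by simp [Big]) Nat.prime_two (by norm_num)
      (by norm_num) (by norm_num) hgd hs.symm.dvd hga

/-- Commuting cores. -/
theorem core_commute {T : Subgroup G} {p r : ℕ} [Fact p.Prime] [Fact r.Prime] (hpr : p ≠ r) {a b : G}
    (ha : a ∈ core p T) (hb : b ∈ core r T) : Commute a b := by
  obtain ⟨a', ha', rfl⟩ := ha
  obtain ⟨b', hb', rfl⟩ := hb
  refine Commute.map ?_ T.subtype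
  refine commute_of_normal_of_disjoint _ _ inferInstance inferInstance (disjoint_iff.2 ?_) a' b' ha' hb'
  exact Subgroup.inf_eq_bot_of_coprime
    (IsPGroup.coprime_card_of_ne p r hpr _ _ (Core.pCore_isPGroup p T) (Core.pCore_isPGroup r T))

/-- A one-core solvable subgroup with a large second core gives the generic configuration. -/
theorem core_generic (h : Le G) {p r l : ℕ} [Fact p.Prime] [Fact r.Prime] [Fact l.Prime] (hp : Big p) (hr : Big r)
    (hl : Big l) (hpr : p ≠ r) (hpl : p ≠ l) (hrl : r ≠ l) (hsp : Cfsg.IsPSolvable p G)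
    (hsr : Cfsg.IsPSolvable r G) (hl2 : l ^ 2 ∣ Nat.card G) (h4 : 4 ∣ Nat.card G) (hex : ∃ g : G, r * l ∣ orderOf g)
    {T : Subgroup G} (hcen : ∀ t ∈ T, (∀ v ∈ core p T, Commute t v) → t ∈ core p T)
    (hbig : r ^ 3 ∣ Nat.card (Cfsg.pCore r (T ⧸ Cfsg.pCore p T)))
    (hmin : ∀ W : Subgroup G, Core.IsMinNormal W → ∃ q : ℕ, q.Prime ∧ q ≠ r ∧ IsPGroup q W)
    (hend : ¬ l ∣ r ^ 3 - 1 ∨ Group.IsSolvable G) : False := by
  obtain ⟨Y, hPY, hYT, -, hYcard⟩ := exists_two_core T p r
  obtain ⟨A, hA⟩ := Sylow.exists_subgroup_card_pow_prime (G := Y) r (n := 3) (hYcard ▸ dvd_mul_of_dvd_right hbig _)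
  set A' := A.map Y.subtype
  have hA' : Nat.card A' = r ^ 3 := by rw [card_map_of_injective Y.subtype_injective, hA]
  have hAT : A' ≤ T := (map_subtype_le A).trans hYT
  refine generic h hp hr hl hpr hpl hrl hsp hsr hl2 h4 hA' (core_isPGroup p T) (hAT.trans (le_normalizer_core p T))
    (fun hle => ?_) hmin hex hend
  have hbot : A' = ⊥ := eq_bot_iff.2 fun a ha => by
    have hm : a ∈ A' ⊓ core p T := ⟨ha, hcen a (hAT ha) fun v hv => (mem_centralizer_iff.1 (hle ha) v hv).symm⟩
    rwa [Subgroup.inf_eq_bot_of_coprime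
      (IsPGroup.coprime_card_of_ne r p hpr.symm _ _ (IsPGroup.of_card hA') (core_isPGroup p T))] at hm
  rw [hbot, card_bot] at hA'
  exact (Nat.one_lt_pow (by norm_num) (Fact.out : r.Prime).one_lt).ne hA'

/-- The Sylow subgroup of the second core, as a subgroup of the whole group. -/
theorem exists_core_sylow {T Y : Subgroup G} {p q n : ℕ} [Fact p.Prime] [Fact q.Prime] (hpq : p ≠ q)
    (hn : ∃ k, n = q ^ k) (hY : Nat.card Y = Nat.card (core p T) * n) (P : Sylow q Y) :
    Nat.card ((P : Subgroup Y).map Y.subtype) = n := by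
  obtain ⟨k, rfl⟩ := hn
  obtain ⟨m, hm⟩ := IsPGroup.iff_card.1 (core_isPGroup p T)
  have hpp : p.Prime := Fact.out
  have hqp : q.Prime := Fact.out
  rw [card_map_of_injective Y.subtype_injective, P.card_eq_multiplicity, hY, hm,
    Nat.factorization_mul (pow_ne_zero _ hpp.ne_zero) (pow_ne_zero _ hqp.ne_zero), Finsupp.add_apply,
    hqp.factorization_pow, Finsupp.single_eq_same,
    Nat.factorization_eq_zero_of_not_dvd (fun hd => hpq ((Nat.prime_dvd_prime_iff_eq hqp hpp).1
      (hqp.dvd_of_dvd_pow hd)).symm), zero_add]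

end Cfsg.Lib.Spec.JOneSq
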