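import Cfsg.Agent.Lib.Spec.JOneSquare.CaseC

/-!
# Separable nonsolvable groups
-/

set_option autoImplicit false
set_option linter.style.haveILetI false
set_option linter.unusedSectionVars false

namespace Cfsg.Lib.Spec.JOneSq

open Subgroup

universe u

variable {G : Type u} [Group G] [Finite G]

theorem not_sep_nonsolvable (h : Le G) (hge : Ge G) (hs : Sep G) (hns : ¬ Group.IsSolvable G) : False := by
  classical
  have hsTop : Sep (⊤ : Subgroup G) := hs.of_equiv (topEquiv : (⊤ : Subgroup G) ≃* G).symm.toMonoidHom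
    (topEquiv : (⊤ : Subgroup G) ≃* G).symm.surjective
  have hnsTop : ¬ Group.IsSolvable (⊤ : Subgroup G) := fun e => hns
    (Group.isSolvable_of_surjective (f := (topEquiv : (⊤ : Subgroup G) ≃* G).toMonoidHom) topEquiv.surjective)
  obtain ⟨R, hRn, -, hRs, hRmax, hrad⟩ := exists_radical h hsTop hnsTop
  haveI := hRn
  haveI := hRs
  have hrad' : ∀ z : G, z ^ 133 = 1 → ∃ M₁ : Subgroup G, R ≤ M₁ ∧ ¬ Group.IsSolvable M₁ ∧
      ∀ g ∈ M₁, z * g * z⁻¹ * g⁻¹ ∈ R := fun z hz => by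
    obtain ⟨M₁, h1, -, h2, h3⟩ := hrad z hz
    exact ⟨M₁, h1, h2, h3⟩
  obtain ⟨M, hRM, -, hMns, -⟩ := hrad 1 (one_pow _)
  have hex133 := hge 133 (by decide)
  have hsq7 := sq_dvd_radical h hex133 hrad' (r := 7) (p := 19) (Or.inl ⟨rfl, rfl⟩)
  have hsq19 := sq_dvd_radical h hex133 hrad' (r := 19) (p := 7) (Or.inr ⟨rfl, rfl⟩)
  obtain ⟨T, hTR, hTπ, hTle, hTdvd, -, D, hD, hDp, hD0⟩ := exists_hall_perfect h hRM hMns
  haveI : Group.IsSolvable T := Core.isSolvable_of_le hTR hRs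
  have hDT : D ≤ normalizer (T : Set G) := hD.trans inf_le_right
  have hTsq : ∀ q : ℕ, q = 7 ∨ q = 19 → q ^ 2 ∣ Nat.card T := by
    intro q hq
    rcases hq with rfl | rfl
    exacts [hTdvd 7 2 (Or.inl rfl) hsq7, hTdvd 19 2 (Or.inr rfl) hsq19]
  haveI : Fact (Nat.Prime 7) := ⟨by norm_num⟩
  haveI : Fact (Nat.Prime 19) := ⟨by norm_num⟩
  haveI : Fact (Nat.Prime 11) := ⟨by norm_num⟩
  have hodd_core : ∀ q : ℕ, q = 7 ∨ q = 19 → Odd (Nat.card (core q T)) := fun q hq =>
    (odd_of_primes Nat.card_pos.ne' fun s hs hsd => by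
      rcases hTπ s hs (hsd.trans (card_dvd_of_le (core_le q T))) with rfl | rfl <;> norm_num)
  obtain ⟨d, hd1⟩ := ne_bot_iff_exists_ne_one.1 hD0
  obtain ⟨x, hx, hx2, hx1⟩ := exists_invol_notin h hDp (MonoidHom.id G)
    ⟨d, d.2, fun e => hd1 (Subtype.ext e)⟩
  have hxo : orderOf x = 2 := orderOf_eq_prime (by rw [pow_two, hx2]) hx1
  obtain ⟨p, r, hpr, hcore, hcen⟩ : ∃ p r : ℕ, ((p = 7 ∧ r = 19) ∨ (p = 19 ∧ r = 7)) ∧ core p T ≠ ⊥ ∧
      ∀ q : ℕ, q.Prime → q ∣ Nat.card T → q ≠ p → core q T = ⊥ := by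
    haveI : Nontrivial T := Finite.one_lt_card_iff_nontrivial.1
      (lt_of_lt_of_le (by norm_num : 1 < 7 ^ 2) (Nat.le_of_dvd Nat.card_pos (hTsq 7 (Or.inl rfl))))
    obtain ⟨W, hW⟩ := Core.exists_isMinNormal_univ (G := T)
    obtain ⟨-, q, hq, -, hWq⟩ := Core.minimal_solvable_elementary hW inferInstance
    haveI := Fact.mk hq
    have hq' := hTπ q hq ((dvd_card_of_pgroup hWq hW.2.1).trans (card_subgroup_dvd_card W))
    have hne : core q T ≠ ⊥ := fun e => hW.2.1 (eq_bot_iff.2 ((Core.le_pCore' hW.1 hWq).trans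
      (core_eq_bot_iff.1 e).le))
    have hboth : core 7 T = ⊥ ∨ core 19 T = ⊥ := by
      by_contra hcon
      push Not at hcon
      obtain ⟨v, hv, hv1, hxv⟩ := exists_fixed h hDp (hDT.trans (core_invariant 7 T)) (hodd_core 7 (Or.inl rfl))
        hcon.1 hx hx2
      obtain ⟨w, hw, hw1, hxw⟩ := exists_fixed h hDp (hDT.trans (core_invariant 19 T)) (hodd_core 19 (Or.inr rfl))
        hcon.2 hx hx2
      exact h.no_three (p := 7) (r := 19) (s := 2) (by simp [Big]) (by simp [Big]) Nat.prime_two (by norm_num)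
        (by norm_num) (by norm_num) (h.orderOf_of_mem (core_isPGroup 7 T) hv hv1).symm.dvd
        (h.orderOf_of_mem (core_isPGroup 19 T) hw hw1).symm.dvd hxo.symm.dvd
        (core_commute (by norm_num) hv hw) hxv.symm hxw.symm
    rcases hq' with rfl | rfl
    · refine ⟨7, 19, Or.inl ⟨rfl, rfl⟩, hne, fun q hq hqd hqne => ?_⟩
      rcases hTπ q hq hqd with rfl | rfl
      exacts [absurd rfl hqne, hboth.resolve_left hne]
    · refine ⟨19, 7, Or.inr ⟨rfl, rfl⟩, hne, fun q hq hqd hqne => ?_⟩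
      rcases hTπ q hq hqd with rfl | rfl
      exacts [hboth.resolve_right hne, absurd rfl hqne]
  have hpB : Big p := by rcases hpr with ⟨rfl, -⟩ | ⟨rfl, -⟩ <;> simp [Big]
  have hrB : Big r := by rcases hpr with ⟨-, rfl⟩ | ⟨-, rfl⟩ <;> simp [Big]
  have hp7 : p = 7 ∨ p = 19 := by omega
  have hr7 : r = 7 ∨ r = 19 := by omega
  have hne' : p ≠ r := by omega
  haveI := Fact.mk hpB.prime
  haveI := Fact.mk hrB.prime
  have hrT : r ∣ Nat.card T := (dvd_pow_self r two_ne_zero).trans (hTsq r hr7)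
  have hrcore : core r T = ⊥ := hcen r hrB.prime hrT hne'.symm
  have hcenP := core_centralizer (T := T) hcen
  obtain ⟨Y, hPY, hYT, hYN, hYcard⟩ := exists_two_core T p r
  set Pt := Cfsg.pCore p T with hPt
  set Rb := Cfsg.pCore r (T ⧸ Pt) with hRb
  obtain ⟨k, hk⟩ := IsPGroup.iff_card.1 (Core.pCore_isPGroup r (T ⧸ Pt))
  by_cases hbig : 3 ≤ k
  · refine core_generic h hpB hrB (l := 11) (by simp [Big]) hne' (by omega) (by omega) (hs.psolvable hp7)
      (hs.psolvable hr7) (sq_dvd_of_sep h hge hs (by simp [Big])) (four_dvd_of_ge h hge) ?_ hcenP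
      (hk ▸ pow_dvd_pow r hbig) ?_ (Or.inl ?_)
    · obtain ⟨g, hg⟩ := hge (r * 11) (by rcases hr7 with rfl | rfl <;> decide)
      exact ⟨g, hg.symm.dvd⟩
    · intro W hW
      by_cases hWs : Group.IsSolvable W
      · obtain ⟨-, q, hq, -, hWq⟩ := Core.minimal_solvable_elementary hW hWs
        refine ⟨q, hq, ?_, hWq⟩
        rintro rfl
        refine hW.2.1 (eq_bot_iff.2 ?_)
        rw [← hrcore]
        have hWR : W ≤ R := hRmax W hW.1 le_top hWs
        haveI := hW.1
        refine le_core (hTle W hW.1 hWR fun s hs hsd => ?_) le_normalizer_of_normal hWq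
        obtain ⟨i, hi⟩ := IsPGroup.iff_card.1 hWq
        rw [hi] at hsd
        exact (Nat.prime_dvd_prime_iff_eq hs hrB.prime).1 (hs.dvd_of_dvd_pow hsd) ▸ hr7
      · exfalso
        haveI := hW.1
        have hWR : W ⊓ R = ⊥ := (hW.inf_eq_bot_or_le R).resolve_right fun hle =>
          hWs (Core.isSolvable_of_le hle hRs)
        have hc : ∀ w ∈ W, ∀ g ∈ R, Commute w g := fun w hw g hg =>
          commute_of_normal_of_disjoint W R hW.1 hRn (disjoint_iff.2 hWR) w g hw hg
        have hW2 : 2 ∣ Nat.card W := by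
          by_contra hn
          exact hWs (isSolvable_of_odd _ W le_rfl (h.subgroup W) (Nat.not_even_iff_odd.1
            fun he => hn (even_iff_two_dvd.1 he)))
        haveI : Fact (Nat.Prime 2) := ⟨Nat.prime_two⟩
        obtain ⟨⟨s, hs⟩, hso⟩ := exists_prime_orderOf_dvd_card' 2 hW2
        rw [Subgroup.orderOf_mk] at hso
        obtain ⟨A₀⟩ : Nonempty (Sylow r T) := inferInstance
        set A := (A₀ : Subgroup T).map T.subtype
        have hA : r ^ 2 ∣ Nat.card A := by
          rw [card_map_of_injective T.subtype_injective]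
          exact A₀.pow_dvd_card_of_pow_dvd_card (hTsq r hr7)
        obtain ⟨a, ha, ha1, v, hv, hv1, hav⟩ := exists_fixed_of_pair h hA (A₀.2.map _)
          ((map_subtype_le _).trans (le_normalizer_core p T))
          (IsPGroup.coprime_card_of_ne r p hne'.symm A _ (A₀.2.map _) (core_isPGroup p T)) hcore
        exact h.no_three hrB hpB Nat.prime_two hne'.symm hrB.ne_two hpB.ne_two
          (h.orderOf_of_mem (A₀.2.map _) ha ha1).symm.dvd (h.orderOf_of_mem (core_isPGroup p T) hv hv1).symm.dvd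
          hso.symm.dvd hav (hc s hs a (hTR (map_subtype_le _ ha))).symm (hc s hs v (hTR (core_le p T hv))).symm
    · rcases hr7 with rfl | rfl <;> decide
  -- the second core is small
  have hkle : Nat.card Rb ∣ r ^ 2 := hk ▸ pow_dvd_pow r (by omega)
  obtain ⟨P₀⟩ : Nonempty (Sylow r Y) := inferInstance
  set R₁ := (P₀ : Subgroup Y).map Y.subtype
  have hR₁ : Nat.card R₁ = r ^ k := exists_core_sylow hne' ⟨k, rfl⟩ (hk ▸ hYcard) P₀
  haveI : Group.IsSolvable Y := Core.isSolvable_of_le hYT inferInstance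
  have hDY : D ⊔ Y ≤ normalizer (Y : Set G) := sup_le (hDT.trans hYN) le_normalizer
  obtain ⟨D', hD', hD'p, hD'0⟩ := exists_perfect_normalizer (C := D ⊔ Y) (H := Y) le_sup_right hDY
    (fun hsol => not_solvable_of_perfect hDp hD0 (Core.isSolvable_of_le le_sup_left hsol)) P₀
  have hcent : D' ≤ centralizer (R₁ : Set G) :=
    le_centralizer_of_small h hD'p (hD'.trans inf_le_right) hrB.prime hrB.ne_two (hR₁ ▸ hk ▸ hkle)
  obtain ⟨d', hd'1⟩ := ne_bot_iff_exists_ne_one.1 hD'0
  obtain ⟨x', hx', hx'2, hx'1⟩ := exists_invol_notin h hD'p (MonoidHom.id G)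
    ⟨d', d'.2, fun e => hd'1 (Subtype.ext e)⟩
  have hD'T : D' ≤ normalizer (T : Set G) :=
    (hD'.trans inf_le_left).trans (sup_le hDT (hYT.trans le_normalizer))
  obtain ⟨v, hv, hv1, hxv⟩ := exists_fixed h hD'p (hD'T.trans (core_invariant p T)) (hodd_core p hp7) hcore hx' hx'2
  have hx'o : orderOf x' = 2 := orderOf_eq_prime (by rw [pow_two, hx'2]) hx'1
  by_cases hk2 : k = 2
  · subst hk2
    have hR₁p : IsPGroup r R₁ := IsPGroup.of_card hR₁
    obtain ⟨b, hb, hb1, w, hw, hw1, hxw, hbw⟩ := exists_triple h (j := r) (a := x') (V := core p T) hR₁p hR₁.symm.dvd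
      (fun b hb => (mem_centralizer_iff.1 (hcent hx') b hb).symm)
      (((map_subtype_le _).trans hYT).trans (le_normalizer_core p T))
      (IsPGroup.coprime_card_of_ne r p hne'.symm R₁ _ hR₁p (core_isPGroup p T)) hv hv1 hxv
    exact h.no_three hrB hpB Nat.prime_two hne'.symm hrB.ne_two hpB.ne_two (h.orderOf_of_mem hR₁p hb hb1).symm.dvd
      (h.orderOf_of_mem (core_isPGroup p T) hw hw1).symm.dvd hx'o.symm.dvd hbw
      (mem_centralizer_iff.1 (hcent hx') b hb) hxw.symm
  -- the second core has order at most `r`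
  have hX := h.subgroup T |>.quotient Pt
  have hrX : r ^ 2 ∣ Nat.card (T ⧸ Pt) := by
    have h1 := hTsq r hr7
    rw [card_eq_card_quotient_mul_card_subgroup Pt] at h1
    obtain ⟨m, hm⟩ := IsPGroup.iff_card.1 (Core.pCore_isPGroup p T)
    rw [← hPt] at hm
    refine Nat.Coprime.dvd_of_dvd_mul_right ?_ h1
    rw [hm]
    exact (((Nat.coprime_primes hrB.prime hpB.prime).2 hne'.symm).pow_left 2).pow_right m
  have hCR : centralizer (Rb : Set (T ⧸ Pt)) ≤ Rb := by
    refine (pCore_centralizer (T := T ⧸ Pt) fun q hq hqd hqne => ?_).2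
    have hq' := hTπ q hq (hqd.trans (card_quotient_dvd_card Pt))
    obtain rfl : q = p := by omega
    exact Core.pCore_quotient_pCore_eq_bot
  obtain ⟨S⟩ : Nonempty (Sylow r (T ⧸ Pt)) := inferInstance
  have hSR : (S : Subgroup (T ⧸ Pt)) ≤ Rb := by
    intro y hy
    by_cases hy1 : y = 1
    · rw [hy1]; exact one_mem _
    refine hCR (mem_centralizer_iff.2 fun v hv => ?_)
    have hk1 : k = 0 ∨ k = 1 := by omega
    rcases hk1 with rfl | rfl
    · rw [pow_zero, card_eq_one] at hk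
      rw [SetLike.mem_coe, show Rb = ⊥ from hk, mem_bot] at hv
      rw [hv, one_mul, mul_one]
    · refine (commute_of_card_prime (hk.trans (pow_one r)) (le_normalizer_of_normal (K := ⊤) (mem_top y)) ?_ hv).eq.symm
      rw [hX.orderOf_of_mem S.2 hy hy1]
      rcases hr7 with rfl | rfl <;> decide
  have h2 := (S.pow_dvd_card_of_pow_dvd_card hrX).trans (card_dvd_of_le hSR)
  rw [hk] at h2
  have := (Nat.pow_dvd_pow_iff_le_right hrB.prime.one_lt).1 h2
  omega

end Cfsg.Lib.Spec.JOneSq
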