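import Cfsg.Agent.Lib.Spec.JOneSquare.CaseC
import Cfsg.Agent.Lib.Core.Layer

/-!
# Solvable groups
-/

set_option autoImplicit false
set_option linter.style.haveILetI false
set_option linter.unusedSectionVars false

namespace Cfsg.Lib.Spec.JOneSq

open Subgroup
open scoped Pointwise

universe u

variable {G : Type u} [Group G] [Finite G]

theorem sq_one {s : G} (hs : orderOf s = 2) : s * s = 1 := by rw [← pow_two, ← hs, pow_orderOf_eq_one]

theorem orderOf_mul_two {s t : G} (hs : orderOf s = 2) (ht : orderOf t = 2) (hc : Commute s t) (hne : s ≠ t) :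
    orderOf (s * t) = 2 := by
  refine orderOf_eq_prime ?_ fun e => hne ?_
  · rw [hc.mul_pow, pow_two, pow_two, sq_one hs, sq_one ht, one_mul]
  · rw [eq_inv_of_mul_eq_one_left e, inv_eq_of_mul_eq_one_right (sq_one ht)]

/-- An involution central modulo a normal `p`-subgroup commutes with an element of order `r * l`. -/
theorem central_bad (h : Le G) {p r l : ℕ} [Fact p.Prime] (hr : Big r) (hl : Big l) (hp2 : p ≠ 2) (hpr : p ≠ r)
    (hpl : p ≠ l) (hrl : r ≠ l) {P : Subgroup G} [P.Normal] (hP : IsPGroup p P) {s : G} (hs : orderOf s = 2)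
    (hc : ∀ g : G, Commute (QuotientGroup.mk' P g) (QuotientGroup.mk' P s))
    (hex : ∃ g : G, r * l ∣ orderOf g) : False := by
  have hpp : p.Prime := Fact.out
  set f := QuotientGroup.mk' P
  obtain ⟨g₀, hg₀⟩ := hex
  obtain ⟨i, hi⟩ := exists_orderOf_of_dvd hg₀
  obtain ⟨k, hk⟩ := IsPGroup.iff_card.1 hP
  have hker : Nat.card f.ker = p ^ k := by rw [QuotientGroup.ker_mk', hk]
  obtain ⟨y, hy, hyc⟩ := exists_centralizer_lift f (g := s) (y := g₀ ^ i)
    (by rw [hker, hs]; exact ((Nat.coprime_primes Nat.prime_two hpp).2 hp2.symm).pow_right k) (hc _)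
  have hfy : orderOf (f y) = r * l := by
    rw [hy, orderOf_map_coprime f (by
      rw [hker, hi]
      exact ((Nat.Coprime.mul_left ((Nat.coprime_primes hr.prime hpp).2 hpr.symm)
        ((Nat.coprime_primes hl.prime hpp).2 hpl.symm))).pow_right k), hi]
  exact h.no_three' hr hl Nat.prime_two hrl hr.ne_two hl.ne_two (hfy ▸ orderOf_map_dvd f y) hs.symm.dvd hyc

/-- Two commuting involutions inverting the same Fitting factor. -/
theorem two_invert_bad (h : Le G) {p r l : ℕ} [Fact p.Prime] [Fact r.Prime] (hp : Big p) (hr : Big r) (hl : Big l)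
    (hpr : p ≠ r) (hpl : p ≠ l) (hrl : r ≠ l) {P Q : Subgroup G} [P.Normal] [Q.Normal] (hP : IsPGroup p P)
    (hQ : IsPGroup r Q) (hQne : Q ≠ ⊥)
    (hCF : ∀ c : G, (∀ v ∈ P, Commute c v) → (∀ w ∈ Q, Commute c w) → c ∈ P ⊔ Q)
    (hexcl : ∀ s : G, orderOf s = 2 → (∀ v ∈ P, Commute s v → v = 1) ∨ (∀ w ∈ Q, Commute s w → w = 1))
    (hex : ∃ g : G, r * l ∣ orderOf g) {s t : G} (hs : orderOf s = 2) (ht : orderOf t = 2) (hst : Commute s t)
    (hne : s ≠ t) (hsQ : ∀ w ∈ Q, Commute s w → w = 1) (htQ : ∀ w ∈ Q, Commute t w → w = 1) : False := by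
  have hinvs : ∀ w ∈ Q, s * w * s⁻¹ = w⁻¹ := fun w hw =>
    inverts_of_fpf (sq_one hs) (le_normalizer_of_normal (K := ⊤) (mem_top s)) hsQ hw
  have hinvt : ∀ w ∈ Q, t * w * t⁻¹ = w⁻¹ := fun w hw =>
    inverts_of_fpf (sq_one ht) (le_normalizer_of_normal (K := ⊤) (mem_top t)) htQ hw
  set u := s * t with hu
  have huo : orderOf u = 2 := orderOf_mul_two hs ht hst hne
  have huQ : ∀ w ∈ Q, u * w * u⁻¹ = w := fun w hw => by
    calc u * w * u⁻¹ = s * (t * w * t⁻¹) * s⁻¹ := by rw [hu]; group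
      _ = w := by rw [hinvt w hw, hinvs _ (Q.inv_mem hw), inv_inv]
  have huQc : ∀ w ∈ Q, Commute u w := fun w hw => mul_inv_eq_iff_eq_mul.1 (huQ w hw)
  haveI := (nontrivial_iff_ne_bot Q).2 hQne
  obtain ⟨w₀, hw₀⟩ := exists_ne (1 : Q)
  have huP : ∀ v ∈ P, Commute u v → v = 1 := (hexcl u huo).resolve_right fun hall =>
    hw₀ (Subtype.ext (hall w₀ w₀.2 (huQc w₀ w₀.2)))
  have hinvu : ∀ v ∈ P, u * v * u⁻¹ = v⁻¹ := fun v hv =>
    inverts_of_fpf (sq_one huo) (le_normalizer_of_normal (K := ⊤) (mem_top u)) huP hv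
  refine central_bad h hr hl hp.ne_two hpr hpl hrl hP huo (fun g => ?_) hex
  set u' := g * u * g⁻¹ with hu'
  have hu'P : ∀ v ∈ P, u' * v * u'⁻¹ = v⁻¹ := fun v hv => by
    calc u' * v * u'⁻¹ = g * (u * (g⁻¹ * v * g) * u⁻¹) * g⁻¹ := by rw [hu']; group
      _ = v⁻¹ := by rw [hinvu _ ((inferInstance : P.Normal).conj_mem' v hv g)]; group
  have hu'Q : ∀ w ∈ Q, u' * w * u'⁻¹ = w := fun w hw => by
    calc u' * w * u'⁻¹ = g * (u * (g⁻¹ * w * g) * u⁻¹) * g⁻¹ := by rw [hu']; group
      _ = w := by rw [huQ _ ((inferInstance : Q.Normal).conj_mem' w hw g)]; group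
  have hc : u * u' ∈ P ⊔ Q := hCF _ (fun v hv => mul_inv_eq_iff_eq_mul.1 (by
      calc u * u' * v * (u * u')⁻¹ = u * (u' * v * u'⁻¹) * u⁻¹ := by group
        _ = v := by rw [hu'P v hv, hinvu _ (P.inv_mem hv), inv_inv]))
    (fun w hw => mul_inv_eq_iff_eq_mul.1 (by
      calc u * u' * w * (u * u')⁻¹ = u * (u' * w * u'⁻¹) * u⁻¹ := by group
        _ = w := by rw [hu'Q w hw, huQ w hw]))
  obtain ⟨v, hv, w, hw, hvw⟩ := mem_sup_of_normal_right.1 hc
  have hu'2 : u' * u' = 1 := by
    calc u' * u' = g * (u * u) * g⁻¹ := by rw [hu']; group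
      _ = 1 := by rw [sq_one huo, mul_one, mul_inv_cancel]
  have hui : u⁻¹ = u := inv_eq_of_mul_eq_one_right (sq_one huo)
  have hvwc : Commute v w := commute_of_normal_of_disjoint P Q inferInstance inferInstance
    (disjoint_iff.2 (Subgroup.inf_eq_bot_of_coprime (IsPGroup.coprime_card_of_ne p r hpr P Q hP hQ))) v w hv hw
  have e1 : u' = u * (v * w) := by
    rw [hvw, ← mul_assoc, sq_one huo, one_mul]
  have hw2 : w * w = 1 := by
    have e3 : (u * v * u⁻¹) * (u * w * u⁻¹) * (v * w) = 1 := by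
      have e2 : u * (v * w) * (u * (v * w)) = 1 := by rw [← e1]; exact hu'2
      calc (u * v * u⁻¹) * (u * w * u⁻¹) * (v * w) = u * (v * w) * u⁻¹ * (v * w) := by group
        _ = u * (v * w) * (u * (v * w)) := by rw [hui]; group
        _ = 1 := e2
    rw [hinvu v hv, huQ w hw] at e3
    calc w * w = v⁻¹ * (v * w) * w := by group
      _ = v⁻¹ * (w * v) * w := by rw [hvwc.eq]
      _ = v⁻¹ * w * (v * w) := by group
      _ = 1 := e3
  have hw1 : w = 1 := by
    refine orderOf_eq_one_iff.1 (Nat.eq_one_of_dvd_coprimes ((Nat.coprime_primes Nat.prime_two hr.prime).2 hr.ne_two.symm)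
      (orderOf_dvd_of_pow_eq_one (by rw [pow_two, hw2])) (orderOf_dvd_of_pow_eq_one (h.pow_of_mem hQ hw)))
  have hmem : u * u' ∈ P := by rw [← hvw, hw1, mul_one]; exact hv
  have e4 : QuotientGroup.mk' P u * QuotientGroup.mk' P u' = 1 := by
    rw [← map_mul, ← MonoidHom.mem_ker, QuotientGroup.ker_mk']; exact hmem
  have e5 : QuotientGroup.mk' P u * QuotientGroup.mk' P u = 1 := by rw [← map_mul, sq_one huo, map_one]
  have e6 : QuotientGroup.mk' P u' = QuotientGroup.mk' P u := mul_left_cancel (e4.trans e5.symm)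
  rw [hu', map_mul, map_mul, map_inv] at e6
  exact mul_inv_eq_iff_eq_mul.1 e6

/-- The Hall subgroup for the big primes has one core. -/
theorem two_cores_bad (h : Le G) (hge : Ge G) [Group.IsSolvable G] {T : Subgroup G}
    (hT : Cfsg.IsPiHall ({7, 11, 19} : Set ℕ) T) {p r l : ℕ} [Fact p.Prime] [Fact r.Prime] [Fact l.Prime]
    (hp : Big p) (hr : Big r) (hl : Big l) (hpr : p ≠ r) (hpl : p ≠ l) (hrl : r ≠ l) (hP0 : core p T ≠ ⊥)
    (hR0 : core r T ≠ ⊥) : False := by
  classical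
  have hπ : ∀ {q : ℕ}, Big q → q ∈ ({7, 11, 19} : Set ℕ) := fun hq => by
    rcases hq with rfl | rfl | rfl <;> simp
  -- neither core is cyclic
  have hsquare : ∀ (a b c : ℕ) [Fact a.Prime], Big a → Big b → Big c → a ≠ b → a ≠ c → b ≠ c →
      core a T ≠ ⊥ → a ^ 2 ∣ Nat.card (core a T) := by
    intro a b c _ ha hb hc hab hac hbc hne
    obtain ⟨k, hk⟩ := IsPGroup.iff_card.1 (core_isPGroup a T)
    rcases k with _ | _ | k
    · exact absurd (card_eq_one.1 (by simpa using hk)) hne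
    · exfalso
      obtain ⟨g, hg⟩ := hge (b * c) (hb.mul_mem hc hbc)
      obtain ⟨x, hx⟩ := Solv.le_conj_of_isPiHall hT (K := zpowers g) (fun q hq hqd => by
        rw [Nat.card_zpowers, hg] at hqd
        rcases (hq.dvd_mul).1 hqd with hd | hd
        · rw [(Nat.prime_dvd_prime_iff_eq hq hb.prime).1 hd]; exact hπ hb
        · rw [(Nat.prime_dvd_prime_iff_eq hq hc.prime).1 hd]; exact hπ hc)
      obtain ⟨y, hy, hye⟩ := hx (mem_zpowers g)
      have hyo : orderOf y = b * c := by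
        have he : x * y * x⁻¹ = g := hye
        rw [← hg, ← he]
        exact (orderOf_injective (MulAut.conj x).toMonoidHom (MulAut.conj x).injective y).symm
      haveI : Nontrivial (core a T) := (nontrivial_iff_ne_bot _).2 hne
      obtain ⟨v, hv⟩ := exists_ne (1 : core a T)
      have hcomm := commute_of_card_prime (hk.trans (pow_one a)) (le_normalizer_core a T hy) (by
        rw [hyo]
        rcases ha with rfl | rfl | rfl <;> rcases hb with rfl | rfl | rfl <;> rcases hc with rfl | rfl | rfl <;>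
          first | decide | omega) v.2
      exact h.no_three' hb hc ha.prime hbc hab.symm hac.symm hyo.symm.dvd
        (h.orderOf_of_mem (core_isPGroup a T) v.2 fun e => hv (Subtype.ext e)).symm.dvd hcomm
    · exact hk ▸ pow_dvd_pow a (by omega : 2 ≤ k + 1 + 1)
  have hP2 := hsquare p r l hp hr hl hpr hpl hrl hP0
  have hR2 := hsquare r p l hr hp hl hpr.symm hrl hpl hR0
  have hpP := core_isPGroup p T
  have hrR := core_isPGroup r T
  -- minimal normal subgroups
  have hmin : ∀ W : Subgroup G, Core.IsMinNormal W → IsPGroup p W ∨ IsPGroup r W := by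
    intro W hW
    obtain ⟨-, q, hq, -, hWq⟩ := Core.minimal_solvable_elementary hW inferInstance
    by_contra hcon
    push Not at hcon
    have hqp : q ≠ p := fun e => hcon.1 (e ▸ hWq)
    have hqr : q ≠ r := fun e => hcon.2 (e ▸ hWq)
    haveI := Fact.mk hq
    haveI := hW.1
    obtain ⟨a, ha, ha1, v, hv, hv1, hav⟩ := exists_fixed_of_pair h hP2 hpP (V := W) le_normalizer_of_normal
      (IsPGroup.coprime_card_of_ne p q hqp.symm _ W hpP hWq) hW.2.1
    obtain ⟨b, hb, hb1, w, hw, hw1, haw, hbw⟩ := exists_triple h (j := r) (a := a) (V := W) hrR hR2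
      (fun b hb => core_commute hpr ha hb) le_normalizer_of_normal
      (IsPGroup.coprime_card_of_ne r q hqr.symm _ W hrR hWq) hv hv1 hav
    exact h.no_three hp hr hq hpr hqp.symm hqr.symm (h.orderOf_of_mem hpP ha ha1).symm.dvd
      (h.orderOf_of_mem hrR hb hb1).symm.dvd (h.orderOf_of_mem hWq hw hw1).symm.dvd (core_commute hpr ha hb) haw hbw
  have hother : ∀ q : ℕ, q.Prime → q ≠ p → q ≠ r → Cfsg.pCore q G = ⊥ := by
    intro q hq hqp hqr
    haveI := Fact.mk hq
    by_contra hne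
    obtain ⟨W, hW, hle⟩ := Core.exists_isMinNormal (inferInstance : (Cfsg.pCore q G).Normal) hne
    have hWq := (Core.pCore_isPGroup q G).to_le hle
    have hqd := dvd_card_of_pgroup hWq hW.2.1
    rcases hmin W hW with hWp | hWp <;> obtain ⟨k, hk⟩ := IsPGroup.iff_card.1 hWp
    · exact hqp ((Nat.prime_dvd_prime_iff_eq hq hp.prime).1 (hq.dvd_of_dvd_pow (hk ▸ hqd)))
    · exact hqr ((Nat.prime_dvd_prime_iff_eq hq hr.prime).1 (hq.dvd_of_dvd_pow (hk ▸ hqd)))
  have hle : ∀ (q : ℕ) [Fact q.Prime], Big q → Cfsg.pCore q G ≤ core q T := by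
    intro q _ hq
    refine le_core (le_hall hT fun s hs hsd => ?_) le_normalizer_of_normal (Core.pCore_isPGroup q G)
    obtain ⟨k, hk⟩ := IsPGroup.iff_card.1 (Core.pCore_isPGroup q G)
    rw [hk] at hsd
    exact (Nat.prime_dvd_prime_iff_eq hs hq.prime).1 (hs.dvd_of_dvd_pow hsd) ▸ hπ hq
  have hne : ∀ (a b : ℕ) [Fact a.Prime] [Fact b.Prime], Big a → (a = p ∧ b = r ∨ a = r ∧ b = p) →
      Cfsg.pCore b G ≠ ⊥ := by
    intro a b _ _ ha hab hb
    have hab' : a ≠ b := by omega
    have hbne : core b T ≠ ⊥ := by rcases hab with ⟨rfl, rfl⟩ | ⟨rfl, rfl⟩ <;> assumption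
    haveI : Nontrivial G := by
      haveI := (nontrivial_iff_ne_bot _).2 hbne
      exact Function.Injective.nontrivial (core b T).subtype_injective
    have hO : Cfsg.pPrimeCore a G = ⊥ := by
      by_contra hne'
      obtain ⟨W, hW, hWle⟩ := Core.exists_isMinNormal (inferInstance : (Cfsg.pPrimeCore a G).Normal) hne'
      have hor : IsPGroup a W ∨ IsPGroup b W := by
        rcases hab with ⟨rfl, rfl⟩ | ⟨rfl, rfl⟩
        exacts [hmin W hW, (hmin W hW).symm]
      rcases hor with hWa | hWb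
      · exact Core.pPrimeCore_not_dvd a G ((dvd_card_of_pgroup hWa hW.2.1).trans (card_dvd_of_le hWle))
      · exact hW.2.1 (eq_bot_iff.2 ((Core.le_pCore' hW.1 hWb).trans hb.le))
    have hC := Core.centralizer_pCore_le_of_isPSolvable Core.isPSolvable_of_isSolvable hO
    refine hbne (eq_bot_iff.2 fun x hx => ?_)
    have hxa : x ∈ Cfsg.pCore a G := hC (mem_centralizer_iff.2 fun v hv =>
      (core_commute hab' (hle a ha hv) hx).eq)
    have hm : x ∈ core a T ⊓ core b T := ⟨hle a ha hxa, hx⟩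
    rwa [Subgroup.inf_eq_bot_of_coprime
      (IsPGroup.coprime_card_of_ne a b hab' _ _ (core_isPGroup a T) (core_isPGroup b T))] at hm
  set P := Cfsg.pCore p G with hPdef
  set Q := Cfsg.pCore r G with hQdef
  haveI : P.Normal := by rw [hPdef]; infer_instance
  haveI : Q.Normal := by rw [hQdef]; infer_instance
  have hQne : Q ≠ ⊥ := hne p r hp (Or.inl ⟨rfl, rfl⟩)
  have hPne : P ≠ ⊥ := hne r p hr (Or.inr ⟨rfl, rfl⟩)
  have hPp : IsPGroup p P := Core.pCore_isPGroup p G
  have hQr : IsPGroup r Q := Core.pCore_isPGroup r G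
  have hfit : Cfsg.fittingSubgroup G ≤ P ⊔ Q := by
    rw [Core.fittingSubgroup_eq_iSup_pCore]
    refine iSup_le fun q => ?_
    by_cases hqp : (q : ℕ) = p
    · rw [hqp]; exact le_sup_left
    by_cases hqr : (q : ℕ) = r
    · rw [hqr]; exact le_sup_right
    rw [hother q q.2 hqp hqr]; exact bot_le
  have hCF : ∀ c : G, (∀ v ∈ P, Commute c v) → (∀ w ∈ Q, Commute c w) → c ∈ P ⊔ Q := by
    intro c hcP hcQ
    refine hfit (Core.centralizer_fitting_le_of_isSolvable ?_)
    have hle' : P ⊔ Q ≤ centralizer ({c} : Set G) :=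
      sup_le (fun v hv => mem_centralizer_singleton_iff.2 (hcP v hv).eq.symm)
        (fun w hw => mem_centralizer_singleton_iff.2 (hcQ w hw).eq.symm)
    exact mem_centralizer_iff.2 fun v hv => mem_centralizer_singleton_iff.1 (hle' (hfit hv))
  have hexcl : ∀ s : G, orderOf s = 2 → (∀ v ∈ P, Commute s v → v = 1) ∨ (∀ w ∈ Q, Commute s w → w = 1) := by
    intro s hs
    by_contra hcon
    push Not at hcon
    obtain ⟨⟨v, hv, hsv, hv1⟩, w, hw, hsw, hw1⟩ := hcon
    exact h.no_three hp hr Nat.prime_two hpr hp.ne_two hr.ne_two (h.orderOf_of_mem hPp hv hv1).symm.dvd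
      (h.orderOf_of_mem hQr hw hw1).symm.dvd hs.symm.dvd
      (core_commute hpr (hle p hp hv) (hle r hr hw)) hsv.symm hsw.symm
  -- a four-group
  haveI : Fact (Nat.Prime 2) := ⟨Nat.prime_two⟩
  obtain ⟨S⟩ : Nonempty (Sylow 2 G) := inferInstance
  obtain ⟨K, hKS, hK, hKc⟩ := exists_pair_le h S.2 (S.pow_dvd_card_of_pow_dvd_card (n := 2) (four_dvd_of_ge h hge))
  haveI := hKc
  have hKp : IsPGroup 2 K := S.2.to_le hKS
  haveI : Nontrivial K := Finite.one_lt_card_iff_nontrivial.1 (by rw [hK]; norm_num)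
  obtain ⟨⟨s, hsK⟩, hs1⟩ := exists_ne (1 : K)
  have hso : orderOf s = 2 := h.orderOf_of_mem hKp hsK fun e => hs1 (Subtype.ext e)
  obtain ⟨t, htK, hts⟩ : ∃ t ∈ K, t ∉ zpowers s := by
    by_contra hcon
    push Not at hcon
    have := Subgroup.card_le_of_le (show K ≤ zpowers s from hcon)
    rw [hK, Nat.card_zpowers, hso] at this
    omega
  have hto : orderOf t = 2 := h.orderOf_of_mem hKp htK fun e => hts (e ▸ one_mem _)
  have hst : Commute s t := congrArg Subtype.val (mul_comm' (⟨s, hsK⟩ : K) ⟨t, htK⟩)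
  have hne' : s ≠ t := fun e => hts (e ▸ mem_zpowers s)
  have hexQ : ∃ g : G, r * l ∣ orderOf g := by
    obtain ⟨g, hg⟩ := hge _ (hr.mul_mem hl hrl); exact ⟨g, hg.symm.dvd⟩
  have hexP : ∃ g : G, p * l ∣ orderOf g := by
    obtain ⟨g, hg⟩ := hge _ (hp.mul_mem hl hpl); exact ⟨g, hg.symm.dvd⟩
  have badQ : ∀ a b : G, orderOf a = 2 → orderOf b = 2 → Commute a b → a ≠ b →
      (∀ w ∈ Q, Commute a w → w = 1) → (∀ w ∈ Q, Commute b w → w = 1) → False := fun a b ha hb hc hab =>
    two_invert_bad h hp hr hl hpr hpl hrl hPp hQr hQne hCF hexcl hexQ ha hb hc hab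
  have badP : ∀ a b : G, orderOf a = 2 → orderOf b = 2 → Commute a b → a ≠ b →
      (∀ w ∈ P, Commute a w → w = 1) → (∀ w ∈ P, Commute b w → w = 1) → False := fun a b ha hb hc hab =>
    two_invert_bad h hr hp hl hpr.symm hrl hpl hQr hPp hPne (fun c h1 h2 => sup_comm P Q ▸ hCF c h2 h1)
      (fun a ha => (hexcl a ha).symm) hexP ha hb hc hab
  have hu := orderOf_mul_two hso hto hst hne'
  have hsu : Commute s (s * t) := (Commute.refl s).mul_right hst
  have htu : Commute t (s * t) := hst.symm.mul_right (Commute.refl t)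
  have hnes : s ≠ s * t := fun e => hts (by
    rw [left_eq_mul] at e; exact e ▸ one_mem _)
  have hnet : t ≠ s * t := fun e => hs1 (Subtype.ext (by
    rw [right_eq_mul] at e; exact e))
  rcases hexcl s hso with h1 | h1 <;> rcases hexcl t hto with h2 | h2
  · exact badP s t hso hto hst hne' h1 h2
  · rcases hexcl _ hu with h3 | h3
    · exact badP s _ hso hu hsu hnes h1 h3
    · exact badQ t _ hto hu htu hnet h2 h3
  · rcases hexcl _ hu with h3 | h3
    · exact badP t _ hto hu htu hnet h2 h3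
    · exact badQ s _ hso hu hsu hnes h1 h3
  · exact badQ s t hso hto hst hne' h1 h2

theorem not_solvable_ge (h : Le G) (hge : Ge G) [Group.IsSolvable G] : False := by
  classical
  obtain ⟨T, hT⟩ := Solv.exists_isPiHall ({7, 11, 19} : Set ℕ) G
  have hπ : ∀ q : ℕ, q.Prime → q ∣ Nat.card T → Big q := fun q hq hqd => by
    have := hT.1 q hq hqd
    simpa [Big] using this
  have hTsq : ∀ q : ℕ, Big q → q ^ 2 ∣ Nat.card T := by
    intro q hq
    have hd := sq_dvd_of_sep h hge sep_of_solvable hq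
    rw [← T.card_mul_index] at hd
    exact (Nat.Coprime.pow_left 2 (hq.prime.coprime_iff_not_dvd.2 (hT.2 q hq.prime
      (by rcases hq with rfl | rfl | rfl <;> simp)))).dvd_of_dvd_mul_right hd
  haveI : Nontrivial T := Finite.one_lt_card_iff_nontrivial.1
    (lt_of_lt_of_le (by norm_num : 1 < 7 ^ 2) (Nat.le_of_dvd Nat.card_pos (hTsq 7 (by simp [Big]))))
  obtain ⟨W, hW⟩ := Core.exists_isMinNormal_univ (G := T)
  obtain ⟨-, p, hpp, -, hWp⟩ := Core.minimal_solvable_elementary hW inferInstance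
  haveI := Fact.mk hpp
  have hp : Big p := hπ p hpp ((dvd_card_of_pgroup hWp hW.2.1).trans (card_subgroup_dvd_card W))
  have hP0 : core p T ≠ ⊥ := fun e => hW.2.1 (eq_bot_iff.2 ((Core.le_pCore' hW.1 hWp).trans
    (core_eq_bot_iff.1 e).le))
  obtain ⟨r, l, hr, hl, hpr, hpl, hrl⟩ : ∃ r l : ℕ, Big r ∧ Big l ∧ p ≠ r ∧ p ≠ l ∧ r ≠ l := by
    rcases hp with rfl | rfl | rfl
    · exact ⟨11, 19, by simp [Big], by simp [Big], by norm_num, by norm_num, by norm_num⟩
    · exact ⟨7, 19, by simp [Big], by simp [Big], by norm_num, by norm_num, by norm_num⟩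
    · exact ⟨7, 11, by simp [Big], by simp [Big], by norm_num, by norm_num, by norm_num⟩
  haveI := Fact.mk hr.prime
  haveI := Fact.mk hl.prime
  have hr0 : core r T = ⊥ := by
    by_contra hne; exact two_cores_bad h hge hT hp hr hl hpr hpl hrl hP0 hne
  have hl0 : core l T = ⊥ := by
    by_contra hne; exact two_cores_bad h hge hT hp hl hr hpl hpr hrl.symm hP0 hne
  have three : ∀ q : ℕ, Big q → q = p ∨ q = r ∨ q = l := by
    intro q hq
    rcases hq with rfl | rfl | rfl <;> rcases hp with rfl | rfl | rfl <;> rcases hr with rfl | rfl | rfl <;>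
      rcases hl with rfl | rfl | rfl <;> omega
  have hcenP := core_centralizer (T := T) (p := p) fun q hq hqd hqp => by
    rcases three q (hπ q hq hqd) with rfl | rfl | rfl
    exacts [absurd rfl hqp, hr0, hl0]
  -- the second core
  set Pt := Cfsg.pCore p T with hPt
  have gen : ∀ a b : ℕ, [Fact a.Prime] → [Fact b.Prime] → Big a → Big b → p ≠ a → p ≠ b → a ≠ b →
      core a T = ⊥ → a ^ 3 ∣ Nat.card (Cfsg.pCore a (T ⧸ Pt)) → False := by
    intro a b _ _ ha hb hpa hpb hab ha0 h3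
    refine core_generic h hp ha hb hpa hpb hab Core.isPSolvable_of_isSolvable Core.isPSolvable_of_isSolvable
      (sq_dvd_of_sep h hge sep_of_solvable hb) (four_dvd_of_ge h hge) ?_ hcenP h3 (fun W hW => ?_)
      (Or.inr inferInstance)
    · obtain ⟨g, hg⟩ := hge _ (ha.mul_mem hb hab); exact ⟨g, hg.symm.dvd⟩
    · obtain ⟨-, q, hq, -, hWq⟩ := Core.minimal_solvable_elementary hW inferInstance
      refine ⟨q, hq, ?_, hWq⟩
      rintro rfl
      haveI := hW.1
      refine hW.2.1 (eq_bot_iff.2 (ha0 ▸ le_core (le_hall hT fun s hs hsd => ?_) le_normalizer_of_normal hWq))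
      obtain ⟨i, hi⟩ := IsPGroup.iff_card.1 hWq
      rw [hi] at hsd
      rw [(Nat.prime_dvd_prime_iff_eq hs ha.prime).1 (hs.dvd_of_dvd_pow hsd)]
      rcases ha with rfl | rfl | rfl <;> simp
  have both : ¬ (r ^ 2 ∣ Nat.card (Cfsg.pCore r (T ⧸ Pt)) ∧ l ^ 2 ∣ Nat.card (Cfsg.pCore l (T ⧸ Pt))) := by
    rintro ⟨hr2, hl2⟩
    obtain ⟨Yr, -, hYrT, hYrN, hYrc⟩ := exists_two_core T p r
    obtain ⟨Yl, -, hYlT, hYlN, hYlc⟩ := exists_two_core T p l
    obtain ⟨m, hm⟩ := IsPGroup.iff_card.1 (core_isPGroup p T)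
    obtain ⟨i, hi⟩ := IsPGroup.iff_card.1 (Core.pCore_isPGroup r (T ⧸ Pt))
    obtain ⟨j, hj⟩ := IsPGroup.iff_card.1 (Core.pCore_isPGroup l (T ⧸ Pt))
    obtain ⟨A₀⟩ : Nonempty (Sylow r Yr) := inferInstance
    set A := (A₀ : Subgroup Yr).map Yr.subtype
    have hAc : Nat.card A = Nat.card (Cfsg.pCore r (T ⧸ Pt)) := exists_core_sylow hpr ⟨i, hi⟩ hYrc A₀
    have hAp : IsPGroup r A := A₀.2.map _
    have hAY : A ≤ normalizer (Yl : Set G) :=
      ((map_subtype_le _).trans hYrT).trans (le_normalizer.trans hYlN)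
    have hcopA : (Nat.card A).Coprime (Nat.card Yl) := by
      rw [hAc, hYlc, hi, hm, hj]
      exact Nat.Coprime.mul_right (((Nat.coprime_primes hr.prime hpp).2 hpr.symm).pow_left i |>.pow_right m)
        (((Nat.coprime_primes hr.prime hl.prime).2 hrl).pow_left i |>.pow_right j)
    haveI := hAp.isNilpotent
    obtain ⟨B₀, hAB⟩ := Coprime.exists_invariant_sylow (A := A) (G := Yl) hAY hcopA
      (Or.inl inferInstance) l
    set B := (B₀ : Subgroup Yl).map Yl.subtype
    have hBc : Nat.card B = Nat.card (Cfsg.pCore l (T ⧸ Pt)) := exists_core_sylow hpl ⟨j, hj⟩ hYlc B₀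
    have hBp : IsPGroup l B := B₀.2.map _
    have hBT : B ≤ T := (map_subtype_le _).trans hYlT
    have hBYr : B ⊓ Yr = ⊥ := Subgroup.inf_eq_bot_of_coprime (by
      rw [hBc, hYrc, hi, hm, hj]
      exact Nat.Coprime.mul_right (((Nat.coprime_primes hl.prime hpp).2 hpl.symm).pow_left j |>.pow_right m)
        (((Nat.coprime_primes hl.prime hr.prime).2 hrl.symm).pow_left j |>.pow_right i))
    have hcomm : ∀ a ∈ A, ∀ b ∈ B, Commute a b := by
      intro a ha b hb
      have h1 : a * b * a⁻¹ * b⁻¹ ∈ B := B.mul_mem ((mem_normalizer_iff.1 (hAB ha) b).1 hb) (B.inv_mem hb)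
      have h2 : a * b * a⁻¹ * b⁻¹ ∈ Yr := by
        have haY : a ∈ Yr := map_subtype_le _ ha
        rw [show a * b * a⁻¹ * b⁻¹ = a * (b * a⁻¹ * b⁻¹) by group]
        exact Yr.mul_mem haY ((mem_normalizer_iff.1 (hYrN (le_normalizer (hBT hb))) _).1 (Yr.inv_mem haY))
      have h3 : a * b * a⁻¹ * b⁻¹ ∈ B ⊓ Yr := ⟨h1, h2⟩
      rw [hBYr, mem_bot] at h3
      exact mul_inv_eq_iff_eq_mul.1 (mul_inv_eq_one.1 h3)
    have hAT : A ≤ T := (map_subtype_le _).trans hYrT
    obtain ⟨a, ha, ha1, v, hv, hv1, hav⟩ := exists_fixed_of_pair h (hAc ▸ hr2) hAp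
      (hAT.trans (le_normalizer_core p T)) (IsPGroup.coprime_card_of_ne r p hpr.symm A _ hAp (core_isPGroup p T)) hP0
    obtain ⟨b, hb, hb1, w, hw, hw1, haw, hbw⟩ := exists_triple h (j := l) (a := a) (V := core p T) hBp (hBc ▸ hl2)
      (fun b hb => hcomm a ha b hb) (hBT.trans (le_normalizer_core p T))
      (IsPGroup.coprime_card_of_ne l p hpl.symm B _ hBp (core_isPGroup p T)) hv hv1 hav
    exact h.no_three hr hl hpp hrl hpr.symm hpl.symm (h.orderOf_of_mem hAp ha ha1).symm.dvd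
      (h.orderOf_of_mem hBp hb hb1).symm.dvd (h.orderOf_of_mem (core_isPGroup p T) hw hw1).symm.dvd
      (hcomm a ha b hb) haw hbw
  have small : ∀ a b : ℕ, [Fact a.Prime] → [Fact b.Prime] → Big a → Big b → p ≠ a → p ≠ b → a ≠ b →
      ¬ a ^ 3 ∣ Nat.card (Cfsg.pCore a (T ⧸ Pt)) → ¬ b ^ 2 ∣ Nat.card (Cfsg.pCore b (T ⧸ Pt)) → False := by
    intro a b _ _ ha hb hpa hpb hab ha3 hb2
    set X := T ⧸ Pt
    have hX : Le X := (h.subgroup T).quotient Pt
    have hbX : b ^ 2 ∣ Nat.card X := by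
      have h1 := hTsq b hb
      rw [card_eq_card_quotient_mul_card_subgroup Pt] at h1
      obtain ⟨m, hm⟩ := IsPGroup.iff_card.1 (Core.pCore_isPGroup p T)
      rw [← hPt] at hm
      refine Nat.Coprime.dvd_of_dvd_mul_right ?_ h1
      rw [hm]
      exact (((Nat.coprime_primes hb.prime hpp).2 hpb.symm).pow_left 2).pow_right m
    set Ra := Cfsg.pCore a X
    set Rb := Cfsg.pCore b X
    obtain ⟨L⟩ : Nonempty (Sylow b X) := inferInstance
    refine hb2 ((L.pow_dvd_card_of_pow_dvd_card hbX).trans (card_dvd_of_le fun y hy => ?_))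
    by_cases hy1 : y = 1
    · rw [hy1]; exact one_mem _
    have hyo : orderOf y = b := hX.orderOf_of_mem L.2 hy hy1
    have hca : ∀ v ∈ Ra, Commute y v := by
      by_contra hcon
      have haX : a ∣ Nat.card X := by
        refine (dvd_card_of_pgroup (Core.pCore_isPGroup a X) fun e => hcon fun v hv => ?_).trans
          (card_subgroup_dvd_card Ra)
        rw [show Ra = ⊥ from e, mem_bot] at hv
        rw [hv]; exact Commute.one_right y
      have harith := hX.arith hb ha.prime haX hab.symm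
      have h3 := pow_three_le (q := a) (r := b) hab harith.1 harith.2 (Core.pCore_isPGroup a X)
        (hyo ▸ pow_orderOf_eq_one y) (le_normalizer_of_normal (K := ⊤) (mem_top y)) hcon
      obtain ⟨k, hk⟩ := IsPGroup.iff_card.1 (Core.pCore_isPGroup a X)
      refine ha3 (hk ▸ pow_dvd_pow a ?_)
      rw [hk] at h3
      exact (Nat.pow_le_pow_iff_right ha.prime.one_lt).1 (le_trans (Nat.le_mul_of_pos_right _ Nat.card_pos) h3)
    have hcb : ∀ v ∈ Rb, Commute y v := by
      obtain ⟨k, hk⟩ := IsPGroup.iff_card.1 (Core.pCore_isPGroup b X)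
      intro v hv
      rcases k with _ | _ | k
      · rw [show Rb = ⊥ from card_eq_one.1 (by simpa using hk), mem_bot] at hv
        rw [hv]; exact Commute.one_right y
      · refine commute_of_card_prime (hk.trans (pow_one b)) (le_normalizer_of_normal (K := ⊤) (mem_top y)) ?_ hv
        rw [hyo]
        rcases hb with rfl | rfl | rfl <;> decide
      · exact absurd (hk ▸ pow_dvd_pow b (by omega : 2 ≤ k + 1 + 1)) hb2
    have hfit : Cfsg.fittingSubgroup X ≤ Ra ⊔ Rb := by
      rw [Core.fittingSubgroup_eq_iSup_pCore]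
      refine iSup_le fun q => ?_
      by_cases hqd : (q : ℕ) ∣ Nat.card X
      · have hq : Big (q : ℕ) := hπ q q.2 (hqd.trans (card_quotient_dvd_card Pt))
        obtain hq' | hq' | hq' : (q : ℕ) = p ∨ (q : ℕ) = a ∨ (q : ℕ) = b := by
          rcases three _ hq with h' | h' | h' <;> rcases three a ha with h'' | h'' | h'' <;>
            rcases three b hb with h''' | h''' | h''' <;> omega
        · rw [hq', show Cfsg.pCore p X = ⊥ from Core.pCore_quotient_pCore_eq_bot]; exact bot_le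
        · rw [hq']; exact le_sup_left
        · rw [hq']; exact le_sup_right
      · haveI := Fact.mk q.2
        refine le_of_eq_of_le (b := (⊥ : Subgroup X)) ?_ bot_le
        by_contra hne
        exact hqd ((dvd_card_of_pgroup (Core.pCore_isPGroup _ X) hne).trans (card_subgroup_dvd_card _))
    have hy' : y ∈ Ra ⊔ Rb := by
      refine hfit (Core.centralizer_fitting_le_of_isSolvable ?_)
      have hle' : Ra ⊔ Rb ≤ centralizer ({y} : Set X) :=
        sup_le (fun v hv => mem_centralizer_singleton_iff.2 (hca v hv).eq.symm)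
          (fun w hw => mem_centralizer_singleton_iff.2 (hcb w hw).eq.symm)
      exact mem_centralizer_iff.2 fun v hv => mem_centralizer_singleton_iff.1 (hle' (hfit hv))
    obtain ⟨v, hv, w, hw, hvw⟩ := mem_sup_of_normal_right.1 hy'
    have hvy : v = y * w⁻¹ := by rw [← hvw, mul_inv_cancel_right]
    have hvb : v ^ b = 1 := by
      rw [hvy, (hcb _ (inv_mem hw)).mul_pow, ← hyo, pow_orderOf_eq_one, hyo, inv_pow,
        hX.pow_of_mem (Core.pCore_isPGroup b X) hw, inv_one, mul_one]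
    have hv1 : v = 1 := orderOf_eq_one_iff.1 (Nat.eq_one_of_dvd_coprimes
      ((Nat.coprime_primes ha.prime hb.prime).2 hab)
      (orderOf_dvd_of_pow_eq_one (hX.pow_of_mem (Core.pCore_isPGroup a X) hv)) (orderOf_dvd_of_pow_eq_one hvb))
    rw [← hvw, hv1, one_mul]
    exact hw
  by_cases hr3 : r ^ 3 ∣ Nat.card (Cfsg.pCore r (T ⧸ Pt))
  · exact gen r l hr hl hpr hpl hrl hr0 hr3
  by_cases hl3 : l ^ 3 ∣ Nat.card (Cfsg.pCore l (T ⧸ Pt))
  · exact gen l r hl hr hpl hpr hrl.symm hl0 hl3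
  by_cases hl2 : l ^ 2 ∣ Nat.card (Cfsg.pCore l (T ⧸ Pt))
  · exact small l r hl hr hpl hpr hrl.symm hl3 fun hr2 => both ⟨hr2, hl2⟩
  · exact small r l hr hl hpr hpl hrl hr3 hl2

end Cfsg.Lib.Spec.JOneSq
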