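import Cfsg.Agent.Lib.Spec.JOneSquare.Generic

/-!
# Cores of subgroups, commuting elements of prime orders
-/

set_option autoImplicit false
set_option linter.style.haveILetI false
set_option linter.unusedSectionVars false

namespace Cfsg.Lib.Spec.JOneSq

open Subgroup
open scoped Pointwise

universe u

variable {G : Type u} [Group G] [Finite G]

/-- The `p`-core of a subgroup, as a subgroup of the whole group. -/
def core (p : ℕ) (T : Subgroup G) : Subgroup G := (Cfsg.pCore p T).map T.subtype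

theorem core_le (p : ℕ) (T : Subgroup G) : core p T ≤ T := map_subtype_le _

theorem core_isPGroup (p : ℕ) (T : Subgroup G) : IsPGroup p (core p T) :=
  (Core.pCore_isPGroup p T).map _

theorem map_equiv_invariant {T : Subgroup G} (K : Subgroup T) (hK : ∀ e : MulAut T, K.map e.toMonoidHom ≤ K) :
    normalizer (T : Set G) ≤ normalizer ((K.map T.subtype : Subgroup G) : Set G) := by
  intro g hg
  refine mem_normalizer_iff_map_conj_eq.2 ?_
  refine eq_of_le_of_card_ge ?_ (Coprime.card_map_conj _ _).ge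
  rintro _ ⟨_, ⟨w, hw, rfl⟩, rfl⟩
  exact ⟨_, hK (T.normalizerMonoidHom ⟨g, hg⟩) (mem_map_of_mem _ hw), rfl⟩

theorem core_invariant (p : ℕ) (T : Subgroup G) :
    normalizer (T : Set G) ≤ normalizer (core p T : Set G) :=
  map_equiv_invariant _ fun e => (Core.map_pCore_equiv e).le

theorem le_normalizer_core (p : ℕ) (T : Subgroup G) : T ≤ normalizer (core p T : Set G) :=
  le_normalizer.trans (core_invariant p T)

theorem le_core {p : ℕ} {T W : Subgroup G} (hW : W ≤ T) (hT : T ≤ normalizer (W : Set G)) (hWp : IsPGroup p W) :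
    W ≤ core p T := by
  rw [core, ← map_subgroupOf_eq_of_le hW]
  exact map_mono (Core.le_pCore' ((normal_subgroupOf_iff_le_normalizer hW).2 hT) hWp.comap_subtype)

theorem core_eq_bot_iff {p : ℕ} {T : Subgroup G} : core p T = ⊥ ↔ Cfsg.pCore p T = ⊥ :=
  map_eq_bot_iff_of_injective _ T.subtype_injective

/-- The only nontrivial core contains its centralizer. -/
theorem pCore_centralizer {T : Type u} [Group T] [Finite T] [Group.IsSolvable T] {p : ℕ} [Fact p.Prime]
    (hq : ∀ q : ℕ, q.Prime → q ∣ Nat.card T → q ≠ p → Cfsg.pCore q T = ⊥) :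
    Cfsg.pPrimeCore p T = ⊥ ∧ centralizer (Cfsg.pCore p T : Set T) ≤ Cfsg.pCore p T := by
  have hO : Cfsg.pPrimeCore p T = ⊥ := by
    by_contra hne
    obtain ⟨W, hW, hle⟩ := Core.exists_isMinNormal (inferInstance : (Cfsg.pPrimeCore p T).Normal) hne
    obtain ⟨-, q, hqp, -, hWq⟩ := Core.minimal_solvable_elementary hW inferInstance
    haveI := Fact.mk hqp
    have hqd := dvd_card_of_pgroup hWq hW.2.1
    have hqne : q ≠ p := fun e =>
      Core.pPrimeCore_not_dvd p T ((dvd_of_eq e.symm).trans (hqd.trans (card_dvd_of_le hle)))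
    exact hW.2.1 (eq_bot_iff.2 ((Core.le_pCore' hW.1 hWq).trans
      (hq q hqp (hqd.trans (card_subgroup_dvd_card W)) hqne).le))
  exact ⟨hO, Core.centralizer_pCore_le_of_isPSolvable Core.isPSolvable_of_isSolvable hO⟩

theorem core_centralizer {T : Subgroup G} [Group.IsSolvable T] {p : ℕ} [Fact p.Prime]
    (hq : ∀ q : ℕ, q.Prime → q ∣ Nat.card T → q ≠ p → core q T = ⊥) :
    ∀ t ∈ T, (∀ v ∈ core p T, Commute t v) → t ∈ core p T := by
  intro t ht hc
  have hle := (pCore_centralizer (T := T) fun q h1 h2 h3 => core_eq_bot_iff.1 (hq q h1 h2 h3)).2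
  exact ⟨⟨t, ht⟩, hle (mem_centralizer_iff.2 fun v hv => Subtype.ext (hc _ (mem_map_of_mem _ hv)).eq.symm), rfl⟩

/-- The second core. -/
theorem exists_two_core (T : Subgroup G) (p r : ℕ) [Fact r.Prime] :
    ∃ Y : Subgroup G, core p T ≤ Y ∧ Y ≤ T ∧ normalizer (T : Set G) ≤ normalizer (Y : Set G) ∧
      Nat.card Y = Nat.card (core p T) * Nat.card (Cfsg.pCore r (T ⧸ Cfsg.pCore p T)) := by
  set P := Cfsg.pCore p T with hP
  set f := QuotientGroup.mk' P
  set Rb := Cfsg.pCore r (T ⧸ P)
  set Yt := Rb.comap f with hYt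
  have hPY : P ≤ Yt := fun x hx => by
    rw [hYt, mem_comap, show f x = 1 from (QuotientGroup.eq_one_iff x).2 hx]
    exact one_mem _
  have hcard : Nat.card Yt = Nat.card Rb * Nat.card P := by
    rw [hYt, Core.card_comap_eq f (QuotientGroup.mk'_surjective P), QuotientGroup.ker_mk', mul_comm]
  refine ⟨Yt.map T.subtype, map_mono hPY, map_subtype_le _, map_equiv_invariant Yt fun e => ?_, ?_⟩
  · haveI : Yt.Normal := (inferInstance : Rb.Normal).comap f
    have hK : (Yt.map e.toMonoidHom).Normal := (inferInstance : Yt.Normal).map _ e.surjective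
    have hPK : P ≤ Yt.map e.toMonoidHom := by
      rw [hP, ← Core.map_pCore_equiv e]
      exact map_mono hPY
    have hKcard : Nat.card (Yt.map e.toMonoidHom) = Nat.card Yt :=
      card_map_of_injective (f := e.toMonoidHom) e.injective
    have hKr : IsPGroup r ((Yt.map e.toMonoidHom).map f) := by
      have h1 := Coprime.RankTwo.card_eq_mul_map f (Yt.map e.toMonoidHom)
      rw [QuotientGroup.ker_mk', inf_eq_right.2 hPK, hKcard, hcard, mul_comm] at h1
      obtain ⟨k, hk⟩ := IsPGroup.iff_card.1 (Core.pCore_isPGroup r (T ⧸ P))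
      exact IsPGroup.of_card ((Nat.eq_of_mul_eq_mul_left Nat.card_pos h1).symm.trans hk)
    exact fun x hx => mem_comap.2
      (Core.le_pCore' (hK.map f (QuotientGroup.mk'_surjective P)) hKr (mem_map_of_mem _ hx))
  · rw [card_map_of_injective T.subtype_injective, hcard, core, card_map_of_injective T.subtype_injective, mul_comm]

/-- An element of order prime to `q - 1` centralizes each subgroup of order `q` that it normalizes. -/
theorem commute_of_card_prime {q : ℕ} [Fact q.Prime] {Z : Subgroup G} (hZ : Nat.card Z = q) {y : G}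
    (hy : y ∈ normalizer (Z : Set G)) (hco : (orderOf y).Coprime (q - 1)) {v : G} (hv : v ∈ Z) : Commute y v := by
  haveI : IsCyclic Z := isCyclic_of_prime_card hZ
  set ρ : MulAut Z := Z.normalizerMonoidHom ⟨y, hy⟩
  have h1 : orderOf ρ ∣ orderOf y := by
    rw [← Subgroup.orderOf_mk y hy]
    exact orderOf_map_dvd Z.normalizerMonoidHom (⟨y, hy⟩ : normalizer (Z : Set G))
  have h2 : orderOf ρ ∣ q - 1 := by
    rw [← Nat.totient_prime (Fact.out : q.Prime), ← hZ, ← IsCyclic.card_mulAut]
    exact _root_.orderOf_dvd_natCard ρ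
  have h3 : ρ = 1 := orderOf_eq_one_iff.1 (Nat.eq_one_of_dvd_coprimes hco h1 h2)
  have h4 := congrArg (fun e : MulAut Z => ((e ⟨v, hv⟩ : Z) : G)) h3
  exact mul_inv_eq_iff_eq_mul.1 h4

/-- A normal `π`-subgroup lies in every Hall `π`-subgroup. -/
theorem le_hall [Group.IsSolvable G] {π : Set ℕ} {T W : Subgroup G} (hT : Cfsg.IsPiHall π T) [hW : W.Normal]
    (hWπ : ∀ q : ℕ, q.Prime → q ∣ Nat.card W → q ∈ π) : W ≤ T := by
  obtain ⟨k, hk⟩ := Solv.le_conj_of_isPiHall hT (K := W) hWπ
  intro w hw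
  obtain ⟨t, ht, hte⟩ := hk (hW.conj_mem w hw k)
  have he : k * t * k⁻¹ = k * w * k⁻¹ := hte
  rw [mul_left_cancel (mul_right_cancel he)] at ht
  exact ht

/-- The elements of prime order `q` commuting with an element of order `p`, if `p ^ 2` does not divide the order. -/
theorem exists_commuting {p q : ℕ} [Fact p.Prime] [Fact q.Prime] (hpq : p ≠ q) (hp2 : ¬ p ^ 2 ∣ Nat.card G)
    {a : G} (ha : orderOf a = p) (hex : ∃ g : G, orderOf g = p * q) :
    ∃ g : G, orderOf g = p * q ∧ g ^ q ∈ zpowers a ∧ Commute a g := by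
  obtain ⟨g, hg⟩ := hex
  have hp : p.Prime := Fact.out
  have hq : q.Prime := Fact.out
  have hgq : orderOf (g ^ q) = p := by
    rw [orderOf_pow' _ hq.ne_zero, hg, Nat.gcd_mul_left_left, Nat.mul_div_cancel _ hq.pos]
  have hfac : (Nat.card G).factorization p = 1 := by
    have h1 : 1 ≤ (Nat.card G).factorization p :=
      (hp.dvd_iff_one_le_factorization Nat.card_pos.ne').1 (ha ▸ _root_.orderOf_dvd_natCard a)
    have h2 : ¬ 2 ≤ (Nat.card G).factorization p := fun h2 =>
      hp2 ((hp.pow_dvd_iff_le_factorization Nat.card_pos.ne').2 h2)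
    omega
  have mk : ∀ x : G, orderOf x = p → ∃ P : Sylow p G, (P : Subgroup G) = zpowers x := fun x hx =>
    ⟨Sylow.ofCard (zpowers x) (by rw [Nat.card_zpowers, hx, hfac, pow_one]), Sylow.coe_ofCard _ _⟩
  obtain ⟨P, hP⟩ := mk a ha
  obtain ⟨Q, hQ⟩ := mk (g ^ q) hgq
  obtain ⟨c, hc⟩ := MulAction.exists_smul_eq G Q P
  refine ⟨c * g * c⁻¹, ?_, ?_, ?_⟩
  · rw [← hg]; exact orderOf_injective (MulAut.conj c).toMonoidHom (MulAut.conj c).injective g
  all_goals
    have hmem : (c * g * c⁻¹) ^ q ∈ zpowers a := by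
      rw [conj_pow, ← hP, ← hc, Sylow.coe_subgroup_smul]
      exact ⟨g ^ q, hQ ▸ mem_zpowers _, rfl⟩
  · exact hmem
  · have hle : zpowers ((c * g * c⁻¹) ^ q) = zpowers a := eq_of_le_of_card_ge (zpowers_le.2 hmem) (by
      rw [Nat.card_zpowers, Nat.card_zpowers, ha, conj_pow,
        show orderOf (c * g ^ q * c⁻¹) = orderOf (g ^ q) from
          orderOf_injective (MulAut.conj c).toMonoidHom (MulAut.conj c).injective _, hgq])
    obtain ⟨i, hi⟩ := mem_zpowers_iff.1 (hle.symm ▸ mem_zpowers a : a ∈ zpowers ((c * g * c⁻¹) ^ q))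
    exact hi ▸ ((Commute.refl (c * g * c⁻¹)).pow_left q).zpow_left i

end Cfsg.Lib.Spec.JOneSq
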