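import Cfsg.Agent.Lib.Spec.JOneSquare.Sections

/-!
# Separability for seven and nineteen, or a homomorphism onto the first Janko group
-/

set_option autoImplicit false
set_option linter.style.haveILetI false
set_option linter.unusedSectionVars false

namespace Cfsg.Lib.Spec.JOneSq

open Subgroup Cfsg.Lib.Group.MinFactor

universe u

/-- Separable for seven and for nineteen. -/
def Sep (G : Type u) [Group G] : Prop := Cfsg.IsPSolvable 7 G ∧ Cfsg.IsPSolvable 19 G

theorem Sep.subgroup {G : Type u} [Group G] (h : Sep G) (H : Subgroup G) : Sep H :=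
  haveI := Fact.mk (by norm_num : Nat.Prime 7)
  haveI := Fact.mk (by norm_num : Nat.Prime 19)
  ⟨Core.isPSolvable_subgroup h.1 H, Core.isPSolvable_subgroup h.2 H⟩

theorem Sep.quotient {G : Type u} [Group G] (h : Sep G) (N : Subgroup G) [N.Normal] : Sep (G ⧸ N) :=
  haveI := Fact.mk (by norm_num : Nat.Prime 7)
  haveI := Fact.mk (by norm_num : Nat.Prime 19)
  ⟨Core.isPSolvable_quotient h.1 N, Core.isPSolvable_quotient h.2 N⟩

theorem Sep.psolvable {G : Type u} [Group G] (h : Sep G) {p : ℕ} (hp : p = 7 ∨ p = 19) :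
    Cfsg.IsPSolvable p G := by
  rcases hp with rfl | rfl
  exacts [h.1, h.2]

theorem sep_of_solvable {G : Type u} [Group G] [Finite G] [Group.IsSolvable G] : Sep G :=
  haveI := Fact.mk (by norm_num : Nat.Prime 7)
  haveI := Fact.mk (by norm_num : Nat.Prime 19)
  ⟨Core.isPSolvable_of_isSolvable, Core.isPSolvable_of_isSolvable⟩

/-- A homomorphism onto the first Janko group, onto which `N` maps. -/
def Top {G : Type u} [Group G] (N : Subgroup G) : Prop :=
  ∃ ψ : G →* ↥Spor.J1, N.map ψ = ⊤

/-- A minimal normal subgroup isomorphic to the first Janko group splits off. -/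
theorem top_of_iso {G : Type u} [Group G] [Finite G] {W : Subgroup G} [hW : W.Normal] (hJ : Spor.IsoJ1 W) :
    Top W := by
  classical
  obtain ⟨e⟩ := id hJ
  have hcen : ∀ a b : W, (∀ x : W, a * x * a⁻¹ = b * x * b⁻¹) → a = b := by
    intro a b hab
    haveI := J1Weak.simple_of_isoJ1 hJ
    have hc : b⁻¹ * a ∈ center W := mem_center_iff.2 fun x => by
      have h1 := hab x
      calc x * (b⁻¹ * a) = b⁻¹ * (b * x * b⁻¹) * a := by group
        _ = b⁻¹ * (a * x * a⁻¹) * a := by rw [h1]
        _ = b⁻¹ * a * x := by group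
    rcases IsSimpleGroup.eq_bot_or_eq_top_of_normal (center W) inferInstance with h | h
    · rw [h, mem_bot] at hc
      exact (inv_mul_eq_one.1 hc).symm
    · exfalso
      obtain ⟨a', ha⟩ := Cfsg.Lib.J1.exists_orderOf_iff.2 (show 7 ∈ Cfsg.Lib.J1.ordList by decide)
      obtain ⟨b', hb⟩ := Cfsg.Lib.J1.exists_orderOf_iff.2 (show 11 ∈ Cfsg.Lib.J1.ordList by decide)
      haveI := finite_J1
      have hcm : Commute a' b' := by
        have := mem_center_iff.1 (show e.symm b' ∈ center W from h ▸ mem_top _) (e.symm a')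
        show _ = _
        simpa using congrArg e this
      have h77 : orderOf (a' * b') = 77 := by
        rw [hcm.orderOf_mul_eq_mul_orderOf_of_coprime (by rw [ha, hb]; decide), ha, hb]
      exact absurd (h77 ▸ mem_spec (a' * b')) (by decide)
  choose c hc using fun g : G => exists_conj hJ (MulAut.conjNormal (H := W) g)
  let φ : G →* W := MonoidHom.mk' c fun g k => hcen _ _ fun x => by
    rw [← hc, map_mul, MulAut.mul_apply, hc k, hc g]
    group
  refine ⟨e.toMonoidHom.comp φ, eq_top_iff.2 fun j _ => ⟨(e.symm j : G), (e.symm j).2, ?_⟩⟩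
  show e (c (e.symm j : G)) = j
  rw [hcen (c (e.symm j : G)) (e.symm j) fun x => by
    rw [← hc]; exact Subtype.ext (MulAut.conjNormal_apply _ _), MulEquiv.apply_symm_apply]

/-- A normal subgroup is separable for seven and nineteen, or maps onto the first Janko group. -/
theorem sep_or_top : ∀ (n : ℕ) (G : Type u) [Group G] [Finite G], Nat.card G ≤ n → Le G →
    ∀ N : Subgroup G, N.Normal → Sep N ∨ Top N := by
  intro n
  induction n with
  | zero => intro G _ _ h; have := Nat.card_pos (α := G); omega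
  | succ n ih =>
    intro G _ _ hn h N hN
    classical
    haveI := hN
    by_cases hb : N = ⊥
    · subst hb
      exact Or.inl sep_of_solvable
    obtain ⟨W, hW, hWN, hW0, hmin⟩ := exists_minimal_normal hN hb
    haveI := hW
    set f := QuotientGroup.mk' W
    have hlt : Nat.card (G ⧸ W) ≤ n := by
      have := Core.card_quotient_lt hW0
      omega
    rcases ih (G ⧸ W) hlt (h.quotient W) (N.map f) (hN.map f (QuotientGroup.mk'_surjective W)) with hsep | ⟨ψ, hψ⟩
    swap
    · exact Or.inr ⟨ψ.comp f, by rw [← Subgroup.map_map]; exact hψ⟩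
    by_cases hJ : ¬ IsMulCommutative W ∧ ∃ S, Factor W S ∧ Spor.IsoJ1 S
    · obtain ⟨hnc, S, hS, hSJ⟩ := hJ
      obtain rfl := eq_of_factor_iso h hmin hnc hS hSJ
      obtain ⟨ψ, hψ⟩ := top_of_iso hSJ
      exact Or.inr ⟨ψ, eq_top_iff.2 (hψ ▸ map_mono hWN)⟩
    left
    have key : ∀ p, p = 7 ∨ p = 19 → Cfsg.IsPSolvable p N := by
      intro p hp
      have hpp : p.Prime := by rcases hp with rfl | rfl <;> norm_num
      haveI := Fact.mk hpp
      have hfac : Core.PFactor p (Nat.card (W.subgroupOf N)) := by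
        rw [Nat.card_congr (subgroupOfEquivOfLe hWN).toEquiv]
        by_cases hc : IsMulCommutative W
        · haveI := hc
          obtain ⟨-, q, hq, -, hWq⟩ := Core.minimal_solvable_elementary (M := W)
            ⟨hW, hW0, fun K hK hKW => or_iff_not_imp_left.2 (hmin K hK hKW)⟩
            (Core.isSolvable_of_isMulCommutative W)
          haveI := Fact.mk hq
          obtain ⟨k, hk⟩ := IsPGroup.iff_card.1 hWq
          rcases eq_or_ne q p with rfl | hqp
          · exact Or.inl ⟨k, hk⟩
          · exact Or.inr (hk ▸ ((Nat.coprime_primes hq hpp).2 hqp).pow_left k)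
        · obtain ⟨S, hS⟩ := exists_factor hW0
          exact Or.inr ((hpp.coprime_iff_not_dvd).2
            (not_dvd_of_factor h hmin hc hS (fun e => hJ ⟨hc, S, hS, e⟩) hp)).symm
      let g : ↥N →* ↥(N.map f) := f.subgroupMap N
      have hker : g.ker = W.subgroupOf N := by
        ext x
        rw [MonoidHom.mem_ker, mem_subgroupOf, ← QuotientGroup.eq_one_iff, Subtype.ext_iff]
        rfl
      haveI : (W.subgroupOf N).Normal := hW.subgroupOf N
      have hq : Cfsg.IsPSolvable p (↥N ⧸ W.subgroupOf N) :=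
        Core.isPSolvable_of_surjective
          ((QuotientGroup.quotientMulEquivOfEq hker).toMonoidHom.comp
            (QuotientGroup.quotientKerEquivOfSurjective g (f.subgroupMap_surjective N)).symm.toMonoidHom)
          ((QuotientGroup.quotientMulEquivOfEq hker).surjective.comp
            (QuotientGroup.quotientKerEquivOfSurjective g (f.subgroupMap_surjective N)).symm.surjective)
          (hsep.psolvable hp)
      exact Core.HasFactorChain.extension _ hfac hq
    exact ⟨key 7 (Or.inl rfl), key 19 (Or.inr rfl)⟩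

/-- The three kinds of groups. -/
theorem trichotomy {G : Type u} [Group G] [Finite G] (h : Le G) :
    Sep G ∨ (∃ φ : G →* ↥Spor.J1, Function.Surjective φ ∧ Sep φ.ker) ∨
      ∃ φ : G →* ↥Spor.J1 × ↥Spor.J1, Function.Surjective φ := by
  rcases sep_or_top _ G le_rfl h ⊤ inferInstance with hs | ⟨φ, hφ⟩
  · haveI := Fact.mk (by norm_num : Nat.Prime 7)
    haveI := Fact.mk (by norm_num : Nat.Prime 19)
    let e : (⊤ : Subgroup G) ≃* G := topEquiv
    exact Or.inl ⟨Core.isPSolvable_of_surjective e.toMonoidHom e.surjective hs.1,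
      Core.isPSolvable_of_surjective e.toMonoidHom e.surjective hs.2⟩
  rw [← MonoidHom.range_eq_map] at hφ
  have hφs : Function.Surjective φ := MonoidHom.range_eq_top.1 hφ
  rcases sep_or_top _ G le_rfl h φ.ker inferInstance with hs | ⟨ψ, hψ⟩
  · exact Or.inr (Or.inl ⟨φ, hφs, hs⟩)
  refine Or.inr (Or.inr ⟨φ.prod ψ, fun ⟨a, b⟩ => ?_⟩)
  obtain ⟨g, rfl⟩ := hφs a
  obtain ⟨k, hk, hkb⟩ : b * (ψ g)⁻¹ ∈ φ.ker.map ψ := hψ ▸ mem_top _
  refine ⟨k * g, Prod.ext ?_ ?_⟩
  · show φ (k * g) = φ g
    rw [map_mul, show φ k = 1 from hk, one_mul]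
  · show ψ (k * g) = b
    rw [map_mul, hkb, inv_mul_cancel_right]

end Cfsg.Lib.Spec.JOneSq
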