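import Cfsg.Agent.Lib.Spec.JOneSquare.Actions
import Cfsg.Agent.Lib.Spec.JOneSquare.Tops
import Cfsg.Agent.Lib.Coprime.RankTwoDecomp
import Cfsg.Agent.Lib.Solv.Hall

/-!
# Lifting along homomorphisms, and fixed points in solvable subgroups
-/

set_option autoImplicit false
set_option linter.style.haveILetI false
set_option linter.unusedSectionVars false

namespace Cfsg.Lib.Spec.JOneSq

open Subgroup
open scoped commutatorElement

universe u v

variable {G : Type u} [Group G] [Finite G] {Q : Type v} [Group Q]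

theorem exists_lift_orderOf (f : G →* Q) (hf : Function.Surjective f) {x : Q}
    (hco : (orderOf x).Coprime (Nat.card f.ker)) : ∃ g : G, f g = x ∧ orderOf g = orderOf x := by
  obtain ⟨g, rfl⟩ := hf x
  set n := orderOf (f g) with hn
  obtain ⟨m, hm1, hm0⟩ : ∃ m, m ≡ 1 [MOD n] ∧ m ≡ 0 [MOD Nat.card f.ker] :=
    ⟨_, (Nat.chineseRemainder hco 1 0).2⟩
  have himg : f (g ^ m) = f g := by
    rw [map_pow]
    conv_rhs => rw [← pow_one (f g)]
    exact pow_eq_pow_iff_modEq.2 (hn ▸ hm1)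
  refine ⟨g ^ m, himg, Nat.dvd_antisymm (orderOf_dvd_of_pow_eq_one ?_) ?_⟩
  · have hk : g ^ n ∈ f.ker := by rw [MonoidHom.mem_ker, map_pow, hn, pow_orderOf_eq_one]
    obtain ⟨c, hc⟩ := Nat.modEq_zero_iff_dvd.1 hm0
    have h1 : (g ^ n) ^ Nat.card f.ker = 1 := by
      have h2 := congrArg Subtype.val (pow_card_eq_one' (x := (⟨g ^ n, hk⟩ : f.ker)))
      simpa using h2
    rw [← pow_mul, mul_comm, hc, mul_comm (Nat.card f.ker), ← mul_assoc, mul_comm n c, mul_assoc, mul_comm c, pow_mul,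
      pow_mul, h1, one_pow]
  · have hd := orderOf_map_dvd f (g ^ m)
    rwa [himg] at hd

/-- Centralizers of coprime elements cover the centralizers of their images. -/
theorem exists_centralizer_lift (f : G →* Q) {g : G} (hco : (orderOf g).Coprime (Nat.card f.ker))
    {y : G} (hy : Commute (f y) (f g)) : ∃ y' : G, f y' = f y ∧ Commute y' g := by
  have hK : zpowers g ≤ normalizer (f.ker : Set G) := by
    rw [normalizer_eq_top]; exact le_top
  have hconj : y * g * y⁻¹ ∈ f.ker ⊔ zpowers g := by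
    have h1 : y * g * y⁻¹ * g⁻¹ ∈ f.ker := by
      rw [MonoidHom.mem_ker, map_mul, map_mul, map_mul, map_inv, map_inv, hy.eq, mul_inv_cancel_right,
        mul_inv_cancel]
    rw [show y * g * y⁻¹ = (y * g * y⁻¹ * g⁻¹) * g by group]
    exact mul_mem (mem_sup_left h1) (mem_sup_right (mem_zpowers g))
  obtain ⟨n, hn, he⟩ := Coprime.exists_conj_of_coprime f.ker (zpowers g) (zpowers (y * g * y⁻¹)) hK
    (by rw [Nat.card_zpowers]; exact hco)
    (Or.inl (haveI : IsMulCommutative (zpowers g) := inferInstance; Core.isSolvable_of_isMulCommutative _))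
    (zpowers_le.2 hconj)
    (by rw [Nat.card_zpowers, Nat.card_zpowers]; exact orderOf_injective (MulAut.conj y).toMonoidHom (MulAut.conj y).injective g)
  refine ⟨n⁻¹ * y, by rw [map_mul, map_inv, MonoidHom.mem_ker.1 hn, inv_one, one_mul], ?_⟩
  have h2 : y * g * y⁻¹ ∈ (zpowers g).map (MulAut.conj n).toMonoidHom := he ▸ mem_zpowers _
  obtain ⟨w, hw, hwe⟩ := h2
  have hwe' : n * w * n⁻¹ = y * g * y⁻¹ := hwe
  have hwg : w = g := by
    have hfw : f w = f g := by
      have h3 := congrArg f hwe'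
      rw [map_mul, map_mul, map_inv, MonoidHom.mem_ker.1 hn, one_mul, inv_one, mul_one, map_mul, map_mul,
        map_inv, hy.eq, mul_inv_cancel_right] at h3
      exact h3
    have hmem : w * g⁻¹ ∈ f.ker ⊓ zpowers g :=
      ⟨MonoidHom.mem_ker.2 (by rw [map_mul, map_inv, hfw, mul_inv_cancel]),
        (zpowers g).mul_mem hw ((zpowers g).inv_mem (mem_zpowers g))⟩
    rw [Subgroup.inf_eq_bot_of_coprime (by rw [Nat.card_zpowers]; exact hco.symm), mem_bot] at hmem
    exact mul_inv_eq_one.1 hmem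
  rw [hwg] at hwe'
  show n⁻¹ * y * g = g * (n⁻¹ * y)
  calc n⁻¹ * y * g = n⁻¹ * (y * g * y⁻¹) * y := by group
    _ = n⁻¹ * (n * g * n⁻¹) * y := by rw [hwe']
    _ = g * (n⁻¹ * y) := by group

/-- A Sylow normalizer covers. -/
theorem map_inf_normalizer_sylow (φ : G →* Q) {C H : Subgroup G} (hH : H ≤ φ.ker) (hHC : H ≤ C)
    (hC : C ≤ normalizer (H : Set G)) {p : ℕ} [Fact p.Prime] (P : Sylow p H) :
    (C ⊓ normalizer (((P : Subgroup H).map H.subtype : Subgroup G) : Set G)).map φ = C.map φ := by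
  refine le_antisymm (map_mono inf_le_left) ?_
  rintro _ ⟨c, hc, rfl⟩
  obtain ⟨R, hR⟩ := Coprime.exists_sylow_eq_conj P (hC hc)
  obtain ⟨k, hk, hkR⟩ := Coprime.exists_sylow_conj P R
  refine ⟨k⁻¹ * c, ⟨C.mul_mem (C.inv_mem (hHC hk)) hc, ?_⟩, by
    rw [map_mul, map_inv, MonoidHom.mem_ker.1 (hH hk), inv_one, one_mul]⟩
  refine mem_normalizer_iff_map_conj_eq.2 ?_
  show Subgroup.map (MulAut.conj (k⁻¹ * c)).toMonoidHom _ = _
  rw [← Coprime.map_conj_conj, ← hR, hkR, Coprime.map_conj_conj,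
    inv_mul_cancel, Coprime.map_conj_one]

/-- A normalizer of a Hall subgroup of a solvable normal subgroup covers. -/
theorem map_inf_normalizer_hall (φ : G →* Q) {C H : Subgroup G} (hH : H ≤ φ.ker) (hHC : H ≤ C)
    (hC : C ≤ normalizer (H : Set G)) [Group.IsSolvable H] {π : Set ℕ} {T : Subgroup H} (hT : Cfsg.IsPiHall π T) :
    (C ⊓ normalizer ((T.map H.subtype : Subgroup G) : Set G)).map φ = C.map φ := by
  refine le_antisymm (map_mono inf_le_left) ?_
  rintro _ ⟨c, hc, rfl⟩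
  set T' := T.map H.subtype
  have hle : T'.map (MulAut.conj c).toMonoidHom ≤ H := by
    rintro _ ⟨t, ⟨t', -, rfl⟩, rfl⟩
    exact (mem_normalizer_iff.1 (hC hc) _).1 t'.2
  set K := (T'.map (MulAut.conj c).toMonoidHom).subgroupOf H
  have hKcard : Nat.card K = Nat.card T := by
    rw [Nat.card_congr (subgroupOfEquivOfLe hle).toEquiv,
      card_map_of_injective (f := (MulAut.conj c).toMonoidHom) (MulAut.conj c).injective,
      card_map_of_injective H.subtype_injective]
  obtain ⟨k, hk⟩ := Solv.le_conj_of_isPiHall hT (K := K) fun s hs hsd => hT.1 s hs (hKcard ▸ hsd)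
  have hTK : T'.map (MulAut.conj c).toMonoidHom = T'.map (MulAut.conj (k : G)).toMonoidHom := by
    refine eq_of_le_of_card_ge ?_ (le_of_eq ?_)
    · intro x hx
      have hxK : (⟨x, hle hx⟩ : H) ∈ K := hx
      obtain ⟨t, ht, hte⟩ := hk hxK
      exact ⟨(t : G), mem_map_of_mem _ ht, congrArg Subtype.val hte⟩
    · rw [Coprime.card_map_conj, Coprime.card_map_conj]
  refine ⟨(k : G)⁻¹ * c, ⟨C.mul_mem (C.inv_mem (hHC k.2)) hc, ?_⟩, by
    rw [map_mul, map_inv, MonoidHom.mem_ker.1 (hH k.2), inv_one, one_mul]⟩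
  refine mem_normalizer_iff_map_conj_eq.2 ?_
  show Subgroup.map (MulAut.conj ((k : G)⁻¹ * c)).toMonoidHom _ = _
  rw [← Coprime.map_conj_conj, hTK, Coprime.map_conj_conj,
    inv_mul_cancel, Coprime.map_conj_one]

/-- Centralizers of normalized cyclic subgroups cover perfect quotients. -/
theorem map_inf_centralizer_cyclic (φ : G →* Q) (hQ : commutator Q = ⊤) {C : Subgroup G} (hC : C.map φ = ⊤)
    {Z : Subgroup G} [IsCyclic Z] (hCZ : C ≤ normalizer (Z : Set G)) :
    (C ⊓ centralizer (Z : Set G)).map φ = ⊤ := by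
  refine eq_top_iff.2 (hQ.ge.trans ?_)
  have hcyc : ⁅C, C⁆ ≤ C ⊓ centralizer (Z : Set G) := by
    refine le_inf (commutator_le_self C) (commutator_le.2 fun a ha b hb => ?_)
    let ρ : ↥C →* MulAut Z := Solv.conjAut hCZ
    have hab : ∀ x y : MulAut Z, x * y = y * x := fun x y => by
      apply (IsCyclic.mulAutMulEquiv Z).injective
      rw [map_mul, map_mul, mul_comm]
    have h1 : ρ ⁅(⟨a, ha⟩ : C), ⟨b, hb⟩⁆ = 1 := by
      rw [map_commutatorElement, commutatorElement_eq_one_iff_mul_comm]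
      exact hab _ _
    refine mem_centralizer_iff.2 fun z hz => ?_
    have h2 := congrArg (fun f : MulAut Z => ((f ⟨z, hz⟩ : Z) : G)) h1
    simp only [ρ, Solv.conjAut_apply, MulAut.one_apply] at h2
    exact (mul_inv_eq_iff_eq_mul.1 h2).symm
  rw [_root_.commutator_def, ← hC, ← map_commutator]
  exact map_mono hcyc

/-- A perfect subgroup covering a perfect group. -/
theorem exists_perfect_map (φ : G →* Q) (hQ : commutator Q = ⊤) {C : Subgroup G} (hC : C.map φ = ⊤) :
    ∃ D ≤ C, ⁅D, D⁆ = D ∧ D.map φ = ⊤ := by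
  let d : ℕ → Subgroup G := fun n => (derivedSeries C n).map C.subtype
  have hd : ∀ n, d (n + 1) = ⁅d n, d n⁆ := fun n => by
    simp only [d, derivedSeries_succ, map_commutator]
  have hmap : ∀ n, (d n).map φ = ⊤ := by
    intro n
    induction n with
    | zero => simp only [d, derivedSeries_zero, ← MonoidHom.range_eq_map, range_subtype, hC]
    | succ n ih => rw [hd, map_commutator, ih, ← _root_.commutator_def, hQ]
  obtain ⟨n, hmin⟩ : ∃ n, ∀ m, Nat.card (d n) ≤ Nat.card (d m) :=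
    ⟨Function.argmin fun m => Nat.card (d m), fun m => Function.argmin_le (fun m => Nat.card (d m)) m⟩
  refine ⟨d n, map_subtype_le _, ?_, hmap n⟩
  rw [← hd]
  exact eq_of_le_of_card_ge (map_mono (derivedSeries_antitone _ n.le_succ)) (hmin _)

/-- A nontrivial perfect subgroup of a nonsolvable subgroup. -/
theorem exists_perfect_le {C : Subgroup G} (hC : ¬ Group.IsSolvable C) :
    ∃ D ≤ C, ⁅D, D⁆ = D ∧ D ≠ ⊥ := by
  let d : ℕ → Subgroup C := derivedSeries C
  obtain ⟨n, hmin⟩ : ∃ n, ∀ m, Nat.card (d n) ≤ Nat.card (d m) :=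
    ⟨Function.argmin fun m => Nat.card (d m), fun m => Function.argmin_le (fun m => Nat.card (d m)) m⟩
  have h1 : ⁅d n, d n⁆ = d n := eq_of_le_of_card_ge (derivedSeries_antitone _ n.le_succ) (hmin (n + 1))
  refine ⟨(d n).map C.subtype, map_subtype_le _, by rw [← map_commutator, h1], fun h => hC ⟨⟨n, ?_⟩⟩⟩
  rwa [map_eq_bot_iff_of_injective _ C.subtype_injective] at h

/-- An involution in a nontrivial perfect subgroup, outside a given proper normal subgroup. -/
theorem exists_invol_notin (h : Le G) {D : Subgroup G} (hD : ⁅D, D⁆ = D) {H : Type v} [Group H] (φ : G →* H)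
    (hφ : ∃ d ∈ D, φ d ≠ 1) : ∃ t ∈ D, t * t = 1 ∧ φ t ≠ 1 := by
  obtain ⟨d, hd, hd1⟩ := hφ
  set f := φ.comp D.subtype
  haveI : Finite f.range := Finite.of_surjective _ f.rangeRestrict_surjective
  haveI : Nontrivial f.range := ⟨⟨f.rangeRestrict ⟨d, hd⟩, 1, fun e => hd1 (congrArg Subtype.val e)⟩⟩
  obtain ⟨s, -, hs, -, -, -⟩ := exists_four ((h.subgroup D).of_surjective _ f.rangeRestrict_surjective)
    (commutator_range (commutator_eq_top_of_self hD) f)
  obtain ⟨g, rfl⟩ := f.rangeRestrict_surjective s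
  set n := orderOf (g : G) with hn
  have h2 : 2 ∣ n := by
    rw [← hs, hn, Subgroup.orderOf_coe]; exact orderOf_map_dvd _ g
  obtain ⟨k, hk⟩ := h2
  have hkodd : ¬ 2 ∣ k := fun ⟨j, hj⟩ => h.no_sq Nat.prime_two (g : G) ⟨j, by rw [← hn, hk, hj]; ring⟩
  refine ⟨(g : G) ^ k, D.pow_mem g.2 k, by rw [← pow_two, ← pow_mul, mul_comm, ← hk, hn, pow_orderOf_eq_one], ?_⟩
  intro e
  have e' : f.rangeRestrict g ^ k = 1 := by
    rw [← map_pow]; exact Subtype.ext e
  exact hkodd (hs ▸ orderOf_dvd_of_pow_eq_one e')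

/-- An involution of a perfect subgroup fixes a point of each order in a solvable subgroup of odd order. -/
theorem exists_fixed_prime : ∀ (n : ℕ) (G : Type u) [Group G] [Finite G] (T : Subgroup G), Nat.card T ≤ n →
    Le G → ∀ D : Subgroup G, ⁅D, D⁆ = D → D ≤ normalizer (T : Set G) → Group.IsSolvable T → Odd (Nat.card T) →
      ∀ t ∈ D, t * t = 1 → ∀ p : ℕ, p.Prime → p ∣ Nat.card T → ∃ a ∈ T, orderOf a = p ∧ Commute t a := by
  intro n
  induction n with
  | zero => intro G _ _ T h; have := Nat.card_pos (α := T); omega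
  | succ n ih =>
    intro G _ _ T hn h D hD hDT hsol hodd t htD ht p hp hpT
    haveI := hsol
    haveI := Fact.mk hp
    haveI : Nontrivial T := Finite.one_lt_card_iff_nontrivial.1 (lt_of_lt_of_le hp.one_lt
      (Nat.le_of_dvd Nat.card_pos hpT))
    obtain ⟨W, hW⟩ := Core.exists_isMinNormal_univ (G := T)
    obtain ⟨-, q, hq, -, hWq⟩ := Core.minimal_solvable_elementary hW inferInstance
    haveI := Fact.mk hq
    haveI := hW.1
    set V := (Cfsg.pCore q T).map T.subtype with hVdef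
    have hV0 : Cfsg.pCore q T ≠ ⊥ := fun h0 => hW.2.1 (eq_bot_iff.2 (h0 ▸ Core.le_pCore hWq))
    have hVp : IsPGroup q V := (Core.pCore_isPGroup q T).map _
    have hVne : V ≠ ⊥ := by rwa [hVdef, Ne, map_eq_bot_iff_of_injective _ T.subtype_injective]
    have hTV : ∀ g ∈ normalizer (T : Set G), g ∈ normalizer (V : Set G) := by
      intro g hg
      rw [mem_normalizer_iff_map_conj_eq]
      refine eq_of_le_of_card_ge ?_ (Coprime.card_map_conj _ _).ge
      rintro _ ⟨v, ⟨v', hv', rfl⟩, rfl⟩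
      let e : T ≃* T := T.normalizerMonoidHom ⟨g, hg⟩
      refine ⟨e v', ?_, rfl⟩
      rw [SetLike.mem_coe, ← Core.map_pCore_equiv e]
      exact mem_map_of_mem _ hv'
    have hVle : V ≤ T := map_subtype_le _
    by_cases hqp : q = p
    · subst hqp
      obtain ⟨v, hv, hv1, hc⟩ := exists_fixed h hD (fun d hd => hTV d (hDT hd)) (hodd.of_dvd_nat (card_dvd_of_le hVle))
        hVne htD ht
      exact ⟨v, hVle hv, h.orderOf_of_mem hVp hv hv1, hc⟩
    set N := normalizer (V : Set G) with hN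
    have hTN : T ≤ N := fun x hx => hTV x (le_normalizer hx)
    have hDN : D ≤ N := fun d hd => hTV d (hDT hd)
    haveI : (V.subgroupOf N).Normal := Subgroup.normal_in_normalizer
    set f := QuotientGroup.mk' (V.subgroupOf N)
    set T' := (T.subgroupOf N).map f
    set D' := (D.subgroupOf N).map f
    have hTcard : Nat.card (T.subgroupOf N) = Nat.card T := Nat.card_congr (subgroupOfEquivOfLe hTN).toEquiv
    have hmul : Nat.card T' * Nat.card V = Nat.card T := by
      let g : T →* ↥N ⧸ V.subgroupOf N := f.comp (Subgroup.inclusion hTN)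
      have hrange : g.range = T' := by
        rw [MonoidHom.range_comp]
        congr 1
        ext x
        exact ⟨fun ⟨y, hy⟩ => hy ▸ y.2, fun hx => ⟨⟨x, hx⟩, rfl⟩⟩
      have hker : g.ker = V.subgroupOf T := by
        ext x
        simp [g, f, MonoidHom.mem_ker, mem_subgroupOf]
      rw [← hrange, ← Nat.card_congr (QuotientGroup.quotientKerEquivRange g).toEquiv, hker,
        ← Nat.card_congr (subgroupOfEquivOfLe hVle).toEquiv, ← card_eq_card_quotient_mul_card_subgroup]
    have hV1 : 2 ≤ Nat.card V := by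
      haveI := (nontrivial_iff_ne_bot V).2 hVne
      exact Finite.one_lt_card
    have hlt : Nat.card T' ≤ n := by nlinarith [Nat.card_pos (α := T')]
    have hpT' : p ∣ Nat.card T' := by
      obtain ⟨k, hk⟩ := IsPGroup.iff_card.1 hVp
      refine (Nat.Coprime.dvd_mul_right (((Nat.coprime_primes hp hq).2 (Ne.symm hqp)).pow_right k)).1 ?_
      rw [← hk, hmul]; exact hpT
    have hD' : ⁅D', D'⁆ = D' := by
      rw [← map_commutator]
      congr 1
      refine map_injective N.subtype_injective ?_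
      rw [map_commutator, map_subgroupOf_eq_of_le hDN, hD]
    have hDT' : D' ≤ normalizer (T' : Set (↥N ⧸ V.subgroupOf N)) := by
      refine le_trans (map_mono ?_) (le_normalizer_map f)
      intro x hx
      rw [mem_normalizer_iff]
      intro y
      exact mem_normalizer_iff.1 (hDT hx) (y : G)
    haveI : Group.IsSolvable (T.subgroupOf N) :=
      Group.isSolvable_of_isSolvable_injective (f := (subgroupOfEquivOfLe hTN).toMonoidHom)
        (subgroupOfEquivOfLe hTN).injective
    obtain ⟨a, haT, hao, hac⟩ := ih _ T' hlt ((h.subgroup N).quotient _) D' hD' hDT'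
      (Group.isSolvable_of_surjective (f.subgroupMap_surjective (T.subgroupOf N)))
      (hodd.of_dvd_nat (Dvd.intro _ hmul)) (f ⟨t, hDN htD⟩) (mem_map_of_mem _ htD)
      (by rw [← map_mul, show (⟨t, hDN htD⟩ : N) * ⟨t, hDN htD⟩ = 1 from Subtype.ext ht, map_one]) p hp hpT'
    obtain ⟨a', ha', rfl⟩ := haT
    -- lift the fixed point
    have htT : t ∈ normalizer (T : Set G) := hDT htD
    let g : T →* ↥N ⧸ V.subgroupOf N := f.comp (Subgroup.inclusion hTN)
    obtain ⟨y, -, hy, hye⟩ := Coprime.RankTwo.exists_fixed_lift g Nat.prime_two (T.normalizerMonoidHom ⟨t, htT⟩)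
      (MulAut.conj (f ⟨t, hDN htD⟩)) (fun x => by
        show f (Subgroup.inclusion hTN _) = f ⟨t, hDN htD⟩ * f (Subgroup.inclusion hTN x) * (f ⟨t, hDN htD⟩)⁻¹
        rw [← map_inv, ← map_mul, ← map_mul]
        rfl)
      (by rw [← map_pow, show (⟨t, htT⟩ : normalizer (T : Set G)) ^ 2 = 1 from Subtype.ext (by
        simpa [pow_two] using ht), map_one])
      (Nat.odd_iff.1 hodd |> fun h => fun hd => by omega) ⊤ (fun _ _ => trivial) ⟨a', ha'⟩ trivial
      (by
        show f ⟨t, hDN htD⟩ * f a' * (f ⟨t, hDN htD⟩)⁻¹ = f a'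
        rw [hac.eq, mul_inv_cancel_right])
    have hyc : Commute t (y : G) := mul_inv_eq_iff_eq_mul.1 (congrArg Subtype.val hy)
    have hdiv : p ∣ orderOf (y : G) := by
      rw [← hao, show f a' = g y from hye.symm, Subgroup.orderOf_coe]
      exact orderOf_map_dvd g y
    obtain ⟨i, hi⟩ := exists_orderOf_of_dvd hdiv
    exact ⟨_, T.pow_mem y.2 i, hi, hyc.pow_right i⟩

theorem exists_fixed_prime' (h : Le G) {D T : Subgroup G} (hD : ⁅D, D⁆ = D) (hDT : D ≤ normalizer (T : Set G))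
    [hsol : Group.IsSolvable T] (hodd : Odd (Nat.card T)) {t : G} (htD : t ∈ D) (ht : t * t = 1)
    {p : ℕ} (hp : p.Prime) (hpT : p ∣ Nat.card T) : ∃ a ∈ T, orderOf a = p ∧ Commute t a :=
  exists_fixed_prime _ G T le_rfl h D hD hDT hsol hodd t htD ht p hp hpT

/-- An odd nilpotent group has order at most the product of the orders of the centralizers of the three involutions
of a four-group. -/
theorem card_le_prod {P : Subgroup G} [Group.IsNilpotent P] (hodd : Odd (Nat.card P)) {s u : G}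
    (hs : s * s = 1) (hu : u * u = 1) (hsu : Commute s u) (hsN : s ∈ normalizer (P : Set G))
    (huN : u ∈ normalizer (P : Set G)) :
    Nat.card P ≤ Nat.card (P ⊓ centralizer ({s} : Set G) : Subgroup G) *
      Nat.card (P ⊓ centralizer ({s * u} : Set G) : Subgroup G) *
      Nat.card (P ⊓ centralizer ({u} : Set G) : Subgroup G) := by
  let N := normalizer (P : Set G)
  let ρ : ↥N →* MulAut P := P.normalizerMonoidHom
  have hρ : ∀ (x : G) (hx : x ∈ N) (v : P), ((ρ ⟨x, hx⟩ v : P) : G) = x * v * x⁻¹ := fun _ _ _ => rfl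
  have hfx : ∀ (x : G) (hx : x ∈ N),
      Nat.card (Coprime.RankTwo.fx (ρ ⟨x, hx⟩)) = Nat.card (P ⊓ centralizer ({x} : Set G) : Subgroup G) := fun x hx =>
    Nat.card_congr
      { toFun := fun v => ⟨(v.1 : G), v.1.2, mem_centralizer_singleton_iff.2
          (mul_inv_eq_iff_eq_mul.1 ((hρ x hx v.1).symm.trans (congrArg Subtype.val v.2))).symm⟩
        invFun := fun v => ⟨⟨(v : G), v.2.1⟩, Subtype.ext ((hρ x hx _).trans
          (mul_inv_eq_iff_eq_mul.2 (mem_centralizer_singleton_iff.1 v.2.2).symm))⟩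
        left_inv := fun v => rfl
        right_inv := fun v => rfl }
  have h2 : ∀ (x : G) (hx : x ∈ N), x * x = 1 → ρ ⟨x, hx⟩ ^ 2 = 1 := fun x hx hx2 => by
    rw [← map_pow, show (⟨x, hx⟩ : N) ^ 2 = 1 from Subtype.ext (by simpa [pow_two] using hx2), map_one]
  have hd := (Coprime.RankTwo.decomp (q := 2) Nat.prime_two (Nat.card P) P rfl (ρ ⟨s, hsN⟩) (ρ ⟨u, huN⟩) (h2 s hsN hs)
    (h2 u huN hu) ((show Commute (⟨s, hsN⟩ : N) ⟨u, huN⟩ from Subtype.ext hsu.eq).map ρ)
    (fun hd => by rw [Nat.odd_iff] at hodd; omega)).2 ⊥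
      (fun x hx => by rw [mem_bot] at hx ⊢; rw [hx, map_one]) (fun x hx => by rw [mem_bot] at hx ⊢; rw [hx, map_one])
  simp only [bot_inf_eq, card_bot, Finset.prod_const_one, mul_one, one_mul] at hd
  erw [Fin.prod_univ_three] at hd
  refine hd.trans ?_
  have e0 : Coprime.RankTwo.line 2 (ρ ⟨s, hsN⟩) (ρ ⟨u, huN⟩) (0 : Fin 3) = ρ ⟨s, hsN⟩ := by
    simp [Coprime.RankTwo.line, Fin.snoc]
  have e1 : Coprime.RankTwo.line 2 (ρ ⟨s, hsN⟩) (ρ ⟨u, huN⟩) (1 : Fin 3) = ρ ⟨s * u, N.mul_mem hsN huN⟩ := by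
    rw [show ρ ⟨s * u, N.mul_mem hsN huN⟩ = ρ ⟨s, hsN⟩ * ρ ⟨u, huN⟩ from map_mul ρ ⟨s, hsN⟩ ⟨u, huN⟩]
    simp [Coprime.RankTwo.line, Fin.snoc]
  have e2 : Coprime.RankTwo.line 2 (ρ ⟨s, hsN⟩) (ρ ⟨u, huN⟩) (2 : Fin 3) = ρ ⟨u, huN⟩ := by
    simp [Coprime.RankTwo.line, Fin.snoc]
  rw [e0, e1, e2, hfx, hfx, hfx]

/-- A four-group fixing at most `k` points for each involution acts on an odd nilpotent group of order at most
`k ^ 3`. -/
theorem card_le_cube {P : Subgroup G} [Group.IsNilpotent P] (hodd : Odd (Nat.card P)) {s u : G}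
    (hs : s * s = 1) (hu : u * u = 1) (hsu : Commute s u) (hsN : s ∈ normalizer (P : Set G))
    (huN : u ∈ normalizer (P : Set G)) {k : ℕ}
    (hk : ∀ x : G, x = s ∨ x = u ∨ x = s * u → Nat.card (P ⊓ centralizer ({x} : Set G) : Subgroup G) ≤ k) :
    Nat.card P ≤ k ^ 3 := by
  refine (card_le_prod hodd hs hu hsu hsN huN).trans ?_
  rw [show k ^ 3 = k * k * k by ring]
  exact Nat.mul_le_mul (Nat.mul_le_mul (hk _ (Or.inl rfl)) (hk _ (Or.inr (Or.inr rfl)))) (hk _ (Or.inr (Or.inl rfl)))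

end Cfsg.Lib.Spec.JOneSq
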