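import Cfsg.Agent.Lib.Spec.JOneSquare.Modules
import Cfsg.Agent.Lib.Spec.JOneSquare.Lifting

/-!
# Groups mapping onto the square of the first Janko group
-/

set_option autoImplicit false
set_option linter.style.haveILetI false
set_option linter.unusedSectionVars false

namespace Cfsg.Lib.Spec.JOneSq

open Subgroup Cfsg.Lib.Group.MinFactor

universe u

theorem j_odd_trivial {H : Type u} [Group H] [Finite H] (hodd : Odd (Nat.card H)) (f : ↥Spor.J1 →* H)
    (x : ↥Spor.J1) : f x = 1 := by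
  haveI := finite_J1
  haveI := simple_J1
  rcases IsSimpleGroup.eq_bot_or_eq_top_of_normal f.ker inferInstance with hk | hk
  · exfalso
    have h1 := card_dvd_of_injective f ((MonoidHom.ker_eq_bot_iff f).1 hk)
    rw [card_J1] at h1
    exact (by norm_num : ¬ Odd (175560 : ℕ)) (hodd.of_dvd_nat h1)
  · exact MonoidHom.mem_ker.1 (hk ▸ mem_top x)

/-- Groups of odd order with admissible element orders are solvable. -/
theorem isSolvable_of_odd : ∀ (n : ℕ) (G : Type u) [Group G] [Finite G], Nat.card G ≤ n → Le G →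
    Odd (Nat.card G) → Group.IsSolvable G := by
  intro n
  induction n with
  | zero => intro G _ _ h; have := Nat.card_pos (α := G); omega
  | succ n ih =>
    intro G _ _ hn h hodd
    by_cases hb : (⊤ : Subgroup G) = ⊥
    · haveI : Subsingleton G := ⟨fun a b => by
        have ha : a ∈ (⊥ : Subgroup G) := hb ▸ mem_top a
        have hb' : b ∈ (⊥ : Subgroup G) := hb ▸ mem_top b
        rw [mem_bot] at ha hb'; rw [ha, hb']⟩
      infer_instance
    obtain ⟨W, hW, -, hW0, hmin⟩ := exists_minimal_normal (inferInstance : (⊤ : Subgroup G).Normal) hb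
    haveI := hW
    have hWs : Group.IsSolvable W := by
      by_cases hc : IsMulCommutative W
      · haveI := hc; exact Core.isSolvable_of_isMulCommutative W
      exfalso
      obtain ⟨S, hS⟩ := exists_factor hW0
      have h2 : 2 ∣ Nat.card S := by
        rcases factor_iso h hmin hc hS with ⟨⟨e⟩⟩ | h1 | h1
        · rw [Nat.card_congr e.toEquiv, card_J1]; norm_num
        all_goals rw [h1]; norm_num
      exact (Nat.not_even_iff_odd.2 hodd) (even_iff_two_dvd.2 (h2.trans (card_subgroup_dvd_card S)))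
    haveI := ih (G ⧸ W) (by have := Core.card_quotient_lt hW0; omega) (h.quotient W)
      (hodd.of_dvd_nat (card_quotient_dvd_card W))
    exact Group.isSolvable_of_ker_le_range W.subtype (QuotientGroup.mk' W)
      (by rw [QuotientGroup.ker_mk', range_subtype])

variable {G : Type u} [Group G] [Finite G]

theorem double_min (h : Le G) (φ : G →* ↥Spor.J1 × ↥Spor.J1) (hφ : Function.Surjective φ) {p : ℕ}
    [Fact p.Prime] (hVc : IsMulCommutative φ.ker) (hVp : IsPGroup p φ.ker) (hV : φ.ker ≠ ⊥)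
    (hodd : Odd (Nat.card φ.ker)) : False := by
  classical
  haveI := finite_J1
  have hp : p.Prime := Fact.out
  letI : CommGroup φ.ker := { (inferInstance : Group φ.ker) with mul_comm := hVc.is_comm.comm }
  haveI := (nontrivial_iff_ne_bot φ.ker).2 hV
  obtain ⟨e, he⟩ := IsPGroup.iff_card.1 hVp
  have hpV : p ∣ Nat.card φ.ker := by
    rcases e with _ | e
    · exact absurd he (Finite.one_lt_card (α := φ.ker)).ne'
    · exact he ▸ dvd_pow_self p e.succ_ne_zero
  have hp2 : p ≠ 2 := fun e2 => (Nat.not_even_iff_odd.2 hodd) (even_iff_two_dvd.2 (e2 ▸ hpV))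
  let q : G ⧸ φ.ker ≃* ↥Spor.J1 × ↥Spor.J1 := QuotientGroup.quotientKerEquivOfSurjective φ hφ
  let ρ : ↥Spor.J1 × ↥Spor.J1 →* MulAut φ.ker :=
    (QuotientGroup.lift φ.ker (MulAut.conjNormal (H := φ.ker)) (fun v hv => MonoidHom.mem_ker.2 (by
      apply MulEquiv.ext; intro w
      apply Subtype.ext
      rw [MulAut.conjNormal_apply, MulAut.one_apply]
      have hc := congrArg Subtype.val (mul_comm (⟨v, hv⟩ : φ.ker) w)
      simp only [Subgroup.coe_mul] at hc
      rw [hc, mul_inv_cancel_right]))).comp q.symm.toMonoidHom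
  have hρ : ∀ (g : G) (v : φ.ker), ((ρ (φ g) v : φ.ker) : G) = g * v * g⁻¹ := by
    intro g v
    have e1 : q.symm (φ g) = QuotientGroup.mk g := q.symm_apply_eq.2 rfl
    simp only [ρ, MonoidHom.coe_comp, Function.comp_apply, MulEquiv.coe_toMonoidHom, e1]
    rfl
  let ρ₁ := ρ.comp (MonoidHom.inl ↥Spor.J1 ↥Spor.J1)
  let ρ₂ := ρ.comp (MonoidHom.inr ↥Spor.J1 ↥Spor.J1)
  -- an element commuting with a kernel element
  have bad : ∀ (x : ↥Spor.J1 × ↥Spor.J1) (n : ℕ) (v : φ.ker), n ∣ orderOf x → v ≠ 1 → ρ x v = v →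
      n.Coprime p → Bad (n * p) → False := by
    intro x n v hn hv hfix hco hb
    obtain ⟨g, rfl⟩ := hφ x
    refine h.not_bad_commute (a := g) (b := (v : G)) ?_ (hn.trans (orderOf_map_dvd φ g))
      (n := p) ?_ hco hb
    · exact mul_inv_eq_iff_eq_mul.1 ((hρ g v).symm.trans (congrArg Subtype.val hfix))
    · rw [h.orderOf_of_mem hVp v.2 fun e => hv (Subtype.ext e)]
  rcases h.six hp (hpV.trans (card_subgroup_dvd_card _)) with rfl | h35 | h35 | hbig
  · exact hp2 rfl
  case inr.inr.inr =>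
    -- a big prime
    obtain ⟨q₁, hq₁, hco₁⟩ : ∃ q, (q = 7 ∨ q = 19) ∧ (Nat.card φ.ker).Coprime q := by
      rcases eq_or_ne p 7 with hp7 | hp7
      · exact ⟨19, Or.inr rfl, he ▸ ((Nat.coprime_primes hp (by norm_num)).2 (by omega)).pow_left e⟩
      · exact ⟨7, Or.inl rfl, he ▸ ((Nat.coprime_primes hp (by norm_num)).2 hp7).pow_left e⟩
    obtain ⟨h₁, hh₁, v₁, hv₁, hfix₁⟩ := exists_fixed_j ρ₁ (q := q₁) (m := 6)
      (by rcases hq₁ with rfl | rfl; exacts [Or.inl ⟨rfl, rfl⟩, Or.inr (Or.inr ⟨rfl, rfl⟩)]) hco₁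
    let W : Subgroup φ.ker := MonoidHom.eqLocus (ρ₁ h₁).toMonoidHom (MonoidHom.id _)
    have hW : ∀ v : φ.ker, v ∈ W ↔ ρ₁ h₁ v = v := fun v => Iff.rfl
    have hcomm : ∀ k : ↥Spor.J1, ∀ v ∈ W, ρ₂ k v ∈ W := by
      intro k v hv
      rw [hW] at hv ⊢
      show ρ₁ h₁ (ρ₂ k v) = ρ₂ k v
      conv_rhs => rw [← hv]
      simp only [ρ₁, ρ₂, MonoidHom.coe_comp, Function.comp_apply, MonoidHom.inl_apply, MonoidHom.inr_apply,
        ← MulAut.mul_apply, ← map_mul, Prod.mk_mul_mk, one_mul, mul_one]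
    let ρW : ↥Spor.J1 →* MulAut W :=
      { toFun := fun k =>
          { toFun := fun v => ⟨ρ₂ k v, hcomm k _ v.2⟩
            invFun := fun v => ⟨ρ₂ k⁻¹ v, hcomm k⁻¹ _ v.2⟩
            left_inv := fun v => Subtype.ext (by
              show ρ₂ k⁻¹ (ρ₂ k (v : φ.ker)) = _
              rw [← MulAut.mul_apply, ← map_mul, inv_mul_cancel, map_one, MulAut.one_apply])
            right_inv := fun v => Subtype.ext (by
              show ρ₂ k (ρ₂ k⁻¹ (v : φ.ker)) = _
              rw [← MulAut.mul_apply, ← map_mul, mul_inv_cancel, map_one, MulAut.one_apply])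
            map_mul' := fun v w => Subtype.ext (map_mul (ρ₂ k) _ _) }
        map_one' := MulEquiv.ext fun v => Subtype.ext (by
          show ρ₂ 1 (v : φ.ker) = (v : φ.ker)
          rw [map_one, MulAut.one_apply])
        map_mul' := fun a b => MulEquiv.ext fun v => Subtype.ext (by
          show ρ₂ (a * b) (v : φ.ker) = ρ₂ a (ρ₂ b v)
          rw [map_mul, MulAut.mul_apply]) }
    haveI : Nontrivial W := ⟨⟨⟨v₁, hfix₁⟩, 1, fun e => hv₁ (congrArg Subtype.val e)⟩⟩
    obtain ⟨k, n, hk, hn, v, hv, hfix⟩ : ∃ (k : ↥Spor.J1) (n : ℕ), orderOf k = n ∧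
        ((p = 7 ∧ n = 10) ∨ (p ≠ 7 ∧ n = 7)) ∧ ∃ v : W, v ≠ 1 ∧ ρW k v = v := by
      rcases eq_or_ne p 7 with hp7 | hp7
      · obtain ⟨k, hk, hv⟩ := exists_fixed_j ρW (q := 11) (m := 10) (Or.inr (Or.inl ⟨rfl, rfl⟩))
          (((he ▸ ((Nat.coprime_primes hp (by norm_num)).2 (by omega)).pow_left e :
            (Nat.card φ.ker).Coprime 11)).coprime_dvd_left (card_subgroup_dvd_card W))
        exact ⟨k, 10, hk, Or.inl ⟨hp7, rfl⟩, hv⟩
      · obtain ⟨k, hk, hv⟩ := exists_fixed_j7 ρW (hodd.of_dvd_nat (card_subgroup_dvd_card W))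
        exact ⟨k, 7, hk, Or.inr ⟨hp7, rfl⟩, hv⟩
    have hdvd : Nat.lcm 6 n ∣ orderOf ((h₁, k) : ↥Spor.J1 × ↥Spor.J1) := by
      rw [Prod.orderOf_mk, hh₁, hk]
    have hfx : ρ (h₁, k) (v : φ.ker) = v := by
      have e1 : ρ₁ h₁ (v : φ.ker) = v := v.2
      have e2 : ρ₂ k (v : φ.ker) = v := congrArg Subtype.val hfix
      have e3 : ((h₁, k) : ↥Spor.J1 × ↥Spor.J1) = (h₁, 1) * (1, k) := by simp
      rw [e3, map_mul, MulAut.mul_apply]
      exact (congrArg (ρ (h₁, 1)) e2).trans e1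
    refine bad _ _ _ hdvd (fun e => hv (Subtype.ext e)) hfx ?_ ?_ <;>
      rcases hn with ⟨rfl, rfl⟩ | ⟨hp7, rfl⟩ <;>
      first
        | decide
        | (rcases hbig with rfl | rfl | rfl <;> first | decide | exact absurd rfl hp7)
  all_goals
    -- three or five
    have hp35 : p = 3 ∨ p = 5 := by omega
    have hlift : ∀ g : G, (φ g) ^ p = 1 → g ^ p = 1 := by
      intro g hg
      have hmem : g ^ p ∈ φ.ker := by rw [MonoidHom.mem_ker, map_pow, hg]
      have h1 : (g ^ p) ^ p = 1 := h.pow_of_mem hVp hmem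
      rw [← pow_mul] at h1
      have h2 := orderOf_dvd_of_pow_eq_one h1
      rw [← pow_two] at h2
      obtain ⟨i, hi, hgi⟩ := (Nat.dvd_prime_pow hp).1 h2
      refine orderOf_dvd_iff_pow_eq_one.1 ?_
      rcases (by omega : i ≤ 1 ∨ i = 2) with hi1 | rfl
      · rw [hgi]; calc p ^ i ∣ p ^ 1 := pow_dvd_pow p hi1
          _ = p := pow_one p
      · exact absurd (by rw [hgi, pow_two]) (h.no_sq hp g)
    have hpow : ∀ (g : G) (v : φ.ker) (n : ℕ),
        ((v : G) * g) ^ n = ((∏ i ∈ Finset.range n, ρ (φ g ^ i) v : φ.ker) : G) * g ^ n := by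
      intro g v n
      induction n with
      | zero => simp
      | succ n ih =>
        rw [pow_succ, ih, Finset.prod_range_succ, Subgroup.coe_mul, ← map_pow, hρ, pow_succ]
        group
    have hnorm : ∀ x : ↥Spor.J1 × ↥Spor.J1, x ^ p = 1 → ∀ v : φ.ker,
        ∏ i ∈ Finset.range p, ρ (x ^ i) v = 1 := by
      intro x hx v
      obtain ⟨g, rfl⟩ := hφ x
      have h1 : ((v : G) * g) ^ p = 1 := hlift _ (by
        rw [map_mul, MonoidHom.mem_ker.1 v.2, one_mul, hx])
      rw [hpow, hlift g hx, mul_one] at h1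
      exact Subtype.ext h1
    have hco : (Nat.card φ.ker).Coprime 77 := he ▸ (Nat.Coprime.pow_left e (by
      rcases hp35 with rfl | rfl <;> decide))
    have h1 : ρ₁ = 1 := j_trivial_of_norm ρ₁ hp35 hco fun g hg v => by
      have := hnorm (g, 1) (Prod.ext (hg ▸ pow_orderOf_eq_one g) (one_pow p)) v
      simp only [Prod.pow_mk, one_pow] at this
      exact this
    have h2 : ρ₂ = 1 := j_trivial_of_norm ρ₂ hp35 hco fun g hg v => by
      have := hnorm (1, g) (Prod.ext (one_pow p) (hg ▸ pow_orderOf_eq_one g)) v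
      simp only [Prod.pow_mk, one_pow] at this
      exact this
    obtain ⟨a, ha⟩ := (range_orderOf 77).2 (by decide)
    obtain ⟨v, hv⟩ := exists_ne (1 : φ.ker)
    refine bad a 77 v (by rw [ha]) hv ?_ ?_ ?_
    · obtain ⟨a₁, a₂⟩ := a
      have e3 : ((a₁, a₂) : ↥Spor.J1 × ↥Spor.J1) = (a₁, 1) * (1, a₂) := by simp
      have e1 : ρ (a₁, 1) = 1 := DFunLike.congr_fun h1 a₁
      have e2 : ρ (1, a₂) = 1 := DFunLike.congr_fun h2 a₂
      rw [e3, map_mul, e1, e2, one_mul, MulAut.one_apply]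
    all_goals rcases hp35 with rfl | rfl <;> decide

/-- A group with admissible element orders mapping onto the square of the first Janko group is that square. -/
theorem double (h : Le G) (φ : G →* ↥Spor.J1 × ↥Spor.J1) (hφ : Function.Surjective φ) :
    Nonempty (G ≃* ↥Spor.J1 × ↥Spor.J1) := by
  classical
  haveI := finite_J1
  by_cases hN : φ.ker = ⊥
  · exact ⟨MulEquiv.ofBijective φ ⟨(MonoidHom.ker_eq_bot_iff φ).1 hN, hφ⟩⟩
  exfalso
  -- the kernel has odd order
  have hgen : ∀ K : Subgroup G, K.Normal → φ.ker ≤ K → Odd K.index → K = ⊤ := by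
    intro K hK hle hodd
    haveI := hK
    let q : G ⧸ φ.ker ≃* ↥Spor.J1 × ↥Spor.J1 := QuotientGroup.quotientKerEquivOfSurjective φ hφ
    let f : ↥Spor.J1 × ↥Spor.J1 →* G ⧸ K :=
      (QuotientGroup.map φ.ker K (MonoidHom.id G) hle).comp q.symm.toMonoidHom
    have hf : ∀ g : G, f (φ g) = QuotientGroup.mk g := fun g => by
      have e1 : q.symm (φ g) = QuotientGroup.mk g := q.symm_apply_eq.2 rfl
      show QuotientGroup.map φ.ker K (MonoidHom.id G) hle (q.symm (φ g)) = _
      rw [e1]; rfl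
    have hoddq : Odd (Nat.card (G ⧸ K)) := hodd
    refine eq_top_iff.2 fun g _ => (QuotientGroup.eq_one_iff g).1 ?_
    rw [← hf]
    obtain ⟨a, b⟩ := φ g
    rw [show ((a, b) : ↥Spor.J1 × ↥Spor.J1) = (a, 1) * (1, b) by simp, map_mul]
    have e1 := j_odd_trivial hoddq (f.comp (MonoidHom.inl ↥Spor.J1 ↥Spor.J1)) a
    have e2 := j_odd_trivial hoddq (f.comp (MonoidHom.inr ↥Spor.J1 ↥Spor.J1)) b
    simp only [MonoidHom.coe_comp, Function.comp_apply, MonoidHom.inl_apply, MonoidHom.inr_apply] at e1 e2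
    rw [e1, e2, one_mul]
  haveI : Fact (Nat.Prime 2) := ⟨Nat.prime_two⟩
  have hodd : Odd (Nat.card φ.ker) := by
    rw [← Nat.not_even_iff_odd, even_iff_two_dvd]
    intro h2
    obtain ⟨E⟩ : Nonempty (Sylow 2 φ.ker) := inferInstance
    have hE : 2 ∣ Nat.card (E : Subgroup φ.ker) := E.dvd_card_of_dvd_card h2
    obtain ⟨⟨s, hsE⟩, hs⟩ := exists_prime_orderOf_dvd_card' 2 hE
    rw [Subgroup.orderOf_mk] at hs
    obtain ⟨a, ha⟩ := (range_orderOf 77).2 (by decide)
    obtain ⟨g, hg⟩ := hφ a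
    have hgm : g ∈ centralizer (((E : Subgroup φ.ker).map φ.ker.subtype : Subgroup G) : Set G) ⊔ φ.ker :=
      (h.centralizer_sup φ.ker hgen E).symm ▸ mem_top g
    obtain ⟨c, hc, k, hk, rfl⟩ := Subgroup.mem_sup_of_normal_right.1 hgm
    rw [map_mul, MonoidHom.mem_ker.1 hk, mul_one] at hg
    refine h.no_three' (p := 7) (r := 11) (s := 2) (Or.inl rfl) (Or.inr (Or.inl rfl)) Nat.prime_two
      (by norm_num) (by norm_num) (by norm_num) (g := c) (c := (s : G)) ?_ ?_ ?_
    · have h7 : orderOf (φ c) = 7 * 11 := by rw [hg, ha]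
      exact h7 ▸ orderOf_map_dvd φ c
    · rw [Subgroup.orderOf_coe, hs]
    · exact ((mem_centralizer_iff.1 hc) _ (mem_map_of_mem _ hsE)).symm
  -- a chief factor
  haveI : Group.IsSolvable φ.ker := isSolvable_of_odd _ φ.ker le_rfl (h.subgroup _) hodd
  haveI : Finite {M : Subgroup G // M.Normal ∧ M < φ.ker} := inferInstance
  haveI : Nonempty {M : Subgroup G // M.Normal ∧ M < φ.ker} :=
    ⟨⟨⊥, inferInstance, bot_lt_iff_ne_bot.2 hN⟩⟩
  obtain ⟨⟨M, hMn, hMlt⟩, hmax⟩ :=
    Finite.exists_max (fun M : {M : Subgroup G // M.Normal ∧ M < φ.ker} => Nat.card M.1)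
  haveI := hMn
  set f := QuotientGroup.mk' M
  let ψ : G ⧸ M →* ↥Spor.J1 × ↥Spor.J1 := QuotientGroup.lift M φ hMlt.le
  have hψ : Function.Surjective ψ := fun x => let ⟨g, hg⟩ := hφ x; ⟨QuotientGroup.mk g, hg⟩
  have hker : ψ.ker = φ.ker.map f := QuotientGroup.ker_lift M φ hMlt.le
  have hne : φ.ker.map f ≠ ⊥ := by
    rw [Ne, Subgroup.map_eq_bot_iff, QuotientGroup.ker_mk']
    exact fun hle => hMlt.not_ge hle
  have hmin : Core.IsMinNormal (φ.ker.map f) := by
    refine ⟨(inferInstance : φ.ker.Normal).map f (QuotientGroup.mk'_surjective M), hne, fun K hK hKle => ?_⟩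
    haveI := hK
    by_contra hcon
    push Not at hcon
    obtain ⟨hK0, hKN⟩ := hcon
    have hMK : M ≤ K.comap f := fun m hm => by
      rw [mem_comap, show f m = 1 from (QuotientGroup.eq_one_iff m).2 hm]; exact K.one_mem
    have hKle' : K.comap f ≤ φ.ker := by
      refine (comap_mono hKle).trans ?_
      rw [comap_map_eq, QuotientGroup.ker_mk', sup_eq_left.2 hMlt.le]
    have hKlt : K.comap f < φ.ker := lt_of_le_of_ne hKle' fun e => hKN (by
      rw [← e, map_comap_eq_self_of_surjective (QuotientGroup.mk'_surjective M)])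
    have h1 : M < K.comap f := lt_of_le_of_ne hMK fun e => hK0 (by
      rw [← map_comap_eq_self_of_surjective (f := f) (QuotientGroup.mk'_surjective M) K, ← e,
        Subgroup.map_eq_bot_iff, QuotientGroup.ker_mk'])
    have h2 := hmax ⟨K.comap f, hK.comap f, hKlt⟩
    exact h1.ne (eq_of_le_of_card_ge h1.le h2)
  haveI : Group.IsSolvable (φ.ker.map f) :=
    Group.isSolvable_of_surjective (f.subgroupMap_surjective φ.ker)
  obtain ⟨hcomm, p, hp, -, hpg⟩ := Core.minimal_solvable_elementary hmin inferInstance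
  haveI := Fact.mk hp
  exact double_min (h.quotient M) ψ hψ (hker.symm ▸ hcomm) (hker.symm ▸ hpg) (hker.symm ▸ hne)
    (hker.symm ▸ hodd.of_dvd_nat (Subgroup.card_map_dvd φ.ker f))

end Cfsg.Lib.Spec.JOneSq
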