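import Cfsg.Agent.Lib.Spec.JOneSquare.Isolated

/-!
# The generic configuration: a big group of order `r ^ 3` acting faithfully on a `p`-group
-/

set_option autoImplicit false
set_option linter.style.haveILetI false
set_option linter.unusedSectionVars false

namespace Cfsg.Lib.Spec.JOneSq

open Subgroup

universe u v

variable {G : Type u} [Group G] [Finite G]

theorem dvd_card_of_pgroup {q : ℕ} [Fact q.Prime] {V : Subgroup G} (hV : IsPGroup q V) (hne : V ≠ ⊥) :
    q ∣ Nat.card V := by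
  obtain ⟨k, hk⟩ := IsPGroup.iff_card.1 hV
  rcases k with _ | k
  · exact absurd (card_eq_one.1 (by simpa using hk)) hne
  · exact hk ▸ dvd_pow_self q k.succ_ne_zero

/-- An involution without fixed points inverts. -/
theorem inverts_of_fpf {V : Subgroup G} {s : G} (hs : s * s = 1) (hsV : s ∈ normalizer (V : Set G))
    (hfpf : ∀ v ∈ V, Commute s v → v = 1) {v : G} (hv : v ∈ V) : s * v * s⁻¹ = v⁻¹ := by
  let φ : MulAut V := V.normalizerMonoidHom ⟨s, hsV⟩
  have hφ : ∀ w : V, ((φ w : V) : G) = s * w * s⁻¹ := fun w => rfl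
  have h1 : MonoidHom.FixedPointFree φ := fun w hw =>
    Subtype.ext (hfpf w w.2 (mul_inv_eq_iff_eq_mul.1 ((hφ w).symm.trans (congrArg Subtype.val hw))))
  have h2 : Function.Involutive φ := fun w => by
    apply Subtype.ext
    have hs' : s⁻¹ = s := inv_eq_of_mul_eq_one_right hs
    rw [hφ, hφ, hs']
    calc s * (s * (w : G) * s) * s = (s * s) * w * (s * s) := by group
      _ = w := by rw [hs, one_mul, mul_one]
  have h3 := congrFun (MonoidHom.FixedPointFree.coe_eq_inv_of_involutive h1 h2) ⟨v, hv⟩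
  exact congrArg Subtype.val h3

/-- Orders prime to the kernel are preserved. -/
theorem orderOf_map_coprime {Q : Type v} [Group Q] (f : G →* Q) {g : G}
    (hco : (orderOf g).Coprime (Nat.card f.ker)) : orderOf (f g) = orderOf g := by
  refine Nat.dvd_antisymm (orderOf_map_dvd f g) (orderOf_dvd_iff_pow_eq_one.2 ?_)
  have hk : g ^ orderOf (f g) ∈ f.ker := by rw [MonoidHom.mem_ker, map_pow, pow_orderOf_eq_one]
  have h1 : orderOf (g ^ orderOf (f g)) ∣ orderOf g := orderOf_pow_dvd _
  have h2 : orderOf (g ^ orderOf (f g)) ∣ Nat.card f.ker := Subgroup.orderOf_dvd_natCard _ hk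
  exact orderOf_eq_one_iff.1 (Nat.eq_one_of_dvd_coprimes hco h1 h2)

theorem centralizer_zpowers (x : G) : centralizer (zpowers x : Set G) = centralizer ({x} : Set G) := by
  rw [zpowers_eq_closure, centralizer_closure]

/-- Properties of a quotient with the largest normal `r'`-subgroup removed. -/
theorem generic_quotient (h : Le G) {r l : ℕ} [Fact r.Prime] [Fact l.Prime] (hr : Big r) (hl : Big l)
    (hrl : r ≠ l) (hsr : Cfsg.IsPSolvable r G) (hO : Cfsg.pPrimeCore r G = ⊥) (hl1 : l ∣ Nat.card G)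
    (h4 : 4 ∣ Nat.card G) (hr1 : r ∣ Nat.card G)
    (hinv : ∀ x : G, orderOf x = 2 → Nat.card (Cfsg.pCore r G ⊓ centralizer ({x} : Set G) : Subgroup G) ≤ r)
    (hend : ¬ l ∣ r ^ 3 - 1 ∨ Group.IsSolvable G) : False := by
  classical
  have hrp : r.Prime := Fact.out
  have hlp : l.Prime := Fact.out
  haveI : Fact (Nat.Prime 2) := ⟨Nat.prime_two⟩
  haveI : Nontrivial G := Finite.one_lt_card_iff_nontrivial.1
    (lt_of_lt_of_le hrp.one_lt (Nat.le_of_dvd Nat.card_pos hr1))
  set R := Cfsg.pCore r G with hR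
  haveI : R.Normal := by rw [hR]; infer_instance
  have hRp : IsPGroup r R := Core.pCore_isPGroup r G
  haveI : Group.IsNilpotent R := hRp.isNilpotent
  have hRne : R ≠ ⊥ := Core.pCore_ne_bot_of_isPSolvable hsr hO
  have hCR : centralizer (R : Set G) ≤ R := Core.centralizer_pCore_le_of_isPSolvable hsr hO
  have hRodd : Odd (Nat.card R) := by
    obtain ⟨k, hk⟩ := IsPGroup.iff_card.1 hRp
    rw [hk]
    exact (hrp.odd_of_ne_two hr.ne_two).pow
  have hN : ∀ g : G, g ∈ normalizer (R : Set G) := fun g => le_normalizer_of_normal (K := ⊤) (mem_top g)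
  -- four-groups
  have hfour : ∀ x : G, orderOf x = 2 → ∃ u : G, orderOf u = 2 ∧ Commute x u ∧ u ≠ x := by
    intro x hx
    have hX : IsPGroup 2 (zpowers x) := IsPGroup.of_card (n := 1) (by rw [Nat.card_zpowers, hx, pow_one])
    obtain ⟨S, hS⟩ := hX.exists_le_sylow
    have hS4 : 4 ∣ Nat.card (S : Subgroup G) := S.pow_dvd_card_of_pow_dvd_card (n := 2) h4
    obtain ⟨u, hu, hu'⟩ : ∃ u ∈ (S : Subgroup G), u ∉ zpowers x := by
      by_contra hcon
      push Not at hcon
      have := Subgroup.card_le_of_le (show (S : Subgroup G) ≤ zpowers x from hcon)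
      rw [Nat.card_zpowers, hx] at this
      have := Nat.le_of_dvd Nat.card_pos hS4
      omega
    refine ⟨u, h.orderOf_of_mem S.2 hu (fun e => hu' (e ▸ one_mem _)), ?_, fun e => hu' (e ▸ mem_zpowers x)⟩
    haveI := h.sylow_two_comm S
    exact congrArg Subtype.val (mul_comm' (⟨x, hS (mem_zpowers x)⟩ : (S : Subgroup G)) ⟨u, hu⟩)
  obtain ⟨x₀, hx₀⟩ := exists_prime_orderOf_dvd_card' 2 ((dvd_mul_right 2 2).trans h4)
  obtain ⟨u₀, hu₀, hxu₀, hne₀⟩ := hfour x₀ hx₀
  have sq : ∀ x : G, orderOf x = 2 → x * x = 1 := fun x hx => by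
    rw [← pow_two, ← hx, pow_orderOf_eq_one]
  have prod_two : ∀ x u : G, orderOf x = 2 → orderOf u = 2 → Commute x u → u ≠ x → orderOf (x * u) = 2 := by
    intro x u hx hu hc hne
    refine orderOf_eq_prime ?_ fun e => hne ?_
    · rw [hc.mul_pow, pow_two, pow_two, sq x hx, sq u hu, one_mul]
    · rw [eq_inv_of_mul_eq_one_left e, inv_eq_of_mul_eq_one_right (sq u hu)]
  have hcube : Nat.card R ≤ r ^ 3 := card_le_cube hRodd (sq x₀ hx₀) (sq u₀ hu₀) hxu₀ (hN _) (hN _)
    (fun y hy => by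
      rcases hy with rfl | rfl | rfl
      exacts [hinv _ hx₀, hinv _ hu₀, hinv _ (prod_two x₀ u₀ hx₀ hu₀ hxu₀ hne₀)])
  -- elements of order `l`
  have harith := h.arith hl hrp hr1 hrl.symm
  have hmove : ∀ y : G, orderOf y = l → ¬ ∀ v ∈ R, Commute y v := by
    intro y hy hall
    have hyR : y ∈ R := hCR (mem_centralizer_iff.2 fun v hv => (hall v hv).eq.symm)
    have := h.orderOf_of_mem hRp hyR (fun e => hlp.one_lt.ne (by rw [← hy, e, orderOf_one]))
    exact hrl (this.symm.trans hy)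
  have hly : ∀ y : G, orderOf y = l →
      Nat.card R = r ^ 3 ∧ Nat.card (R ⊓ centralizer ({y} : Set G) : Subgroup G) = 1 := by
    intro y hy
    have h3 := pow_three_le (q := r) (r := l) hrl harith.1 harith.2 hRp (hy ▸ pow_orderOf_eq_one y) (hN y)
      (hmove y hy)
    have hpos : 1 ≤ Nat.card (R ⊓ centralizer ({y} : Set G) : Subgroup G) := Nat.card_pos
    have hr3 : 0 < r ^ 3 := pow_pos hrp.pos 3
    constructor <;> nlinarith
  obtain ⟨y₀, hy₀⟩ := exists_prime_orderOf_dvd_card' l hl1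
  rcases hend with hend | hsol
  · have h4' := pow_ord_le (q := r) (r := l) hrl 4 (fun i hi hi4 => by
      obtain rfl | rfl | rfl : i = 1 ∨ i = 2 ∨ i = 3 := by omega
      · rw [pow_one]; exact harith.1
      · exact harith.2
      · exact hend) hRp (hy₀ ▸ pow_orderOf_eq_one y₀) (hN y₀) (hmove y₀ hy₀)
    have h5 : r ^ 3 < r ^ 4 := Nat.pow_lt_pow_right hrp.one_lt (by norm_num)
    have hpos : 1 ≤ Nat.card (R ⊓ centralizer ({y₀} : Set G) : Subgroup G) := Nat.card_pos
    nlinarith
  have hcard := (hly y₀ hy₀).1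
  -- every involution has exactly `r` fixed points
  have hexact : ∀ x : G, orderOf x = 2 → Nat.card (R ⊓ centralizer ({x} : Set G) : Subgroup G) = r := by
    intro x hx
    obtain ⟨u, hu, hxu, hne⟩ := hfour x hx
    have h1 := card_le_prod hRodd (sq x hx) (sq u hu) hxu (hN _) (hN _)
    rw [hcard] at h1
    have h2 := hinv u hu
    have h3 := hinv _ (prod_two x u hx hu hxu hne)
    obtain ⟨k, hk⟩ := IsPGroup.iff_card.1 (hRp.to_le (inf_le_left : R ⊓ centralizer ({x} : Set G) ≤ R))
    refine le_antisymm (hinv x hx) ?_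
    rw [hk]
    rcases k with _ | k
    · rw [hk, pow_zero, one_mul] at h1
      have h4' : r ^ 3 ≤ r * r := h1.trans (Nat.mul_le_mul h3 h2)
      rw [← pow_two] at h4'
      exact absurd h4' (not_le.2 (Nat.pow_lt_pow_right hrp.one_lt (by norm_num)))
    · exact Nat.le_self_pow k.succ_ne_zero r
  -- no involution commutes with an element of order `l`
  have nocomm : ∀ x y : G, orderOf x = 2 → orderOf y = l → Commute x y → False := by
    intro x y hx hy hc
    set L := R ⊓ centralizer ({x} : Set G) with hL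
    have hyL : y ∈ normalizer (L : Set G) :=
      inf_normalizer_le_normalizer_inf ⟨hN y, le_normalizer (mem_centralizer_singleton_iff.2 hc.eq.symm)⟩
    by_cases hall : ∀ v ∈ L, Commute y v
    · have hle : L ≤ R ⊓ centralizer ({y} : Set G) := fun v hv =>
        ⟨hv.1, mem_centralizer_singleton_iff.2 (hall v hv).eq.symm⟩
      have := Subgroup.card_le_of_le hle
      rw [hexact x hx, (hly y hy).2] at this
      exact absurd this (not_le.2 hrp.one_lt)
    · have h3 := pow_three_le (q := r) (r := l) hrl harith.1 harith.2 (hRp.to_le inf_le_left)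
        (hy ▸ pow_orderOf_eq_one y) hyL hall
      rw [hexact x hx] at h3
      have hpos : 1 ≤ Nat.card (L ⊓ centralizer ({y} : Set G) : Subgroup G) := Nat.card_pos
      have h5 : r < r ^ 3 := lt_self_pow₀ hrp.one_lt (by norm_num)
      nlinarith
  -- a Hall subgroup for two and `l`
  obtain ⟨H, hH⟩ := Solv.exists_isPiHall ({2, l} : Set ℕ) G
  have hH4 : 4 ∣ Nat.card H := by
    have h2i : ¬ 2 ∣ H.index := hH.2 2 Nat.prime_two (by simp)
    rw [← H.card_mul_index] at h4
    exact (Nat.Coprime.pow_left 2 ((Nat.prime_two.coprime_iff_not_dvd).2 h2i)).dvd_of_dvd_mul_right h4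
  have hHl : l ∣ Nat.card H := Solv.dvd_card_piHall hH hlp (by simp) hl1
  by_cases hZ : Cfsg.pCore l H = ⊥
  swap
  · set Z := (Cfsg.pCore l H).map H.subtype with hZdef
    have hZp : IsPGroup l Z := (Core.pCore_isPGroup l H).map _
    have hZne : Z ≠ ⊥ := by rwa [hZdef, Ne, map_eq_bot_iff_of_injective _ H.subtype_injective]
    have hcop : ∀ A : Subgroup G, IsPGroup l A → (Nat.card A).Coprime (Nat.card R) := fun A hA =>
      IsPGroup.coprime_card_of_ne l r hrl.symm A R hA hRp
    have hZl : ¬ l ^ 2 ∣ Nat.card Z := fun h2 => by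
      obtain ⟨a, ha, ha1, v, hv, hv1, hc⟩ := exists_fixed_of_pair h h2 hZp (fun g _ => hN g) (hcop Z hZp) hRne
      have hao := h.orderOf_of_mem hZp ha ha1
      have := Subgroup.card_le_of_le (show zpowers v ≤ R ⊓ centralizer ({a} : Set G) from
        zpowers_le.2 ⟨hv, mem_centralizer_singleton_iff.2 hc.eq.symm⟩)
      rw [(hly a hao).2, Nat.card_zpowers, h.orderOf_of_mem hRp hv hv1] at this
      exact absurd this (not_le.2 hrp.one_lt)
    obtain ⟨S⟩ : Nonempty (Sylow 2 H) := inferInstance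
    set S' := (S : Subgroup H).map H.subtype
    have hS' : 2 ^ 2 ∣ Nat.card S' := by
      rw [card_map_of_injective H.subtype_injective]
      exact S.pow_dvd_card_of_pow_dvd_card (n := 2) hH4
    have hSZ : S' ≤ normalizer (Z : Set G) := (map_subtype_le _).trans fun g hg => by
      refine mem_normalizer_iff_map_conj_eq.2 ?_
      refine eq_of_le_of_card_ge ?_ (Coprime.card_map_conj _ _).ge
      rintro _ ⟨_, ⟨w, hw, rfl⟩, rfl⟩
      exact ⟨⟨g, hg⟩ * w * ⟨g, hg⟩⁻¹, (inferInstance : (Cfsg.pCore l H).Normal).conj_mem w hw _, rfl⟩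
    obtain ⟨x, hx, hx1, y, hy, hy1, hc⟩ := exists_fixed_of_pair h hS' (S.2.map _) hSZ
      (IsPGroup.coprime_card_of_ne 2 l hl.ne_two.symm S' Z (S.2.map _) hZp) hZne
    exact nocomm x y (h.orderOf_of_mem (S.2.map _) hx hx1) (h.orderOf_of_mem hZp hy hy1) hc
  -- the two-core
  have hO2 : Cfsg.pPrimeCore 2 H = ⊥ := by
    have hco := Core.pPrimeCore_not_dvd 2 H
    have hlg : IsPGroup l (Cfsg.pPrimeCore 2 H) := by
      refine IsPGroup.of_card (Nat.eq_prime_pow_of_unique_prime_dvd (p := l) Nat.card_pos.ne' ?_)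
      intro q hq hqd
      have := hH.1 q hq (hqd.trans (card_subgroup_dvd_card _))
      rcases (by simpa using this : q = 2 ∨ q = l) with rfl | rfl
      · exact absurd hqd hco
      · rfl
    exact eq_bot_iff.2 ((Core.le_pCore' inferInstance hlg).trans hZ.le)
  haveI : Nontrivial H := Finite.one_lt_card_iff_nontrivial.1
    (lt_of_lt_of_le hlp.one_lt (Nat.le_of_dvd Nat.card_pos hHl))
  have hsH : Cfsg.IsPSolvable 2 H := Core.isPSolvable_of_isSolvable
  have hCB := Core.centralizer_pCore_le_of_isPSolvable hsH hO2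
  obtain ⟨⟨y, hyH⟩, hy⟩ := exists_prime_orderOf_dvd_card' l hHl
  have hBne : ¬ ∀ b ∈ Cfsg.pCore 2 H, Commute (⟨y, hyH⟩ : H) b := fun hall => by
    have hm := hCB (mem_centralizer_iff.2 fun b hb => (hall b hb).eq.symm)
    have := (h.subgroup H).orderOf_of_mem (Core.pCore_isPGroup 2 H) hm
      (fun e => hlp.one_lt.ne (by rw [← hy, e, orderOf_one]))
    exact hl.ne_two (hy.symm.trans this)
  have h8 := pow_three_le (q := 2) (r := l) hl.ne_two.symm (by rcases hl with rfl | rfl | rfl <;> decide)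
    (by rcases hl with rfl | rfl | rfl <;> decide) (Core.pCore_isPGroup 2 H) (hy ▸ pow_orderOf_eq_one _)
    (le_normalizer_of_normal (K := ⊤) (mem_top _)) hBne
  set B := (Cfsg.pCore 2 H).map H.subtype
  have hB8 : 8 ≤ Nat.card B := by
    rw [card_map_of_injective H.subtype_injective]
    exact le_trans (Nat.le_mul_of_pos_right _ Nat.card_pos) h8
  have hBp : IsPGroup 2 B := (Core.pCore_isPGroup 2 H).map _
  haveI := h.two_comm hBp
  obtain ⟨⟨x, hxB⟩, hx'⟩ := exists_prime_orderOf_dvd_card' 2 (dvd_card_of_pgroup hBp fun e => by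
    rw [e, card_bot] at hB8; omega)
  rw [Subgroup.orderOf_mk] at hx'
  set L := R ⊓ centralizer ({x} : Set G) with hLdef
  have hLr : Nat.card L = r := hexact x hx'
  have hBL : B ≤ normalizer (L : Set G) := fun b hb =>
    inf_normalizer_le_normalizer_inf ⟨hN b, le_normalizer (mem_centralizer_singleton_iff.2
      (congrArg Subtype.val (mul_comm' (⟨b, hb⟩ : B) ⟨x, hxB⟩)))⟩
  set K := B ⊓ centralizer (L : Set G) with hKdef
  have hinvL : ∀ b ∈ B, b ∉ K → ∀ v ∈ L, b * v * b⁻¹ = v⁻¹ := by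
    intro b hb hbK v hv
    have hbb : b * b = 1 := by
      rw [← pow_two]; exact h.pow_of_mem hBp hb
    refine inverts_of_fpf hbb (hBL hb) (fun w hw hc => ?_) hv
    by_contra hw1
    have hgen : zpowers w = L := eq_of_le_of_card_ge (zpowers_le.2 hw) (by
      rw [hLr, Nat.card_zpowers, h.orderOf_of_mem hRp hw.1 hw1])
    refine hbK ⟨hb, mem_centralizer_iff.2 fun u hu => ?_⟩
    rw [SetLike.mem_coe, ← hgen] at hu
    obtain ⟨i, rfl⟩ := mem_zpowers_iff.1 hu
    exact (hc.zpow_right i).eq.symm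
  have hKcard : Nat.card B ≤ 2 * Nat.card K := by
    by_cases hall : ∀ b ∈ B, b ∈ K
    · exact le_trans (Subgroup.card_le_of_le hall) (Nat.le_mul_of_pos_left _ (by norm_num))
    push Not at hall
    obtain ⟨b₁, hb₁, hb₁K⟩ := hall
    have hmul : ∀ b ∈ B, b ∉ K → b₁ * b ∈ K := fun b hb hbK => ⟨B.mul_mem hb₁ hb, mem_centralizer_iff.2
      fun v hv => (show b₁ * b * v = v * (b₁ * b) by
        have e1 := hinvL b hb hbK v hv
        have e2 := hinvL b₁ hb₁ hb₁K v⁻¹ (L.inv_mem hv)
        rw [inv_inv] at e2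
        calc b₁ * b * v = b₁ * (b * v * b⁻¹) * b := by group
          _ = (b₁ * v⁻¹ * b₁⁻¹) * b₁ * b := by rw [e1]; group
          _ = v * (b₁ * b) := by rw [e2, mul_assoc]).symm⟩
    let F : B → K ⊕ K := fun b =>
      if hb : (b : G) ∈ K then Sum.inl ⟨b, hb⟩ else Sum.inr ⟨_, hmul b b.2 hb⟩
    have hF : Function.Injective F := by
      intro a b hab
      simp only [F] at hab
      split_ifs at hab with ha hb hb <;> simp at hab
      · exact hab
      · exact hab
    have := Nat.card_le_card_of_injective F hF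
    rw [Nat.card_sum] at this
    omega
  have hK4 : 2 ^ 2 ∣ Nat.card K := by
    obtain ⟨k, hk⟩ := IsPGroup.iff_card.1 (hBp.to_le (inf_le_left : K ≤ B))
    rw [hk]
    refine pow_dvd_pow 2 ?_
    by_contra hlt
    have : (2 : ℕ) ^ k ≤ 2 ^ 1 := Nat.pow_le_pow_right (by norm_num) (by omega)
    have e : Nat.card K = 2 ^ k := hk
    rw [e] at hKcard
    omega
  have hKp : IsPGroup 2 K := hBp.to_le inf_le_left
  have hle : R ≤ L := by
    haveI : IsMulCommutative K := h.two_comm hKp
    refine (Coprime.le_iSup_centralizer_of_not_isCyclic (not_isCyclic_of_sq h hK4 hKp)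
      (fun g _ => hN g) (IsPGroup.coprime_card_of_ne 2 r hr.ne_two.symm K R hKp hRp)).trans (iSup_le ?_)
    rintro ⟨k, hk, hk1⟩
    have hko : orderOf k = 2 := h.orderOf_of_mem hKp hk hk1
    refine le_of_eq (eq_of_le_of_card_ge ?_ ?_).symm
    · exact fun v hv => ⟨hv.1, mem_centralizer_singleton_iff.2 (mem_centralizer_iff.1 hk.2 v hv)⟩
    · exact le_of_eq ((hexact k hko).trans hLr.symm)
  have := Subgroup.card_le_of_le hle
  rw [hcard, hLr] at this
  exact absurd this (not_le.2 (lt_self_pow₀ hrp.one_lt (by norm_num)))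

/-- The generic configuration is impossible. -/
theorem generic (h : Le G) {p r l : ℕ} [Fact p.Prime] [Fact r.Prime] [Fact l.Prime] (hp : Big p) (hr : Big r)
    (hl : Big l) (hpr : p ≠ r) (hpl : p ≠ l) (hrl : r ≠ l) (hsp : Cfsg.IsPSolvable p G)
    (hsr : Cfsg.IsPSolvable r G) (hl2 : l ^ 2 ∣ Nat.card G) (h4 : 4 ∣ Nat.card G) {A P0 : Subgroup G}
    (hA : Nat.card A = r ^ 3) (hP0 : IsPGroup p P0) (hAP : A ≤ normalizer (P0 : Set G))
    (hne : ¬ A ≤ centralizer (P0 : Set G))
    (hmin : ∀ W : Subgroup G, Core.IsMinNormal W → ∃ q : ℕ, q.Prime ∧ q ≠ r ∧ IsPGroup q W)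
    (hex : ∃ g : G, r * l ∣ orderOf g) (hend : ¬ l ∣ r ^ 3 - 1 ∨ Group.IsSolvable G) : False := by
  classical
  have hpp : p.Prime := Fact.out
  have hrp : r.Prime := Fact.out
  have hlp : l.Prime := Fact.out
  have hAp : IsPGroup r A := IsPGroup.of_card hA
  have hr2A : r ^ 2 ∣ Nat.card A := hA ▸ pow_dvd_pow r (by norm_num)
  have hrG : r ∣ Nat.card G := ((dvd_pow_self r (by norm_num : 3 ≠ 0)).trans hA.symm.dvd).trans
    (card_subgroup_dvd_card A)
  have hP0ne : P0 ≠ ⊥ := fun e => hne (fun a _ => by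
    rw [e, mem_centralizer_iff]
    intro u hu
    rw [SetLike.mem_coe, mem_bot] at hu
    rw [hu, one_mul, mul_one])
  have hpG : p ∣ Nat.card G := (dvd_card_of_pgroup hP0 hP0ne).trans (card_subgroup_dvd_card P0)
  have harith := h.arith hr hpp hpG hpr.symm
  -- minimal normal subgroups
  have hminp : ∀ W : Subgroup G, Core.IsMinNormal W → IsPGroup p W := by
    intro W hW
    obtain ⟨q, hq, hqr, hWq⟩ := hmin W hW
    rcases eq_or_ne q p with rfl | hqp
    · exact hWq
    haveI := Fact.mk hq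
    haveI := hW.1
    exfalso
    obtain ⟨a, ha, ha1, hdvd, v, hv, hv1, hav⟩ := exists_two_fixed h (p := q) (q := p) (r := r) hpr.symm hqr.symm
      harith.1 harith.2 hA hP0 hWq hAP le_normalizer_of_normal hne hW.2.1
    obtain ⟨b, hb, hb1, w, hw, hw1, haw, hbw⟩ := exists_triple h (j := p) (a := a) (V := W)
      (hP0.to_le inf_le_left) hdvd (fun b hb => (mem_centralizer_singleton_iff.1 hb.2).symm)
      le_normalizer_of_normal
      (IsPGroup.coprime_card_of_ne p q hqp.symm _ W (hP0.to_le inf_le_left) hWq) hv hv1 hav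
    exact h.no_three hr hp hq hpr.symm hqr.symm hqp.symm (h.orderOf_of_mem hAp ha ha1).symm.dvd
      (h.orderOf_of_mem hP0 hb.1 hb1).symm.dvd (h.orderOf_of_mem hWq hw hw1).symm.dvd
      (mem_centralizer_singleton_iff.1 hb.2).symm haw hbw
  have hOp : Cfsg.pPrimeCore p G = ⊥ := by
    by_contra hne'
    obtain ⟨M, hM, hMle⟩ := Core.exists_isMinNormal (inferInstance : (Cfsg.pPrimeCore p G).Normal) hne'
    exact Core.pPrimeCore_not_dvd p G ((dvd_card_of_pgroup (hminp M hM) hM.2.1).trans (card_dvd_of_le hMle))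
  haveI : Nontrivial G := Finite.one_lt_card_iff_nontrivial.1
    (lt_of_lt_of_le hrp.one_lt (Nat.le_of_dvd Nat.card_pos hrG))
  set P := Cfsg.pCore p G with hP
  haveI : P.Normal := by rw [hP]; infer_instance
  have hPp : IsPGroup p P := Core.pCore_isPGroup p G
  have hPne : P ≠ ⊥ := Core.pCore_ne_bot_of_isPSolvable hsp hOp
  have hCP : centralizer (P : Set G) ≤ P := Core.centralizer_pCore_le_of_isPSolvable hsp hOp
  have hNP : ∀ g : G, g ∈ normalizer (P : Set G) := fun g => le_normalizer_of_normal (K := ⊤) (mem_top g)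
  -- involutions fix points of `P`
  have hinvP : ∀ s : G, orderOf s = 2 → ∃ v ∈ P, v ≠ 1 ∧ Commute s v := by
    intro s hs
    by_contra hcon
    push Not at hcon
    have hss : s * s = 1 := by rw [← pow_two, ← hs, pow_orderOf_eq_one]
    have hinv : ∀ v ∈ P, s * v * s⁻¹ = v⁻¹ := fun v hv => inverts_of_fpf hss (hNP s)
      (fun w hw hc => by by_contra hw1; exact hcon w hw hw1 hc) hv
    set f := QuotientGroup.mk' P
    have hcentral : ∀ g : G, Commute (f g) (f s) := by
      intro g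
      have hc : s * (g * s * g⁻¹) ∈ P := hCP (mem_centralizer_iff.2 fun v hv => by
        have hv' : g⁻¹ * v * g ∈ P := (inferInstance : P.Normal).conj_mem' v hv g
        have e1 : (g * s * g⁻¹) * v * (g * s * g⁻¹)⁻¹ = v⁻¹ := by
          calc _ = g * (s * (g⁻¹ * v * g) * s⁻¹) * g⁻¹ := by group
            _ = v⁻¹ := by rw [hinv _ hv']; group
        have e2 := hinv v⁻¹ (P.inv_mem hv)
        rw [inv_inv] at e2
        show v * _ = _ * v
        calc v * (s * (g * s * g⁻¹)) = (s * v⁻¹ * s⁻¹) * (s * (g * s * g⁻¹)) := by rw [e2]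
          _ = s * v⁻¹ * (g * s * g⁻¹) := by group
          _ = s * ((g * s * g⁻¹) * v * (g * s * g⁻¹)⁻¹) * (g * s * g⁻¹) := by rw [e1]
          _ = s * (g * s * g⁻¹) * v := by group)
      have e : f (s * (g * s * g⁻¹)) = 1 := by rw [← MonoidHom.mem_ker, QuotientGroup.ker_mk']; exact hc
      have e' : f s * f s = 1 := by rw [← map_mul, hss, map_one]
      rw [map_mul, map_mul, map_mul, map_inv] at e
      have e3 : f g * f s * (f g)⁻¹ = f s := by
        rw [eq_inv_of_mul_eq_one_right e, inv_eq_of_mul_eq_one_right e']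
      exact mul_inv_eq_iff_eq_mul.1 e3
    obtain ⟨g₀, hg₀⟩ := hex
    obtain ⟨i, hi⟩ := exists_orderOf_of_dvd hg₀
    have hker : Nat.card f.ker = Nat.card P := by rw [QuotientGroup.ker_mk']
    obtain ⟨k, hk⟩ := IsPGroup.iff_card.1 hPp
    obtain ⟨y, hy, hyc⟩ := exists_centralizer_lift f (g := s) (y := g₀ ^ i)
      (by rw [hker, hs, hk]; exact ((Nat.coprime_primes Nat.prime_two hpp).2 hp.ne_two.symm).pow_right k)
      (hcentral _)
    have hfy : orderOf (f y) = r * l := by
      rw [hy, orderOf_map_coprime f (by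
        rw [hker, hi, hk]
        exact ((Nat.Coprime.mul_left ((Nat.coprime_primes hrp hpp).2 hpr.symm)
          ((Nat.coprime_primes hlp hpp).2 hpl.symm))).pow_right k), hi]
    exact h.no_three' hr hl Nat.prime_two hrl hr.ne_two hl.ne_two (hfy ▸ orderOf_map_dvd f y) hs.symm.dvd hyc
  -- the `r'`-core over `P`
  set f₁ := QuotientGroup.mk' P
  set M := (Cfsg.pPrimeCore r (G ⧸ P)).comap f₁ with hMdef
  haveI hMn : M.Normal := (inferInstance : (Cfsg.pPrimeCore r (G ⧸ P)).Normal).comap f₁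
  have hPM : P ≤ M := by
    intro x hx
    rw [hMdef, mem_comap, show f₁ x = 1 from (QuotientGroup.eq_one_iff x).2 hx]
    exact one_mem _
  have hMr : ¬ r ∣ Nat.card M := by
    rw [hMdef, Core.card_comap_eq f₁ (QuotientGroup.mk'_surjective P), QuotientGroup.ker_mk']
    intro hd
    obtain ⟨k, hk⟩ := IsPGroup.iff_card.1 hPp
    rcases hrp.dvd_mul.1 hd with hd | hd
    all_goals first
      | exact Core.pPrimeCore_not_dvd r (G ⧸ P) hd
      | exact hpr ((Nat.prime_dvd_prime_iff_eq hrp hpp).1 (hrp.dvd_of_dvd_pow (hk ▸ hd))).symm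
  have hAM : (Nat.card A).Coprime (Nat.card M) := by
    rw [hA]; exact ((hrp.coprime_iff_not_dvd).2 hMr).pow_left 3
  have hAsol : Group.IsSolvable A := by
    haveI := hAp.isNilpotent
    infer_instance
  have hM1 : ∀ q : ℕ, q.Prime → q ≠ p → q ∣ Nat.card M →
      ¬ q ^ 2 ∣ Nat.card M ∧ ∃ c : G, orderOf c = q ∧ ∀ a ∈ A, Commute a c := by
    intro q hq hqp hqM
    haveI := Fact.mk hq
    have hqr : q ≠ r := fun e => hMr (e ▸ hqM)
    obtain ⟨Q₀, hQ₀⟩ := Coprime.exists_invariant_sylow (A := A) (G := M) le_normalizer_of_normal hAM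
      (Or.inl hAsol) q
    set Q := (Q₀ : Subgroup M).map M.subtype with hQdef
    have hQp : IsPGroup q Q := Q₀.2.map _
    have hQne : q ∣ Nat.card Q := by
      rw [card_map_of_injective M.subtype_injective]
      exact Q₀.dvd_card_of_dvd_card hqM
    have harq := h.arith hr hq (hqM.trans (card_subgroup_dvd_card M)) hqr.symm
    have hcopQ : (Nat.card Q).Coprime (Nat.card P) := IsPGroup.coprime_card_of_ne q p hqp Q P hQp hPp
    have hAQ : A ≤ centralizer (Q : Set G) := by
      by_contra hne'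
      obtain ⟨a, ha, ha1, hdvd, v, hv, hv1, hav⟩ := exists_two_fixed h (p := p) (q := q) (r := r) hqr.symm hpr.symm
        harq.1 harq.2 hA hQp hPp hQ₀ (fun g _ => hNP g) hne' hPne
      obtain ⟨b, hb, hb1, w, hw, hw1, haw, hbw⟩ := exists_triple h (j := q) (a := a) (V := P)
        (hQp.to_le inf_le_left) hdvd (fun b hb => (mem_centralizer_singleton_iff.1 hb.2).symm)
        (fun g _ => hNP g) (hcopQ.coprime_dvd_left (card_dvd_of_le inf_le_left)) hv hv1 hav
      exact h.no_three hr hp hq hpr.symm hqr.symm hqp.symm (h.orderOf_of_mem hAp ha ha1).symm.dvd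
        (h.orderOf_of_mem hPp hw hw1).symm.dvd (h.orderOf_of_mem hQp hb.1 hb1).symm.dvd
        haw (mem_centralizer_singleton_iff.1 hb.2).symm hbw.symm
    have hcomm : ∀ a ∈ A, ∀ c ∈ Q, Commute a c := fun a ha c hc =>
      (mem_centralizer_iff.1 (hAQ ha) c hc).symm
    refine ⟨fun hq2 => ?_, ?_⟩
    · have hQ2 : q ^ 2 ∣ Nat.card Q := by
        rw [card_map_of_injective M.subtype_injective]
        exact Q₀.pow_dvd_card_of_pow_dvd_card hq2
      obtain ⟨a, ha, ha1, v, hv, hv1, hav⟩ := exists_fixed_of_pair h hr2A hAp (fun g _ => hNP g)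
        (IsPGroup.coprime_card_of_ne r p hpr.symm A P hAp hPp) hPne
      obtain ⟨b, hb, hb1, w, hw, hw1, haw, hbw⟩ := exists_triple h (j := q) (a := a) (V := P) hQp hQ2
        (fun b hb => hcomm a ha b hb) (fun g _ => hNP g) hcopQ hv hv1 hav
      exact h.no_three hr hp hq hpr.symm hqr.symm hqp.symm (h.orderOf_of_mem hAp ha ha1).symm.dvd
        (h.orderOf_of_mem hPp hw hw1).symm.dvd (h.orderOf_of_mem hQp hb hb1).symm.dvd
        haw (hcomm a ha b hb) hbw.symm
    · obtain ⟨⟨c, hc⟩, hco⟩ := exists_prime_orderOf_dvd_card' q hQne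
      rw [Subgroup.orderOf_mk] at hco
      exact ⟨c, hco, fun a ha => hcomm a ha c hc⟩
  haveI : Fact (Nat.Prime 2) := ⟨Nat.prime_two⟩
  have hM2 : ¬ 2 ∣ Nat.card M := fun hd => by
    obtain ⟨-, c, hc, hcA⟩ := hM1 2 Nat.prime_two hp.ne_two.symm hd
    obtain ⟨v, hv, hv1, hcv⟩ := hinvP c hc
    obtain ⟨b, hb, hb1, w, hw, hw1, hcw, hbw⟩ := exists_triple h (j := r) (a := c) (V := P) hAp hr2A
      (fun b hb => (hcA b hb).symm) (fun g _ => hNP g) (IsPGroup.coprime_card_of_ne r p hpr.symm A P hAp hPp)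
      hv hv1 hcv
    exact h.no_three hr hp Nat.prime_two hpr.symm hr.ne_two hp.ne_two (h.orderOf_of_mem hAp hb hb1).symm.dvd
      (h.orderOf_of_mem hPp hw hw1).symm.dvd hc.symm.dvd hbw (hcA b hb) hcw.symm
  -- the quotient by `M`
  set f := QuotientGroup.mk' M
  have hOX : Cfsg.pPrimeCore r (G ⧸ M) = ⊥ := by
    set K := (Cfsg.pPrimeCore r (G ⧸ M)).comap f
    haveI : K.Normal := (inferInstance : (Cfsg.pPrimeCore r (G ⧸ M)).Normal).comap f
    have hKr : ¬ r ∣ Nat.card K := by
      rw [Core.card_comap_eq f (QuotientGroup.mk'_surjective M), QuotientGroup.ker_mk']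
      intro hd
      rcases hrp.dvd_mul.1 hd with hd | hd
      all_goals first
        | exact Core.pPrimeCore_not_dvd r (G ⧸ M) hd
        | exact hMr hd
    have hle : K ≤ M := by
      intro x hx
      rw [hMdef, mem_comap]
      exact Core.le_pPrimeCore' ((inferInstance : K.Normal).map f₁ (QuotientGroup.mk'_surjective P))
        (Core.coprime_iff_not_dvd'.2 fun hd => hKr (hd.trans (Subgroup.card_map_dvd K f₁))) (mem_map_of_mem _ hx)
    refine eq_bot_iff.2 ?_
    calc Cfsg.pPrimeCore r (G ⧸ M) = K.map f :=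
          (map_comap_eq_self_of_surjective (QuotientGroup.mk'_surjective M) _).symm
      _ ≤ M.map f := map_mono hle
      _ = ⊥ := by rw [Subgroup.map_eq_bot_iff, QuotientGroup.ker_mk']
  have hcardG : Nat.card G = Nat.card (G ⧸ M) * Nat.card M := card_eq_card_quotient_mul_card_subgroup M
  have hX4 : 4 ∣ Nat.card (G ⧸ M) := by
    rw [hcardG] at h4
    exact (Nat.Coprime.pow_left 2 ((Nat.prime_two.coprime_iff_not_dvd).2 hM2)).dvd_of_dvd_mul_right h4
  have hXl : l ∣ Nat.card (G ⧸ M) := by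
    by_contra hnd
    rw [hcardG] at hl2
    have hd : l ^ 2 ∣ Nat.card M :=
      (Nat.Coprime.pow_left 2 ((hlp.coprime_iff_not_dvd).2 hnd)).dvd_of_dvd_mul_left hl2
    exact (hM1 l hlp hpl.symm ((dvd_pow_self l (by norm_num)).trans hd)).1 hd
  have hXr : r ∣ Nat.card (G ⧸ M) := by
    rw [hcardG] at hrG
    exact (hrp.dvd_mul.1 hrG).resolve_right hMr
  refine generic_quotient (h.quotient M) hr hl hrl (Core.isPSolvable_quotient hsr M) hOX hXl hX4 hXr
    (fun x hx => ?_) (hend.imp id fun hs => by haveI := hs; infer_instance)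
  -- lifting an involution
  obtain ⟨s, hfs, hs⟩ := exists_lift_orderOf f (QuotientGroup.mk'_surjective M) (x := x)
    (by rw [QuotientGroup.ker_mk', hx]; exact (Nat.prime_two.coprime_iff_not_dvd).2 hM2)
  rw [hx] at hs
  set Rb := Cfsg.pCore r (G ⧸ M)
  set Y := Rb.comap f with hYdef
  haveI : Y.Normal := (inferInstance : Rb.Normal).comap f
  have hYcard : Nat.card Y = Nat.card Rb * Nat.card M := by
    rw [Core.card_comap_eq f (QuotientGroup.mk'_surjective M), QuotientGroup.ker_mk']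
    try ring
  obtain ⟨m, hm⟩ := IsPGroup.iff_card.1 (Core.pCore_isPGroup r (G ⧸ M))
  have hYodd : (Nat.card (zpowers s)).Coprime (Nat.card Y) := by
    rw [Nat.card_zpowers, hs, hYcard, hm]
    exact Nat.Coprime.mul_right (((Nat.coprime_primes Nat.prime_two hrp).2 hr.ne_two.symm).pow_right m)
      ((Nat.prime_two.coprime_iff_not_dvd).2 hM2)
  have hssol : Group.IsSolvable (zpowers s) := inferInstance
  obtain ⟨R₀, hR₀⟩ := Coprime.exists_invariant_sylow (A := zpowers s) (G := Y) le_normalizer_of_normal hYodd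
    (Or.inl hssol) r
  set R₁ := (R₀ : Subgroup Y).map Y.subtype with hR₁
  have hR₁p : IsPGroup r R₁ := R₀.2.map _
  have hR₁card : Nat.card R₁ = Nat.card Rb := by
    rw [card_map_of_injective Y.subtype_injective, R₀.card_eq_multiplicity, hYcard, hm,
      Nat.factorization_mul (pow_ne_zero _ hrp.ne_zero) Nat.card_pos.ne', Finsupp.add_apply,
      hrp.factorization_pow, Finsupp.single_eq_same, Nat.factorization_eq_zero_of_not_dvd hMr, add_zero]
  have hinj : R₁ ⊓ f.ker = ⊥ := by
    rw [QuotientGroup.ker_mk']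
    exact Subgroup.inf_eq_bot_of_coprime (by rw [hR₁card, hm]; exact ((hrp.coprime_iff_not_dvd).2 hMr).pow_left m)
  have hinj' : ∀ T ≤ R₁, Nat.card (T.map f) = Nat.card T := fun T hT => by
    refine (Nat.card_congr (Equiv.ofBijective (f.subgroupMap T) ⟨?_, f.subgroupMap_surjective T⟩)).symm
    rw [injective_iff_map_eq_one]
    intro t ht
    have : (t : G) ∈ R₁ ⊓ f.ker := ⟨hT t.2, congrArg Subtype.val ht⟩
    rw [hinj, mem_bot] at this
    exact Subtype.ext this
  have hmapR : R₁.map f = Rb := eq_of_le_of_card_ge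
    (by rintro _ ⟨g, hg, rfl⟩; exact mem_comap.1 ((map_subtype_le _ : R₁ ≤ Y) hg))
    (by rw [hinj' R₁ le_rfl, hR₁card])
  have hmapC : (R₁ ⊓ centralizer ({s} : Set G)).map f = Rb ⊓ centralizer ({x} : Set (G ⧸ M)) := by
    have e := Coprime.map_inf_centralizer_eq (A := zpowers s) (G := R₁) f hR₀
      (hYodd.coprime_dvd_right (card_dvd_of_le (map_subtype_le _))) (Or.inl hssol)
    rw [MonoidHom.map_zpowers, hfs, centralizer_zpowers, centralizer_zpowers, hmapR] at e
    exact e
  rw [← hmapC, hinj' _ inf_le_left]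
  obtain ⟨k, hk⟩ := IsPGroup.iff_card.1 (hR₁p.to_le (inf_le_left : R₁ ⊓ centralizer ({s} : Set G) ≤ R₁))
  rw [hk]
  by_contra hlt
  have hk2 : 2 ≤ k := by
    by_contra hk2
    exact hlt ((Nat.pow_le_pow_right hrp.pos (by omega : k ≤ 1)).trans_eq (pow_one r))
  obtain ⟨v, hv, hv1, hsv⟩ := hinvP s hs
  obtain ⟨b, hb, hb1, w, hw, hw1, hsw, hbw⟩ := exists_triple h (j := r) (a := s) (V := P)
    (hR₁p.to_le inf_le_left) (hk ▸ pow_dvd_pow r hk2)
    (fun b hb => (mem_centralizer_singleton_iff.1 hb.2).symm) (fun g _ => hNP g)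
    (IsPGroup.coprime_card_of_ne r p hpr.symm _ P (hR₁p.to_le inf_le_left) hPp) hv hv1 hsv
  exact h.no_three hr hp Nat.prime_two hpr.symm hr.ne_two hp.ne_two (h.orderOf_of_mem hR₁p hb.1 hb1).symm.dvd
    (h.orderOf_of_mem hPp hw hw1).symm.dvd hs.symm.dvd hbw (mem_centralizer_singleton_iff.1 hb.2) hsw.symm

end Cfsg.Lib.Spec.JOneSq
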