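import Cfsg.Agent.Lib.Spec.JOneSquare.Local
import Cfsg.Agent.Lib.Spec.JOneSquare.Double

/-!
# Isolated primes, and perfect subgroups of normalizers
-/

set_option autoImplicit false
set_option linter.style.haveILetI false
set_option linter.unusedSectionVars false

namespace Cfsg.Lib.Spec.JOneSq

open Subgroup

universe u

variable {G : Type u} [Group G] [Finite G]

/-- A group with admissible element orders and order not divisible by four is solvable. -/
theorem isSolvable_of_not_four (h : Le G) (h4 : ¬ 4 ∣ Nat.card G) : Group.IsSolvable G := by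
  classical
  haveI : Fact (Nat.Prime 2) := ⟨Nat.prime_two⟩
  by_cases h2 : 2 ∣ Nat.card G
  swap
  · exact isSolvable_of_odd _ G le_rfl h (Nat.not_even_iff_odd.1 fun he => h2 (even_iff_two_dvd.1 he))
  obtain ⟨P⟩ : Nonempty (Sylow 2 G) := inferInstance
  obtain ⟨k, hk⟩ := IsPGroup.iff_card.1 P.2
  have hk1 : k = 1 := by
    have h21 : 2 ∣ Nat.card (P : Subgroup G) := P.dvd_card_of_dvd_card h2
    rcases k with _ | _ | k
    · rw [hk] at h21; norm_num at h21
    · rfl
    · exact absurd ((pow_dvd_pow 2 (by omega : 2 ≤ k + 1 + 1)).trans (hk ▸ card_subgroup_dvd_card (P : Subgroup G)))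
        h4
  subst hk1
  have hcyc : IsCyclic (P : Subgroup G) := isCyclic_of_prime_card (p := 2) (by rw [hk, pow_one])
  have hmin : (Nat.card G).minFac = 2 := (Nat.minFac_eq_two_iff _).2 h2
  have hcompl := IsCyclic.isComplement' hmin hcyc
  set K := (MonoidHom.transferSylow P (hcyc.normalizer_le_centralizer hmin)).ker
  have hKodd : Odd (Nat.card K) := by
    have hm := hcompl.card_mul
    rw [hk, pow_one] at hm
    rw [← Nat.not_even_iff_odd, even_iff_two_dvd]
    rintro ⟨j, hj⟩
    exact h4 ⟨j, by rw [← hm, hj]; ring⟩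
  haveI : Group.IsSolvable K := isSolvable_of_odd _ K le_rfl (h.subgroup K) hKodd
  haveI : IsMulCommutative (P : Subgroup G) := h.sylow_two_comm P
  haveI : Group.IsSolvable (P : Subgroup G) := Core.isSolvable_of_isMulCommutative _
  exact Group.isSolvable_of_ker_le_range K.subtype (MonoidHom.transferSylow P (hcyc.normalizer_le_centralizer hmin))
    (by rw [range_subtype])

/-- A separable group in which a prime is isolated is solvable. -/
theorem isolated_solvable (h : Le G) {r : ℕ} [Fact r.Prime] (hr2 : r ≠ 2) (hs : Cfsg.IsPSolvable r G)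
    (hd : r ∣ Nat.card G) (hiso : ∀ q : ℕ, q.Prime → q ≠ r → ∀ g : G, ¬ r * q ∣ orderOf g) :
    Group.IsSolvable G := by
  classical
  have hr : r.Prime := Fact.out
  haveI : Fact (Nat.Prime 2) := ⟨Nat.prime_two⟩
  set H := Cfsg.pPrimeCore r G with hH
  haveI : H.Normal := by rw [hH]; infer_instance
  obtain ⟨z, hz⟩ := exists_prime_orderOf_dvd_card' r hd
  have hfpf : MonoidHom.FixedPointFree (MulAut.conjNormal z : MulAut H) := by
    intro v hv
    by_contra hv1
    have hc : Commute z (v : G) := by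
      have := congrArg Subtype.val hv
      rw [MulAut.conjNormal_apply] at this
      exact mul_inv_eq_iff_eq_mul.1 this
    obtain ⟨q, hq, hqd⟩ := Nat.exists_prime_and_dvd (mt orderOf_eq_one_iff.1 hv1)
    have hqr : q ≠ r := fun e => Core.pPrimeCore_not_dvd r G
      ((dvd_of_eq e.symm).trans (hqd.trans (_root_.orderOf_dvd_natCard v)))
    rw [← Subgroup.orderOf_coe] at hqd
    obtain ⟨g, hg⟩ := dvd_orderOf_mul hc hz.symm.dvd hqd ((Nat.coprime_primes hr hq).2 hqr.symm)
    exact hiso q hq hqr g hg.symm.dvd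
  have hzp : (⇑(MulAut.conjNormal z : MulAut H))^[r] = id := by
    have hit : ∀ (n : ℕ) (v : H), (⇑(MulAut.conjNormal z : MulAut H))^[n] v =
        ((MulAut.conjNormal z : MulAut H) ^ n) v := by
      intro n
      induction n with
      | zero => intro v; rfl
      | succ n ih => intro v; rw [Function.iterate_succ_apply', ih, pow_succ', MulAut.mul_apply]
    funext v
    rw [hit, ← map_pow, ← hz, pow_orderOf_eq_one, map_one, MulAut.one_apply, id]
  haveI : Group.IsNilpotent H := Cfsg.Lib.Thompson.isNilpotent_of_fpf hr _ hfpf hzp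
  haveI : Group.IsSolvable H := inferInstance
  -- the quotient
  set f := QuotientGroup.mk' H
  have hrX : r ∣ Nat.card (G ⧸ H) := by
    have := hd
    rw [card_eq_card_quotient_mul_card_subgroup H] at this
    exact (hr.dvd_mul.1 this).resolve_right (Core.pPrimeCore_not_dvd r G)
  haveI : Nontrivial (G ⧸ H) := Finite.one_lt_card_iff_nontrivial.1
    (lt_of_lt_of_le hr.one_lt (Nat.le_of_dvd Nat.card_pos hrX))
  have hR := Core.pCore_ne_bot_of_isPSolvable (Core.isPSolvable_quotient hs H) Core.pPrimeCore_quotient_eq_bot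
  have hX : Group.IsSolvable (G ⧸ H) := by
    refine isSolvable_of_not_four (h.quotient H) fun h4 => ?_
    obtain ⟨S⟩ : Nonempty (Sylow 2 (G ⧸ H)) := inferInstance
    have hS : 2 ^ 2 ∣ Nat.card (S : Subgroup (G ⧸ H)) :=
      S.pow_dvd_card_of_pow_dvd_card h4
    obtain ⟨a, ha, ha1, v, hv, hv1, hc⟩ := exists_fixed_of_pair (h.quotient H) hS S.2
      (V := Cfsg.pCore r (G ⧸ H)) le_normalizer_of_normal
      (IsPGroup.coprime_card_of_ne 2 r hr2.symm _ _ S.2 (Core.pCore_isPGroup r _)) hR
    have hao := (h.quotient H).orderOf_of_mem S.2 ha ha1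
    have hvo := (h.quotient H).orderOf_of_mem (Core.pCore_isPGroup r (G ⧸ H)) hv hv1
    obtain ⟨g, hg⟩ := dvd_orderOf_mul hc.symm hvo.symm.dvd hao.symm.dvd ((Nat.coprime_primes hr Nat.prime_two).2 hr2)
    obtain ⟨g', rfl⟩ := QuotientGroup.mk'_surjective H g
    exact hiso 2 Nat.prime_two hr2.symm g' (hg ▸ orderOf_map_dvd f g')
  exact Group.isSolvable_of_ker_le_range H.subtype f (by rw [QuotientGroup.ker_mk', range_subtype])

/-- No triangle of pairwise non-adjacent primes, one of which is isolated. -/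
theorem no_triangle (h : Le G) {r s t : ℕ} [Fact r.Prime] (hr2 : r ≠ 2) (hs : Cfsg.IsPSolvable r G)
    (hsp : s.Prime) (htp : t.Prime) (hrs : r ≠ s) (hrt : r ≠ t) (hst : s ≠ t) (hrd : r ∣ Nat.card G)
    (hsd : s ∣ Nat.card G) (htd : t ∣ Nat.card G)
    (hiso : ∀ q : ℕ, q.Prime → q ≠ r → ∀ g : G, ¬ r * q ∣ orderOf g)
    (hno : ∀ g : G, ¬ s * t ∣ orderOf g) : False := by
  haveI := isolated_solvable h hr2 hs hrd hiso
  obtain ⟨x, hx⟩ := Solv.three_primes (Fact.out : r.Prime) hsp htp hrs hrt hst hrd hsd htd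
  rcases hx with hx | hx | hx
  · exact hiso s hsp hrs.symm x hx.symm.dvd
  · exact hiso t htp hrt.symm x hx.symm.dvd
  · exact hno x hx.symm.dvd

/-- A nonsolvable group normalizing a solvable subgroup has a perfect subgroup normalizing a Sylow subgroup of it. -/
theorem exists_perfect_normalizer {C H : Subgroup G} (hHC : H ≤ C) (hC : C ≤ normalizer (H : Set G))
    [Group.IsSolvable H] (hns : ¬ Group.IsSolvable C) {p : ℕ} [Fact p.Prime] (P : Sylow p H) :
    ∃ D ≤ C ⊓ normalizer (((P : Subgroup H).map H.subtype : Subgroup G) : Set G), ⁅D, D⁆ = D ∧ D ≠ ⊥ := by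
  refine exists_perfect_le fun hsol => hns ?_
  haveI := hsol
  set C' := C ⊓ normalizer (((P : Subgroup H).map H.subtype : Subgroup G) : Set G)
  -- every element of `C` is a product of an element of `H` and one of `C'`
  have hfac : ∀ c ∈ C, ∃ k ∈ H, k⁻¹ * c ∈ C' := by
    intro c hc
    obtain ⟨R, hR⟩ := Coprime.exists_sylow_eq_conj P (hC hc)
    obtain ⟨k, hk, hkR⟩ := Coprime.exists_sylow_conj P R
    refine ⟨k, hk, C.mul_mem (C.inv_mem (hHC hk)) hc, mem_normalizer_iff_map_conj_eq.2 ?_⟩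
    show Subgroup.map (MulAut.conj (k⁻¹ * c)).toMonoidHom _ = _
    rw [← Coprime.map_conj_conj, ← hR, hkR, Coprime.map_conj_conj, inv_mul_cancel, Coprime.map_conj_one]
  haveI : (H.subgroupOf C).Normal := (normal_subgroupOf_iff_le_normalizer hHC).2 hC
  let g : ↥C' →* ↥C ⧸ H.subgroupOf C :=
    (QuotientGroup.mk' (H.subgroupOf C)).comp (Subgroup.inclusion inf_le_left)
  have hg : Function.Surjective g := by
    intro x
    obtain ⟨c, rfl⟩ := QuotientGroup.mk'_surjective _ x
    obtain ⟨k, hk, hkc⟩ := hfac c c.2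
    refine ⟨⟨_, hkc⟩, (QuotientGroup.mk'_eq_mk' _).2 ⟨⟨(c : G)⁻¹ * k * c, ?_⟩, ?_, Subtype.ext ?_⟩⟩
    · exact C.mul_mem (C.mul_mem (C.inv_mem c.2) (hHC hk)) c.2
    · exact mem_subgroupOf.2 ((mem_normalizer_iff''.1 (hC c.2) k).1 hk)
    · show k⁻¹ * (c : G) * ((c : G)⁻¹ * k * c) = c
      group
  haveI : Group.IsSolvable (↥C ⧸ H.subgroupOf C) := Group.isSolvable_of_surjective hg
  haveI : Group.IsSolvable (H.subgroupOf C) :=
    Group.isSolvable_of_isSolvable_injective (f := (subgroupOfEquivOfLe hHC).toMonoidHom)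
      (subgroupOfEquivOfLe hHC).injective
  exact Group.isSolvable_of_ker_le_range (H.subgroupOf C).subtype (QuotientGroup.mk' (H.subgroupOf C))
    (by rw [QuotientGroup.ker_mk', range_subtype])

/-- A group acting on a solvable subgroup of odd order: perfect subgroups normalize a Hall subgroup. -/
theorem exists_perfect_hall {C H : Subgroup G} (hHC : H ≤ C) (hC : C ≤ normalizer (H : Set G))
    [Group.IsSolvable H] (hns : ¬ Group.IsSolvable C) {π : Set ℕ} {T : Subgroup H} (hT : Cfsg.IsPiHall π T) :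
    ∃ D ≤ C ⊓ normalizer ((T.map H.subtype : Subgroup G) : Set G), ⁅D, D⁆ = D ∧ D ≠ ⊥ := by
  refine exists_perfect_le fun hsol => hns ?_
  haveI := hsol
  haveI : (H.subgroupOf C).Normal := (normal_subgroupOf_iff_le_normalizer hHC).2 hC
  set C' := C ⊓ normalizer ((T.map H.subtype : Subgroup G) : Set G)
  set T' := T.map H.subtype with hT'
  have hfac : ∀ c ∈ C, ∃ k ∈ H, k⁻¹ * c ∈ C' := by
    intro c hc
    have hle : T'.map (MulAut.conj c).toMonoidHom ≤ H := by
      rintro _ ⟨t, ⟨t', -, rfl⟩, rfl⟩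
      exact (mem_normalizer_iff.1 (hC hc) _).1 t'.2
    set K := (T'.map (MulAut.conj c).toMonoidHom).subgroupOf H
    have hKcard : Nat.card K = Nat.card T := by
      rw [Nat.card_congr (subgroupOfEquivOfLe hle).toEquiv,
        card_map_of_injective (f := (MulAut.conj c).toMonoidHom) (MulAut.conj c).injective,
        card_map_of_injective H.subtype_injective]
    obtain ⟨k, hk⟩ := Solv.le_conj_of_isPiHall hT (K := K) fun s hs hsd => hT.1 s hs (hKcard ▸ hsd)
    have hTK : T'.map (MulAut.conj c).toMonoidHom = T'.map (MulAut.conj (k : G)).toMonoidHom := by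
      refine eq_of_le_of_card_ge ?_ (le_of_eq ?_)
      · intro x hx
        have hxK : (⟨x, hle hx⟩ : H) ∈ K := hx
        obtain ⟨t, ht, hte⟩ := hk hxK
        exact ⟨(t : G), mem_map_of_mem _ ht, congrArg Subtype.val hte⟩
      · rw [Coprime.card_map_conj, Coprime.card_map_conj]
    refine ⟨k, k.2, C.mul_mem (C.inv_mem (hHC k.2)) hc, mem_normalizer_iff_map_conj_eq.2 ?_⟩
    show Subgroup.map (MulAut.conj ((k : G)⁻¹ * c)).toMonoidHom _ = _
    rw [← Coprime.map_conj_conj, hTK, Coprime.map_conj_conj, inv_mul_cancel, Coprime.map_conj_one]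
  let g : ↥C' →* ↥C ⧸ H.subgroupOf C :=
    (QuotientGroup.mk' (H.subgroupOf C)).comp (Subgroup.inclusion inf_le_left)
  have hg : Function.Surjective g := by
    intro x
    obtain ⟨c, rfl⟩ := QuotientGroup.mk'_surjective _ x
    obtain ⟨k, hk, hkc⟩ := hfac c c.2
    refine ⟨⟨_, hkc⟩, (QuotientGroup.mk'_eq_mk' _).2 ⟨⟨(c : G)⁻¹ * k * c, ?_⟩, ?_, Subtype.ext ?_⟩⟩
    · exact C.mul_mem (C.mul_mem (C.inv_mem c.2) (hHC hk)) c.2
    · exact mem_subgroupOf.2 ((mem_normalizer_iff''.1 (hC c.2) k).1 hk)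
    · show k⁻¹ * (c : G) * ((c : G)⁻¹ * k * c) = c
      group
  haveI : Group.IsSolvable (↥C ⧸ H.subgroupOf C) := Group.isSolvable_of_surjective hg
  haveI : Group.IsSolvable (H.subgroupOf C) :=
    Group.isSolvable_of_isSolvable_injective (f := (subgroupOfEquivOfLe hHC).toMonoidHom)
      (subgroupOfEquivOfLe hHC).injective
  exact Group.isSolvable_of_ker_le_range (H.subgroupOf C).subtype (QuotientGroup.mk' (H.subgroupOf C))
    (by rw [QuotientGroup.ker_mk', range_subtype])

end Cfsg.Lib.Spec.JOneSq
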