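import Cfsg.Agent.Lib.Spec.JOneSquare.Actions
import Cfsg.Agent.Lib.J1Weak.JFacts
import Cfsg.Agent.Lib.J1.Stem
import Cfsg.Agent.Lib.CentMax.Main

/-!
# Facts on the first Janko group
-/

set_option autoImplicit false
set_option linter.style.haveILetI false
set_option linter.unusedSectionVars false

namespace Cfsg.Lib.Spec.JOneSq

open Subgroup
open scoped commutatorElement

universe u

theorem lcm_mem : ∀ a ∈ Cfsg.Lib.J1.ordList, ∀ b ∈ Cfsg.Lib.J1.ordList, Nat.lcm a b ∈ omega := by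
  decide +kernel

/-- The element orders of `J₁ × J₁`. -/
theorem range_orderOf : ∀ n, (∃ g : ↥Spor.J1 × ↥Spor.J1, orderOf g = n) ↔ n ∈ omega := by
  intro n
  constructor
  · rintro ⟨⟨a, b⟩, rfl⟩
    rw [Prod.orderOf_mk]
    exact lcm_mem _ (Cfsg.Lib.J1.exists_orderOf_iff.1 ⟨a, rfl⟩) _ (Cfsg.Lib.J1.exists_orderOf_iff.1 ⟨b, rfl⟩)
  · intro hn
    simp only [omega, List.mem_flatMap, List.mem_map] at hn
    obtain ⟨a, ha, b, hb, rfl⟩ := hn
    obtain ⟨x, rfl⟩ := Cfsg.Lib.J1.exists_orderOf_iff.2 ha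
    obtain ⟨y, rfl⟩ := Cfsg.Lib.J1.exists_orderOf_iff.2 hb
    exact ⟨(x, y), Prod.orderOf_mk⟩

theorem mem_spec (g : ↥Spor.J1) : orderOf g ∈ Cfsg.Lib.J1.ordList :=
  Cfsg.Lib.J1.exists_orderOf_iff.1 ⟨g, rfl⟩

theorem card_J1 : Nat.card ↥Spor.J1 = 175560 := Cfsg.Lib.H3.JankoOne.card_J

theorem finite_J1 : Finite ↥Spor.J1 := Nat.finite_of_card_ne_zero (by rw [card_J1]; norm_num)

theorem simple_J1 : IsSimpleGroup ↥Spor.J1 := Cfsg.Lib.H3.JankoOne.simple_J

theorem perfect_J1 : commutator ↥Spor.J1 = ⊤ := by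
  haveI := simple_J1
  refine (IsSimpleGroup.eq_bot_or_eq_top_of_normal (commutator ↥Spor.J1) inferInstance).resolve_left fun h => ?_
  obtain ⟨a, ha⟩ := Cfsg.Lib.J1.exists_orderOf_iff.2 (show 7 ∈ Cfsg.Lib.J1.ordList by decide)
  obtain ⟨b, hb⟩ := Cfsg.Lib.J1.exists_orderOf_iff.2 (show 11 ∈ Cfsg.Lib.J1.ordList by decide)
  have hm : ⁅a, b⁆ ∈ commutator ↥Spor.J1 := commutator_mem_commutator (mem_top a) (mem_top b)
  rw [h, mem_bot, commutatorElement_eq_one_iff_mul_comm] at hm
  haveI := finite_J1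
  have h77 : orderOf (a * b) = 77 := by
    rw [(show Commute a b from hm).orderOf_mul_eq_mul_orderOf_of_coprime (by rw [ha, hb]; decide), ha, hb]
  exact absurd (h77 ▸ mem_spec (a * b)) (by decide)

/-- The centralizer of an element of order seven, eleven or nineteen. -/
theorem card_centralizer_big {G : Type u} [Group G] [Finite G] (hcard : Nat.card G = 175560)
    (hspec : ∀ g : G, orderOf g ∈ Cfsg.Lib.J1.ordList) {q : ℕ} (hq : Big q) {y : G} (hy : orderOf y = q) :
    Nat.card (centralizer ({y} : Set G)) = q := by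
  set C := centralizer ({y} : Set G)
  haveI := Fact.mk hq.prime
  have hfac : ∀ {s : ℕ}, s.Prime → s ∣ Nat.card C → s = q := by
    intro s hs hd
    by_contra hne
    haveI := Fact.mk hs
    obtain ⟨⟨x, hx⟩, hxo⟩ := exists_prime_orderOf_dvd_card' s hd
    rw [Subgroup.orderOf_mk] at hxo
    have hc : Commute x y := (mem_centralizer_singleton_iff.1 hx)
    have ho : orderOf (x * y) = s * q := by
      rw [hc.orderOf_mul_eq_mul_orderOf_of_coprime (by rw [hxo, hy]; exact (Nat.coprime_primes hs hq.prime).2 hne),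
        hxo, hy]
    have hmem := ho ▸ hspec (x * y)
    have hs6 := six_of_dvd _ (lcm_mem _ hmem _ (show 1 ∈ Cfsg.Lib.J1.ordList by decide)) s
      (by rw [Nat.lcm_one_right]; exact Nat.mem_divisors.2 ⟨dvd_mul_right s q, Nat.mul_ne_zero hs.ne_zero hq.prime.ne_zero⟩) hs
    revert hmem hne
    rcases hq with rfl | rfl | rfl <;> rcases hs6 with rfl | rfl | rfl | rfl | rfl | rfl <;> decide
  obtain ⟨k, hk⟩ : ∃ k, Nat.card C = q ^ k :=
    ⟨_, Nat.eq_prime_pow_of_unique_prime_dvd Nat.card_pos.ne' fun {d} hd hdd => hfac hd hdd⟩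
  have hd : q ^ k ∣ 175560 := hcard ▸ hk ▸ C.card_subgroup_dvd_card
  have hy' : q ∣ Nat.card C := by
    rw [← hy, ← Subgroup.orderOf_mk y (mem_centralizer_singleton_iff.2 rfl : y ∈ C)]
    exact orderOf_dvd_natCard _
  rcases k with _ | _ | k
  · rw [hk, pow_zero, Nat.dvd_one] at hy'; exact absurd hy' hq.prime.ne_one
  · rw [hk, pow_one]
  · exfalso
    have h2 : q * q ∣ 175560 := (Dvd.intro (q ^ k) (by ring)).trans hd
    rcases hq with rfl | rfl | rfl <;> norm_num at h2

theorem index_seven : ∀ m ∈ (7 - 1).divisors, 175560 % (7 * m) = 0 → 175560 / (7 * m) % 7 = 1 → m = 6 := by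
  decide +kernel

theorem index_eleven : ∀ m ∈ (11 - 1).divisors, 175560 % (11 * m) = 0 → 175560 / (11 * m) % 11 = 1 → m = 10 := by
  decide +kernel

theorem index_nineteen : ∀ m ∈ (19 - 1).divisors, 175560 % (19 * m) = 0 → 175560 / (19 * m) % 19 = 1 → m = 6 := by
  decide +kernel

/-- An element of order `m` acting without fixed points on a subgroup of order `q`. -/
theorem exists_frob' {G : Type u} [Group G] [Finite G] (hcard : Nat.card G = 175560)
    (hspec : ∀ g : G, orderOf g ∈ Cfsg.Lib.J1.ordList) (hex : ∀ n ∈ Cfsg.Lib.J1.ordList, ∃ g : G, orderOf g = n)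
    {q m : ℕ} (hqm : q = 7 ∧ m = 6 ∨ q = 11 ∧ m = 10 ∨ q = 19 ∧ m = 6) :
    ∃ y h : G, orderOf y = q ∧ orderOf h = m ∧ h * y * h⁻¹ ∈ zpowers y ∧
      ∀ i, 0 < i → i < m → ¬ Commute y (h ^ i) := by
  classical
  have hq : Big q := by rcases hqm with ⟨rfl, -⟩ | ⟨rfl, -⟩ | ⟨rfl, -⟩ <;> simp [Big]
  haveI := Fact.mk hq.prime
  obtain ⟨y, hy⟩ := hex q (show q ∈ Cfsg.Lib.J1.ordList by
    rcases hq with rfl | rfl | rfl <;> decide)
  set Y := zpowers y with hY
  set N := normalizer (Y : Set G) with hN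
  let f : ↥N →* MulAut ↥Y := Y.normalizerMonoidHom
  have hker : Nat.card f.ker = q := by
    rw [show f.ker = (centralizer (Y : Set G)).subgroupOf N from normalizerMonoidHom_ker _,
      Nat.card_congr (subgroupOfEquivOfLe (centralizer_le_normalizer _)).toEquiv]
    rw [show centralizer (Y : Set G) = centralizer ({y} : Set G) by
      rw [hY, zpowers_eq_closure, centralizer_closure]]
    exact card_centralizer_big hcard hspec hq hy
  haveI : IsCyclic ↥Y := inferInstance
  haveI : IsCyclic (MulAut ↥Y) := by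
    have hc : Nat.card ↥Y = q := by rw [hY, Nat.card_zpowers, hy]
    let e := IsCyclic.mulAutMulEquiv ↥Y
    rw [hc] at e
    exact isCyclic_of_surjective e.symm e.symm.surjective
  have hNcard : Nat.card N = q * Nat.card f.range := by
    rw [← Subgroup.index_ker, ← hker, f.ker.card_mul_index]
  have hdivq : Nat.card f.range ∣ q - 1 := by
    have hc : Nat.card ↥Y = q := by rw [hY, Nat.card_zpowers, hy]
    refine f.range.card_subgroup_dvd_card.trans (dvd_of_eq ?_)
    rw [Nat.card_congr (IsCyclic.mulAutMulEquiv ↥Y).toEquiv, hc, Nat.card_eq_fintype_card, ZMod.card_units]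
  obtain ⟨P, hP⟩ := (IsPGroup.of_card (n := 1) (by rw [Nat.card_zpowers, hy, pow_one]) :
    IsPGroup q (zpowers y)).exists_le_sylow
  have hPY : (P : Subgroup G) = Y := by
    refine (eq_of_le_of_card_ge hP ?_).symm
    obtain ⟨k, hk⟩ := P.isPGroup'.exists_card_eq
    have hd : q ^ k ∣ 175560 := hcard ▸ hk ▸ (P : Subgroup G).card_subgroup_dvd_card
    rw [hk, Nat.card_zpowers, hy]
    rcases k with _ | _ | k
    · rw [pow_zero]; exact hq.prime.one_lt.le
    · rw [pow_one]
    · exfalso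
      have h2 : q * q ∣ 175560 := (Dvd.intro (q ^ k) (by ring)).trans hd
      rcases hq with rfl | rfl | rfl <;> norm_num at h2
  have hcount : Nat.card (Sylow q G) = N.index := by rw [P.card_eq_index_normalizer, hN, ← hPY]; rfl
  have hmod := card_sylow_modEq_one q G
  rw [hcount] at hmod
  have hidx : N.index = 175560 / (q * Nat.card f.range) ∧ 175560 % (q * Nat.card f.range) = 0 := by
    have := N.card_mul_index
    rw [hcard, hNcard] at this
    exact ⟨(Nat.div_eq_of_eq_mul_right (Nat.mul_pos hq.prime.pos Nat.card_pos) this.symm).symm,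
      Nat.mod_eq_zero_of_dvd (Dvd.intro _ this)⟩
  have hm : Nat.card f.range = m := by
    rw [Nat.ModEq, hidx.1, Nat.one_mod_eq_one.2 hq.prime.ne_one] at hmod
    have hmemd : Nat.card f.range ∈ (q - 1).divisors :=
      Nat.mem_divisors.2 ⟨hdivq, by have := hq.prime.two_le; omega⟩
    rcases hqm with ⟨rfl, rfl⟩ | ⟨rfl, rfl⟩ | ⟨rfl, rfl⟩
    · exact index_seven _ hmemd hidx.2 hmod
    · exact index_eleven _ hmemd hidx.2 hmod
    · exact index_nineteen _ hmemd hidx.2 hmod
  obtain ⟨⟨φ, g, rfl⟩, hgen⟩ := IsCyclic.exists_generator (α := ↥f.range)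
  have hord : orderOf (f g) = m := by
    rw [← hm, ← orderOf_eq_card_of_forall_mem_zpowers hgen]
    exact (Subgroup.orderOf_mk _ _).symm
  have hgord : orderOf (g : G) = m := by
    have h1 : m ∣ orderOf (g : G) := by rw [← hord, Subgroup.orderOf_coe]; exact orderOf_map_dvd f g
    have h2 := hspec (g : G)
    revert h1 h2
    generalize orderOf (g : G) = n
    intro h1 h2
    simp only [Cfsg.Lib.J1.ordList, List.mem_cons, List.not_mem_nil, or_false] at h2
    rcases hqm with ⟨-, rfl⟩ | ⟨-, rfl⟩ | ⟨-, rfl⟩ <;> omega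
  refine ⟨y, g, hy, hgord, (mem_normalizer_iff.1 g.2 y).1 (mem_zpowers y), fun i hi him hc => ?_⟩
  have h1 : f g ^ i = 1 := by
    rw [← map_pow]
    refine MulEquiv.ext fun v => Subtype.ext ?_
    show ((g ^ i : ↥N) : G) * (v : G) * ((g ^ i : ↥N) : G)⁻¹ = _
    rw [MulAut.one_apply, SubgroupClass.coe_pow, mul_inv_eq_iff_eq_mul]
    obtain ⟨k, hk⟩ := mem_zpowers_iff.1 v.2
    rw [← hk]
    exact (hc.symm.zpow_right k).eq
  exact absurd (Nat.le_of_dvd hi (hord ▸ orderOf_dvd_of_pow_eq_one h1)) (by omega)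

/-- An element of order `m` acting without fixed points on a subgroup of order `q` of the first Janko group. -/
theorem exists_frob {q m : ℕ} (hqm : q = 7 ∧ m = 6 ∨ q = 11 ∧ m = 10 ∨ q = 19 ∧ m = 6) :
    ∃ y h : ↥Spor.J1, orderOf y = q ∧ orderOf h = m ∧ h * y * h⁻¹ ∈ zpowers y ∧
      ∀ i, 0 < i → i < m → ¬ Commute y (h ^ i) := by
  haveI := finite_J1
  exact exists_frob' card_J1 mem_spec (fun n hn => Cfsg.Lib.J1.exists_orderOf_iff.2 hn) hqm

/-- An element of order seven acting without fixed points on an elementary group of order eight. -/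
theorem exists_seven : ∃ (E : Subgroup ↥Spor.J1) (h : ↥Spor.J1), Nat.card E = 8 ∧ orderOf h = 7 ∧
    (∀ s ∈ E, h * s * h⁻¹ ∈ E) ∧ ∀ i, 0 < i → i < 7 → ∀ s ∈ E, Commute s (h ^ i) → s = 1 := by
  classical
  haveI := finite_J1
  haveI := simple_J1
  haveI : Fact (Nat.Prime 2) := ⟨Nat.prime_two⟩
  haveI : Fact (Nat.Prime 7) := ⟨by norm_num⟩
  obtain ⟨t, ht, ⟨f⟩⟩ := Cfsg.Agent.S2131.result
  have hns : ¬ Group.IsSolvable ↥(centralizer ({t} : Set ↥Spor.J1)) := fun hs => by
    haveI : IsSimpleGroup ↥(alternatingGroup (Fin 5)) := alternatingGroup.isSimpleGroup (by simp)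
    haveI := hs
    have hA : Group.IsSolvable ↥(alternatingGroup (Fin 5)) :=
      Group.isSolvable_of_surjective (f := (MonoidHom.snd (Multiplicative (ZMod 2)) _).comp f.toMonoidHom)
        (fun a => ⟨f.symm (1, a), by simp⟩)
    have hcomm := (IsSimpleGroup.comm_iff_isSolvable (G := ↥(alternatingGroup (Fin 5)))).2 hA
    exact absurd (hcomm ⟨Equiv.swap 0 1 * Equiv.swap 1 2, Equiv.Perm.mem_alternatingGroup.2 (by decide +kernel)⟩
      ⟨Equiv.swap 2 3 * Equiv.swap 3 4, Equiv.Perm.mem_alternatingGroup.2 (by decide +kernel)⟩) (by decide +kernel)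
  obtain ⟨T⟩ : Nonempty (Sylow 2 ↥Spor.J1) := inferInstance
  have hle : Le ↥Spor.J1 := fun g => by
    have := lcm_mem _ (mem_spec g) _ (show 1 ∈ Cfsg.Lib.J1.ordList by decide)
    rwa [Nat.lcm_one_right] at this
  have hna : ¬ IsMulCommutative ↥Spor.J1 := fun hc => by
    have := perfect_J1
    have hb : commutator ↥Spor.J1 = ⊥ := by
      rw [_root_.commutator_def, commutator_eq_bot_iff_le_centralizer]
      exact fun a _ => mem_centralizer_iff.2 fun b _ => hc.is_comm.comm b a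
    rw [hb] at this
    exact bot_ne_top this
  obtain ⟨P, hPc, h8, -, h21, -⟩ := CentMax.exists_setting hna T (hle.sylow_two_comm T) ht hns
  obtain ⟨⟨φ, hφm⟩, hφ⟩ := exists_prime_orderOf_dvd_card' (G := E8Cent.automizer P) 7 (h21 ▸ by norm_num)
  rw [Subgroup.orderOf_mk] at hφ
  obtain ⟨g, rfl⟩ := hφm
  have hg7 : orderOf (g : ↥Spor.J1) = 7 := by
    have h1 : 7 ∣ orderOf (g : ↥Spor.J1) := by
      have hd := orderOf_map_dvd (P : Subgroup ↥Spor.J1).normalizerMonoidHom g
      exact (dvd_of_eq hφ.symm).trans (by rw [Subgroup.orderOf_coe]; exact hd)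
    have h2 := mem_spec (g : ↥Spor.J1)
    revert h1 h2
    generalize orderOf (g : ↥Spor.J1) = n
    intro h1 h2
    simp only [Cfsg.Lib.J1.ordList, List.mem_cons, List.not_mem_nil, or_false] at h2
    omega
  refine ⟨P, g, h8, hg7, fun s hs => (mem_normalizer_iff.1 g.2 s).1 hs, fun i hi hi7 s hs hc => ?_⟩
  by_contra hs1
  have hco : i.Coprime (orderOf (g : ↥Spor.J1)) := by
    rw [hg7]; exact ((Nat.Prime.coprime_iff_not_dvd (by norm_num)).2 fun hd =>
      absurd (Nat.le_of_dvd hi hd) (by omega)).symm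
  obtain ⟨k, hk⟩ := exists_pow_eq_self_of_coprime hco
  have hc1 : Commute s (g : ↥Spor.J1) := hk ▸ hc.pow_right k
  set a := (P : Subgroup ↥Spor.J1).normalizerMonoidHom g with ha
  letI : MulAction (zpowers a) (P : Subgroup ↥Spor.J1) := MulAction.compHom _ (zpowers a).subtype
  have hp : IsPGroup 7 (zpowers a) := IsPGroup.of_card (n := 1) (by rw [Nat.card_zpowers, hφ, pow_one])
  have hmod := hp.card_modEq_card_fixedPoints (P : Subgroup ↥Spor.J1)
  rw [h8] at hmod
  have hfix : ∀ v : (P : Subgroup ↥Spor.J1), a v = v → v ∈ MulAction.fixedPoints (zpowers a) (P : Subgroup ↥Spor.J1) := by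
    intro v hv k
    obtain ⟨j, hj⟩ := mem_zpowers_iff.1 k.2
    show (k : MulAut (P : Subgroup ↥Spor.J1)) v = v
    rw [← hj]
    exact Subgroup.zpow_mem (MulAction.stabilizer (MulAut (P : Subgroup ↥Spor.J1)) v) hv j
  have hone : (1 : (P : Subgroup ↥Spor.J1)) ∈ MulAction.fixedPoints (zpowers a) (P : Subgroup ↥Spor.J1) :=
    hfix 1 (map_one a)
  have hsfix : (⟨s, hs⟩ : (P : Subgroup ↥Spor.J1)) ∈ MulAction.fixedPoints (zpowers a) (P : Subgroup ↥Spor.J1) :=
    hfix _ (Subtype.ext (mul_inv_eq_iff_eq_mul.2 hc1.symm.eq))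
  have hle8 : Nat.card (MulAction.fixedPoints (zpowers a) (P : Subgroup ↥Spor.J1)) ≤ 8 :=
    h8 ▸ Nat.card_le_card_of_injective _ Subtype.val_injective
  have h2le : 2 ≤ Nat.card (MulAction.fixedPoints (zpowers a) (P : Subgroup ↥Spor.J1)) := by
    haveI : Nontrivial (MulAction.fixedPoints (zpowers a) (P : Subgroup ↥Spor.J1)) :=
      ⟨⟨⟨_, hone⟩, ⟨_, hsfix⟩, fun e => hs1 (congrArg (fun v => ((v.1 : (P : Subgroup ↥Spor.J1)) : ↥Spor.J1)) e).symm⟩⟩
    exact Finite.one_lt_card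
  have heq : Nat.card (MulAction.fixedPoints (zpowers a) (P : Subgroup ↥Spor.J1)) = 8 := by
    rw [Nat.ModEq] at hmod; omega
  have hbij : Function.Bijective (Subtype.val : MulAction.fixedPoints (zpowers a) (P : Subgroup ↥Spor.J1) → _) :=
    (Nat.bijective_iff_injective_and_card _).2 ⟨Subtype.val_injective, heq.trans h8.symm⟩
  have h1 : a = 1 := MulEquiv.ext fun v => by
    obtain ⟨⟨w, hw⟩, rfl⟩ := hbij.2 v
    exact hw ⟨a, mem_zpowers a⟩
  rw [h1, orderOf_one] at hφ
  norm_num at hφ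

/-- Every automorphism of the first Janko group is inner. -/
theorem exists_conj {T : Type u} [Group T] (hT : Spor.IsoJ1 T) (f : MulAut T) :
    ∃ a : T, ∀ x, f x = a * x * a⁻¹ := by
  obtain ⟨e⟩ := hT
  haveI := finite_J1
  obtain ⟨a, ha⟩ := MonoidHom.mem_range.1 (Cfsg.Lib.J1.mem_inn ((e.symm.trans f).trans e))
  refine ⟨e.symm a, fun x => e.injective ?_⟩
  have := congrArg (fun φ : MulAut ↥Spor.J1 => φ (e x)) ha
  simp only [MulAut.conj_apply, MulEquiv.trans_apply, MulEquiv.symm_apply_apply] at this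
  rw [map_mul, map_mul, map_inv, MulEquiv.apply_symm_apply, this]

end Cfsg.Lib.Spec.JOneSq
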