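import Cfsg.Agent.Lib.Spec.JOneSquare.Lifting
import Cfsg.Agent.Lib.Thompson.FixedPointFree
import Cfsg.Agent.Lib.Solv.ThreePrimes

/-!
# Local tools: coprime actions of groups of order `r ^ 3`, isolated primes
-/

set_option autoImplicit false
set_option linter.style.haveILetI false
set_option linter.unusedSectionVars false

namespace Cfsg.Lib.Spec.JOneSq

open Subgroup
open scoped commutatorElement

universe u

theorem arith_list : ∀ r ∈ [7, 11, 19], ∀ q ∈ [2, 3, 5, 7, 11, 19], r ≠ q →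
    ¬ r ∣ q - 1 ∧ ¬ r ∣ q ^ 2 - 1 := by decide +kernel

theorem Big.mem {p : ℕ} (h : Big p) : p ∈ [7, 11, 19] := by
  rcases h with rfl | rfl | rfl <;> decide

theorem Big.ne_two {p : ℕ} (h : Big p) : p ≠ 2 := by
  rcases h with rfl | rfl | rfl <;> decide

variable {G : Type u} [Group G] [Finite G]

theorem Le.mem_six (h : Le G) {q : ℕ} (hq : q.Prime) (hd : q ∣ Nat.card G) : q ∈ [2, 3, 5, 7, 11, 19] := by
  rcases h.six hq hd with rfl | rfl | rfl | rfl | rfl | rfl <;> decide

theorem Le.arith (h : Le G) {r q : ℕ} (hr : Big r) (hq : q.Prime) (hd : q ∣ Nat.card G) (hrq : r ≠ q) :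
    ¬ r ∣ q - 1 ∧ ¬ r ∣ q ^ 2 - 1 :=
  arith_list r hr.mem q (h.mem_six hq hd) hrq

/-- A noncyclic group centralizing `a` fixes a point among the fixed points of `a`. -/
theorem exists_triple (h : Le G) {j : ℕ} [Fact j.Prime] {a : G} {E V : Subgroup G} (hE : IsPGroup j E)
    (hj : j ^ 2 ∣ Nat.card E) (hEa : ∀ b ∈ E, Commute a b) (hEV : E ≤ normalizer (V : Set G))
    (hcop : (Nat.card E).Coprime (Nat.card V)) {v₀ : G} (hv₀ : v₀ ∈ V) (hv₁ : v₀ ≠ 1) (hav : Commute a v₀) :
    ∃ b ∈ E, b ≠ 1 ∧ ∃ v ∈ V, v ≠ 1 ∧ Commute a v ∧ Commute b v := by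
  obtain ⟨b, hb, hb1, v, hv, hv1, hc⟩ := exists_fixed_of_pair h (V := V ⊓ centralizer ({a} : Set G)) hj hE
    ((le_inf hEV fun b hb => le_normalizer (mem_centralizer_singleton_iff.2 (hEa b hb).eq.symm)).trans
      inf_normalizer_le_normalizer_inf)
    (hcop.coprime_dvd_right (card_dvd_of_le inf_le_left))
    (fun e => hv₁ (by
      have hm : v₀ ∈ V ⊓ centralizer ({a} : Set G) := ⟨hv₀, mem_centralizer_singleton_iff.2 hav.eq.symm⟩
      rw [e, mem_bot] at hm
      exact hm))
  exact ⟨b, hb, hb1, v, hv.1, hv1, (mem_centralizer_singleton_iff.1 hv.2).symm, hc⟩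

/-- The fixed points of the lines in the plane of two automorphisms generate. -/
theorem le_of_lines {r : ℕ} (hr : r.Prime) {K L : Subgroup G} [Group.IsNilpotent K] (hcop : ¬ r ∣ Nat.card K)
    {a b : G} (ha : a ∈ normalizer (K : Set G)) (hb : b ∈ normalizer (K : Set G)) (har : a ^ r = 1)
    (hbr : b ^ r = 1) (hcom : ∀ k ∈ K, Commute ⁅a, b⁆ k)
    (hL : ∀ x : G, (x = b ∨ ∃ t : ℕ, x = a * b ^ t) → K ⊓ centralizer ({x} : Set G) ≤ L) : K ≤ L := by
  let N := normalizer (K : Set G)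
  let ρ : ↥N →* MulAut K := K.normalizerMonoidHom
  have hρ : ∀ (x : G) (hx : x ∈ N) (v : K), ((ρ ⟨x, hx⟩ v : K) : G) = x * v * x⁻¹ := fun _ _ _ => rfl
  have hpow : ∀ (x : G) (hx : x ∈ N), x ^ r = 1 → ρ ⟨x, hx⟩ ^ r = 1 := fun x hx hxr => by
    rw [← map_pow, show (⟨x, hx⟩ : N) ^ r = 1 from Subtype.ext hxr, map_one]
  have hc : Commute (ρ ⟨a, ha⟩) (ρ ⟨b, hb⟩) := by
    rw [← commutatorElement_eq_one_iff_commute, ← map_commutatorElement]
    apply MulEquiv.ext
    intro v
    apply Subtype.ext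
    have h1 := hcom v v.2
    show ⁅a, b⁆ * (v : G) * ⁅a, b⁆⁻¹ = v
    rw [h1.eq, mul_inv_cancel_right]
  intro k hk
  obtain ⟨f, hf, hprod⟩ := (Coprime.RankTwo.decomp (q := r) hr (Nat.card K) K rfl _ _ (hpow a ha har)
    (hpow b hb hbr) hc hcop).1 ⟨k, hk⟩
  have hmem : ∀ i, ((f i : K) : G) ∈ L := by
    intro i
    have hfix := hf i
    revert hfix
    induction i using Fin.lastCases with
    | last =>
      intro hfix
      simp only [Coprime.RankTwo.line, Fin.snoc_last] at hfix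
      refine hL b (Or.inl rfl) ⟨(f _).2, mem_centralizer_singleton_iff.2 ?_⟩
      exact (mul_inv_eq_iff_eq_mul.1 ((hρ b hb _).symm.trans (congrArg Subtype.val hfix))).symm
    | cast t =>
      intro hfix
      simp only [Coprime.RankTwo.line, Fin.snoc_castSucc] at hfix
      rw [← map_pow, ← map_mul] at hfix
      refine hL (a * b ^ (t : ℕ)) (Or.inr ⟨t, rfl⟩) ⟨(f _).2, mem_centralizer_singleton_iff.2 ?_⟩
      exact (mul_inv_eq_iff_eq_mul.1 ((hρ _ _ _).symm.trans (congrArg Subtype.val hfix))).symm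
  have hk' : k = ((List.ofFn f).map fun x : K => (x : G)).prod := by
    have := congrArg (Subtype.val) hprod
    rw [Subgroup.val_list_prod] at this
    exact this.symm
  rw [hk']
  refine L.list_prod_mem fun x hx => ?_
  obtain ⟨y, hy, rfl⟩ := List.mem_map.1 hx
  obtain ⟨i, rfl⟩ := List.mem_ofFn.1 hy
  exact hmem i

/-- A group of order `r ^ 3` acting on two coprime groups: some element has many fixed points on the first and some
on the second. -/
theorem exists_two_fixed (h : Le G) {p q r : ℕ} [Fact p.Prime] [Fact q.Prime] [Fact r.Prime] (hrq : r ≠ q)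
    (hrp : r ≠ p) (h1 : ¬ r ∣ q - 1) (h2 : ¬ r ∣ q ^ 2 - 1) {A U V : Subgroup G} (hA : Nat.card A = r ^ 3)
    (hU : IsPGroup q U) (hV : IsPGroup p V) (hAU : A ≤ normalizer (U : Set G)) (hAV : A ≤ normalizer (V : Set G))
    (hne : ¬ A ≤ centralizer (U : Set G)) (hV0 : V ≠ ⊥) :
    ∃ a ∈ A, a ≠ 1 ∧ q ^ 2 ∣ Nat.card (U ⊓ centralizer ({a} : Set G) : Subgroup G) ∧
      ∃ v ∈ V, v ≠ 1 ∧ Commute a v := by
  classical
  have hr : r.Prime := Fact.out
  have hq : q.Prime := Fact.out
  have hAp : IsPGroup r A := IsPGroup.of_card hA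
  have hord : ∀ a ∈ A, a ^ r = 1 := fun a ha => h.pow_of_mem hAp ha
  have hcopU : (Nat.card A).Coprime (Nat.card U) := IsPGroup.coprime_card_of_ne r q hrq A U hAp hU
  have hcopV : (Nat.card A).Coprime (Nat.card V) := IsPGroup.coprime_card_of_ne r p hrp A V hAp hV
  -- numbers of fixed points
  have hbig : ∀ a : G, q ^ 2 ≤ Nat.card (U ⊓ centralizer ({a} : Set G) : Subgroup G) →
      q ^ 2 ∣ Nat.card (U ⊓ centralizer ({a} : Set G) : Subgroup G) := by
    intro a ha
    obtain ⟨k, hk⟩ := IsPGroup.iff_card.1 (hU.to_le (inf_le_left : U ⊓ centralizer ({a} : Set G) ≤ U))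
    rw [hk] at ha ⊢
    exact pow_dvd_pow q ((Nat.pow_le_pow_iff_right hq.one_lt).1 ha)
  obtain ⟨e, he, u₀, hu₀, hue⟩ : ∃ e ∈ A, ∃ u ∈ U, ¬ Commute e u := by
    by_contra hcon
    push Not at hcon
    exact hne fun e he => mem_centralizer_iff.2 fun u hu => (hcon e he u hu).eq.symm
  have hUbig : q ^ 3 ≤ Nat.card U :=
    le_trans (Nat.le_mul_of_pos_right _ Nat.card_pos)
      (pow_three_le hrq.symm h1 h2 hU (hord e he) (hAU he) fun hall => hue (hall u₀ hu₀))
  have h23 : q ^ 2 ≤ q ^ 3 := Nat.pow_le_pow_right hq.pos (by norm_num)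
  -- fixed points of a moved abelian subgroup of order `r ^ 2`
  have moved : ∀ H ≤ A, Nat.card H = r ^ 2 → IsMulCommutative H → ¬ H ≤ centralizer (U : Set G) →
      ∃ x ∈ H, x ≠ 1 ∧ q ^ 3 ≤ Nat.card (U ⊓ centralizer ({x} : Set G) : Subgroup G) := by
    intro H hH hcard hcomm hHU
    haveI := hcomm
    obtain ⟨x, hx, hx1, v, hv, hxv, b, hb, hbv⟩ := exists_fixed_moved h (V := U) hcard (hH.trans hAU)
      (hcopU.coprime_dvd_left (card_dvd_of_le hH)) hHU
    refine ⟨x, hx, hx1, le_trans (Nat.le_mul_of_pos_right _ Nat.card_pos)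
      (pow_three_le hrq.symm h1 h2 (hU.to_le inf_le_left) (hord b (hH hb)) ?_ fun hall =>
        hbv (hall v ⟨hv, mem_centralizer_singleton_iff.2 hxv.eq.symm⟩))⟩
    refine inf_normalizer_le_normalizer_inf ⟨hAU (hH hb), le_normalizer (mem_centralizer_singleton_iff.2 ?_)⟩
    exact congrArg Subtype.val (mul_comm' (⟨b, hb⟩ : H) ⟨x, hx⟩)
  -- the subgroup generated by a central and a further element
  have mkH : ∀ z ∈ A, z ≠ 1 → (∀ a ∈ A, Commute z a) → ∀ x ∈ A, x ∉ zpowers z →
      ∃ H ≤ A, Nat.card H = r ^ 2 ∧ IsMulCommutative H ∧ z ∈ H ∧ x ∈ H ∧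
        ∀ y ∈ H, ∃ i j : ℤ, y = z ^ i * x ^ j := by
    intro z hz hz1 hzc x hx hxz
    have hzx : Commute z x := hzc x hx
    have hxo : orderOf x = r := orderOf_eq_prime (hord x hx) fun e1 => hxz (e1 ▸ one_mem _)
    have hzo : orderOf z = r := orderOf_eq_prime (hord z hz) hz1
    have hcomm : ∀ (m : zpowers z) (n : zpowers x), Commute ((zpowers z).subtype m) ((zpowers x).subtype n) := by
      intro m n
      obtain ⟨i, hi⟩ := mem_zpowers_iff.1 m.2
      obtain ⟨j, hj⟩ := mem_zpowers_iff.1 n.2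
      show Commute (m : G) (n : G)
      exact hi ▸ hj ▸ hzx.zpow_zpow i j
    let f : zpowers z × zpowers x →* G := (zpowers z).subtype.noncommCoprod (zpowers x).subtype hcomm
    have hf : ∀ m n, f (m, n) = (m : G) * n := fun m n => rfl
    have hel : ∀ y ∈ f.range, ∃ i j : ℤ, y = z ^ i * x ^ j := by
      rintro _ ⟨⟨m, n⟩, rfl⟩
      obtain ⟨i, hi⟩ := mem_zpowers_iff.1 m.2
      obtain ⟨j, hj⟩ := mem_zpowers_iff.1 n.2
      exact ⟨i, j, by rw [hf, hi, hj]⟩
    have hdis : ∀ y, y ∈ zpowers z → y ∈ zpowers x → y = 1 := by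
      intro y hyz hyx
      by_contra hy1
      have e1 : zpowers y = zpowers x := eq_of_le_of_card_ge (zpowers_le.2 hyx) (by
        rw [Nat.card_zpowers, Nat.card_zpowers, hxo]
        rcases (Nat.dvd_prime hr).1 (hxo ▸ orderOf_dvd_of_mem_zpowers hyx) with h0 | h0
        · exact absurd (orderOf_eq_one_iff.1 h0) hy1
        · exact h0.ge)
      exact hxz (zpowers_le.2 hyz (e1.symm ▸ mem_zpowers x))
    have hinj : Function.Injective f := by
      rw [injective_iff_map_eq_one]
      rintro ⟨m, n⟩ hmn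
      rw [hf] at hmn
      have hm : (m : G) = (n : G)⁻¹ := eq_inv_of_mul_eq_one_left hmn
      have hm1 : (m : G) = 1 := hdis _ m.2 (hm ▸ inv_mem n.2)
      rw [hm1, one_mul] at hmn
      exact Prod.ext (Subtype.ext hm1) (Subtype.ext hmn)
    refine ⟨f.range, ?_, ?_, ?_, ?_, ?_, hel⟩
    · intro y hy
      obtain ⟨i, j, rfl⟩ := hel y hy
      exact A.mul_mem (zpow_mem hz i) (zpow_mem hx j)
    · rw [← Nat.card_congr (MonoidHom.ofInjective hinj).toEquiv, Nat.card_prod, Nat.card_zpowers,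
        Nat.card_zpowers, hxo, hzo, pow_two]
    · refine ⟨⟨fun y y' => Subtype.ext ?_⟩⟩
      obtain ⟨i, j, hy⟩ := hel y y.2
      obtain ⟨i', j', hy'⟩ := hel y' y'.2
      show (y : G) * y' = y' * y
      rw [hy, hy']
      exact (((Commute.refl z).zpow_zpow i i').mul_right (hzx.zpow_zpow i j')).mul_left
        (((hzx.symm.zpow_zpow j i').mul_right ((Commute.refl x).zpow_zpow j j')))
    · exact ⟨(⟨z, mem_zpowers z⟩, 1), by rw [hf]; simp⟩
    · exact ⟨(1, ⟨x, mem_zpowers x⟩), by rw [hf]; simp⟩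
  -- structure of `A`
  haveI : Nontrivial A := Finite.one_lt_card_iff_nontrivial.1 (hA ▸ Nat.one_lt_pow (by norm_num) hr.one_lt)
  haveI : Nontrivial (center A) := IsPGroup.center_nontrivial hAp
  have hder : ∀ z ∈ A, z ≠ 1 → (∀ a ∈ A, Commute z a) → ∀ a ∈ A, ∀ b ∈ A, ⁅a, b⁆ ∈ zpowers z := by
    intro z hz hz1 hzc a ha b hb
    let Z := (zpowers z).subgroupOf A
    haveI : Z.Normal := ⟨fun y hy g => by
      have hc : Commute (g : G) (y : G) := by
        obtain ⟨i, hi⟩ := mem_zpowers_iff.1 (mem_subgroupOf.1 hy)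
        exact hi ▸ ((hzc g g.2).symm.zpow_right i)
      have e1 : g * y * g⁻¹ = y := Subtype.ext (by
        show (g : G) * y * (g : G)⁻¹ = y
        rw [hc.eq, mul_inv_cancel_right])
      exact e1.symm ▸ hy⟩
    have hq2 : Nat.card (A ⧸ Z) = r ^ 2 := by
      have hcz := card_eq_card_quotient_mul_card_subgroup Z
      rw [hA, Nat.card_congr (subgroupOfEquivOfLe (zpowers_le.2 hz)).toEquiv, Nat.card_zpowers,
        orderOf_eq_prime (hord z hz) hz1, pow_succ] at hcz
      exact (mul_right_cancel₀ hr.ne_zero hcz).symm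
    have hcomm := (IsPGroup.isMulCommutative_of_card_eq_prime_sq hq2).is_comm.comm
    have h3 : ⁅(⟨a, ha⟩ : A), ⟨b, hb⟩⁆ ∈ Z := by
      rw [← QuotientGroup.eq_one_iff]
      show QuotientGroup.mk' Z _ = 1
      rw [map_commutatorElement, commutatorElement_eq_one_iff_mul_comm]
      exact hcomm _ _
    exact mem_subgroupOf.1 h3
  have plane : ∀ z ∈ A, z ≠ 1 → (∀ a ∈ A, Commute z a) → ∃ a ∈ A, ∃ b ∈ A, ⁅a, b⁆ ∈ zpowers z ∧
      ∀ x : G, (x = b ∨ ∃ t : ℕ, x = a * b ^ t) → x ∈ A ∧ x ∉ zpowers z := by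
    intro z hz hz1 hzc
    have hzo : orderOf z = r := orderOf_eq_prime (hord z hz) hz1
    have hzA : zpowers z ≤ A := zpowers_le.2 hz
    obtain ⟨b, hb, hbz⟩ : ∃ b ∈ A, b ∉ zpowers z := by
      by_contra hcon
      push Not at hcon
      have := Subgroup.card_le_of_le (show A ≤ zpowers z from hcon)
      rw [hA, Nat.card_zpowers, hzo] at this
      exact absurd this (not_le.2 (by simpa using Nat.pow_lt_pow_right hr.one_lt (by norm_num : 1 < 3)))
    obtain ⟨H, hH, hHc, -, hzH, hbH, -⟩ := mkH z hz hz1 hzc b hb hbz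
    obtain ⟨a, ha, haH⟩ : ∃ a ∈ A, a ∉ H := by
      by_contra hcon
      push Not at hcon
      have := Subgroup.card_le_of_le (show A ≤ H from hcon)
      rw [hA, hHc] at this
      exact absurd this (not_le.2 (Nat.pow_lt_pow_right hr.one_lt (by norm_num : 2 < 3)))
    refine ⟨a, ha, b, hb, ?_, fun x hx => ?_⟩
    · exact hder z hz hz1 hzc a ha b hb
    · rcases hx with rfl | ⟨t, rfl⟩
      · exact ⟨hb, hbz⟩
      · refine ⟨A.mul_mem ha (A.pow_mem hb t), fun hm => haH ?_⟩
        have := H.mul_mem (zpowers_le.2 hzH hm) (H.inv_mem (H.pow_mem hbH t))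
        rwa [mul_inv_cancel_right] at this
  by_cases hcase : ∃ z ∈ A, z ≠ 1 ∧ (∀ a ∈ A, Commute z a) ∧ ∃ v ∈ V, v ≠ 1 ∧ Commute z v
  · -- a central element with fixed points on `V`
    obtain ⟨z, hz, hz1, hzc, v₀, hv₀, hv₁, hzv⟩ := hcase
    set W := V ⊓ centralizer ({z} : Set G) with hW
    have hAW : A ≤ normalizer (W : Set G) :=
      (le_inf hAV fun a ha => le_normalizer (mem_centralizer_singleton_iff.2 (hzc a ha).eq.symm)).trans
        inf_normalizer_le_normalizer_inf
    obtain ⟨a, ha, b, hb, hab, hlines⟩ := plane z hz hz1 hzc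
    obtain ⟨x, hx, w, hw, hw1, hxw⟩ : ∃ x, (x ∈ A ∧ x ∉ zpowers z) ∧ ∃ w ∈ W, w ≠ 1 ∧ Commute x w := by
      by_contra hcon
      push Not at hcon
      haveI : Group.IsNilpotent W := (hV.to_le inf_le_left).isNilpotent
      have hbot := le_of_lines hr (K := W) (L := ⊥)
        (fun hd => hr.not_dvd_one (hcopV.coprime_dvd_left
          ((dvd_pow_self r (by norm_num : 3 ≠ 0)).trans hA.symm.dvd) ▸
            Nat.dvd_gcd dvd_rfl (hd.trans (card_dvd_of_le inf_le_left))))
        (hAW ha) (hAW hb) (hord a ha) (hord b hb) (fun k hk => by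
          obtain ⟨i, hi⟩ := mem_zpowers_iff.1 hab
          rw [← hi]
          exact Commute.zpow_left ((mem_centralizer_singleton_iff.1 hk.2).symm : Commute z k) i)
        (fun x hx w hw => by
          rw [mem_bot]
          by_contra hw1
          exact hcon x (hlines x hx) w hw.1 hw1 (mem_centralizer_singleton_iff.1 hw.2).symm)
      have hm : v₀ ∈ W := ⟨hv₀, mem_centralizer_singleton_iff.2 hzv.eq.symm⟩
      exact hv₁ (mem_bot.1 (hbot hm))
    obtain ⟨H, hH, hHc, hHcomm, hzH, hxH, hHel⟩ := mkH z hz hz1 hzc x hx.1 hx.2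
    have hHw : ∀ y ∈ H, Commute y w := fun y hy => by
      obtain ⟨i, j, rfl⟩ := hHel y hy
      exact (Commute.zpow_left ((mem_centralizer_singleton_iff.1 hw.2).symm : Commute z w) i).mul_left (hxw.zpow_left j)
    by_cases hHU : H ≤ centralizer (U : Set G)
    · refine ⟨z, hz, hz1, hbig z ?_, w, hw.1, hw1, hHw z hzH⟩
      have e1 : U ⊓ centralizer ({z} : Set G) = U := inf_eq_left.2 fun u hu =>
        mem_centralizer_singleton_iff.2 (mem_centralizer_iff.1 (hHU hzH) u hu)
      rw [e1]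
      exact h23.trans hUbig
    · obtain ⟨y, hy, hy1, hy3⟩ := moved H hH hHc hHcomm hHU
      exact ⟨y, hH hy, hy1, hbig y (h23.trans hy3), w, hw.1, hw1, hHw y hy⟩
  -- no central element has fixed points on `V`
  push Not at hcase
  obtain ⟨⟨⟨z, hz⟩, hzZ⟩, hz1'⟩ := exists_ne (1 : center A)
  have hz1 : z ≠ 1 := fun e1 => hz1' (Subtype.ext (Subtype.ext e1))
  have hzc : ∀ a ∈ A, Commute z a := fun a ha =>
    (congrArg Subtype.val (mem_center_iff.1 hzZ ⟨a, ha⟩)).symm
  have hnoncentral : ∀ x ∈ A, x ∉ zpowers z → ∃ v ∈ V, v ≠ 1 ∧ Commute x v := by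
    intro x hx hxz
    obtain ⟨H, hH, hHc, hHcomm, hzH, hxH, hHel⟩ := mkH z hz hz1 hzc x hx hxz
    obtain ⟨y, hy, hy1, v, hv, hv1, hyv⟩ := exists_fixed_of_pair h (V := V) (hHc ▸ dvd_rfl) (IsPGroup.of_card hHc)
      (hH.trans hAV) (hcopV.coprime_dvd_left (card_dvd_of_le hH)) hV0
    obtain ⟨i, j, rfl⟩ := hHel y hy
    -- the exponent of `x` is prime to `r`
    have hxo : orderOf x = r := orderOf_eq_prime (hord x hx) fun e1 => hxz (e1 ▸ one_mem _)
    have hzo : orderOf z = r := orderOf_eq_prime (hord z hz) hz1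
    have hj : ¬ (r : ℤ) ∣ j := fun hd => by
      have e1 : x ^ j = 1 := orderOf_dvd_iff_zpow_eq_one.1 (hxo ▸ hd)
      rw [e1, mul_one] at hyv hy1
      exact hcase (z ^ i) (zpow_mem hz i) hy1 (fun a ha => (hzc a ha).zpow_left i) v hv hv1 hyv
    obtain ⟨n, m, hnm⟩ : IsCoprime j (r : ℤ) :=
      ((Nat.prime_iff_prime_int.1 hr).coprime_iff_not_dvd.2 hj).symm
    have hzx : Commute z x := hzc x hx
    have hy' : Commute (z ^ (i * n) * x) v := by
      have e1 : (z ^ i * x ^ j) ^ n = z ^ (i * n) * x := by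
        have e2 : x ^ (j * n) = x := by
          rw [show j * n = 1 - m * (r : ℤ) by linarith, zpow_sub, zpow_one, mul_comm m, zpow_mul, zpow_natCast,
            hord x hx, one_zpow, inv_one, mul_one]
        rw [(hzx.zpow_zpow i j).mul_zpow, ← zpow_mul, ← zpow_mul, e2]
      exact e1 ▸ hyv.zpow_left n
    -- a conjugation moving `x` by `z ^ (i * n)`
    obtain ⟨y₀, hy₀, hyx⟩ : ∃ y ∈ A, ¬ Commute y x := by
      by_contra hcon
      push Not at hcon
      obtain ⟨a, ha, hafix⟩ : ∃ a ∈ A, a ∉ H := by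
        by_contra hcon2
        push Not at hcon2
        have := Subgroup.card_le_of_le (show A ≤ H from hcon2)
        rw [hA, hHc] at this
        exact absurd this (not_le.2 (Nat.pow_lt_pow_right hr.one_lt (by norm_num : 2 < 3)))
      -- then every element is central
      obtain ⟨y, hy, hy1, v', hv', hv1', hyv'⟩ := exists_fixed_of_pair h (V := V) (hHc ▸ dvd_rfl)
        (IsPGroup.of_card hHc) (hH.trans hAV) (hcopV.coprime_dvd_left (card_dvd_of_le hH)) hV0
      obtain ⟨i', j', rfl⟩ := hHel y hy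
      exact hcase (z ^ i' * x ^ j') (hH hy) hy1
        (fun a ha => ((hzc a ha).zpow_left i').mul_left ((hcon a ha).symm.zpow_left j')) v' hv' hv1' hyv'
    have hc : y₀ * x * y₀⁻¹ * x⁻¹ ∈ zpowers z := hder z hz hz1 hzc y₀ hy₀ x hx
    set c := y₀ * x * y₀⁻¹ * x⁻¹ with hcdef
    have hc1 : c ≠ 1 := fun e1 => hyx (mul_inv_eq_iff_eq_mul.1 (mul_inv_eq_one.1 e1))
    have hzc' : z ^ (i * n) ∈ zpowers c := by
      have hle : zpowers c = zpowers z := eq_of_le_of_card_ge (zpowers_le.2 hc) (by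
        rw [Nat.card_zpowers, Nat.card_zpowers, hzo]
        rcases (Nat.dvd_prime hr).1 (hzo ▸ orderOf_dvd_of_mem_zpowers hc) with h0 | h0
        · exact absurd (orderOf_eq_one_iff.1 h0) hc1
        · exact h0.ge)
      rw [hle]
      exact zpow_mem (mem_zpowers z) _
    obtain ⟨k, hk⟩ := (isOfFinOrder_of_finite c).mem_zpowers_iff_mem_range_orderOf.1 hzc' |> Finset.mem_image.1
    have hcy : Commute c y₀ := by
      obtain ⟨l, hl⟩ := mem_zpowers_iff.1 hc
      exact hl ▸ (hzc y₀ hy₀).zpow_left l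
    have hcx : ∀ k : ℕ, y₀ ^ k * x * (y₀ ^ k)⁻¹ = c ^ k * x := by
      intro k
      induction k with
      | zero => simp
      | succ k ih =>
        calc y₀ ^ (k + 1) * x * (y₀ ^ (k + 1))⁻¹ = y₀ * (y₀ ^ k * x * (y₀ ^ k)⁻¹) * y₀⁻¹ := by
              rw [pow_succ']; group
          _ = y₀ * c ^ k * x * y₀⁻¹ := by rw [ih]; group
          _ = c ^ k * (y₀ * x * y₀⁻¹) := by rw [← (hcy.pow_left k).eq]; group
          _ = c ^ (k + 1) * x := by rw [show y₀ * x * y₀⁻¹ = c * x by rw [hcdef]; group, pow_succ]; group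
    have hyk := A.pow_mem hy₀ k
    refine ⟨(y₀ ^ k)⁻¹ * v * (y₀ ^ k), (mem_normalizer_iff''.1 (hAV hyk) v).1 hv, ?_, ?_⟩
    · intro e1
      exact hv1 (by
        calc v = y₀ ^ k * ((y₀ ^ k)⁻¹ * v * (y₀ ^ k)) * (y₀ ^ k)⁻¹ := by group
          _ = 1 := by rw [e1]; group)
    · have e3 := hcx k
      rw [hk.2] at e3
      rw [← e3] at hy'
      show x * _ = _ * x
      have e4 := congrArg (fun g => (y₀ ^ k)⁻¹ * g * y₀ ^ k) hy'.eq
      simpa [mul_assoc] using e4
  set K := U ⊓ centralizer ({z} : Set G) with hKdef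
  by_cases hK : q ^ 2 ≤ Nat.card K
  · obtain ⟨a, ha, b, hb, hab, hlines⟩ := plane z hz hz1 hzc
    have hAK : A ≤ normalizer (K : Set G) :=
      (le_inf hAU fun a ha => le_normalizer (mem_centralizer_singleton_iff.2 (hzc a ha).eq.symm)).trans
        inf_normalizer_le_normalizer_inf
    obtain ⟨x, hx, hx2⟩ : ∃ x, (x ∈ A ∧ x ∉ zpowers z) ∧
        q ^ 2 ≤ Nat.card (U ⊓ centralizer ({x} : Set G) : Subgroup G) := by
      by_contra hcon
      push Not at hcon
      haveI : Group.IsNilpotent K := (hU.to_le inf_le_left).isNilpotent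
      have hKA : K ≤ centralizer (A : Set G) := by
        refine le_of_lines hr (fun hd => hr.not_dvd_one (hcopU.coprime_dvd_left
          ((dvd_pow_self r (by norm_num : 3 ≠ 0)).trans hA.symm.dvd) ▸
            Nat.dvd_gcd dvd_rfl (hd.trans (card_dvd_of_le inf_le_left)))) (hAK ha) (hAK hb) (hord a ha)
          (hord b hb) (fun k hk => by
            obtain ⟨i, hi⟩ := mem_zpowers_iff.1 hab
            rw [← hi]
            exact Commute.zpow_left ((mem_centralizer_singleton_iff.1 hk.2).symm : Commute z k) i) ?_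
        intro x hx
        refine le_centralizer_iff.1 fun e he => mem_centralizer_iff.2 fun k hk => ?_
        by_contra hne'
        have hlt := hcon x (hlines x hx)
        -- the fixed points of `x` in `K` have order at most `q`
        have hle : Nat.card (K ⊓ centralizer ({x} : Set G) : Subgroup G) ≤
            Nat.card (U ⊓ centralizer ({x} : Set G) : Subgroup G) :=
          Subgroup.card_le_of_le (inf_le_inf_right _ inf_le_left)
        obtain ⟨m, hm⟩ := IsPGroup.iff_card.1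
          (hU.to_le (inf_le_left.trans inf_le_left : K ⊓ centralizer ({x} : Set G) ≤ U))
        have hm1 : m ≤ 1 := by
          by_contra hcon2
          have := Nat.pow_le_pow_right hq.pos (show 2 ≤ m by omega)
          omega
        have hxA := (hlines x hx).1
        have hKz : ∀ k ∈ K, ∀ c ∈ zpowers z, Commute c k := fun k hk c hc => by
          obtain ⟨i, hi⟩ := mem_zpowers_iff.1 hc
          exact hi ▸ Commute.zpow_left ((mem_centralizer_singleton_iff.1 hk.2).symm : Commute z k) i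
        have hmove : ∀ g ∈ A, ∀ k ∈ K ⊓ centralizer ({x} : Set G), g * k * g⁻¹ ∈ K ⊓ centralizer ({x} : Set G) := by
          intro g hg k hk
          have hgk : g * k * g⁻¹ ∈ K := (mem_normalizer_iff.1 (hAK hg) k).1 hk.1
          refine ⟨hgk, mem_centralizer_singleton_iff.2 ?_⟩
          have h1 : Commute (g * x * g⁻¹) (g * k * g⁻¹) := Commute.conj_iff g |>.2
            (mem_centralizer_singleton_iff.1 hk.2).symm
          have h2 : Commute ⁅g, x⁆ (g * k * g⁻¹) := hKz _ hgk _ (hder z hz hz1 hzc g hg x hxA)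
          have h3 : x = ⁅g, x⁆⁻¹ * (g * x * g⁻¹) := by rw [commutatorElement_def]; group
          rw [h3]
          exact ((h2.inv_left).mul_left h1).eq.symm
        have hed : e ∈ normalizer ((K ⊓ centralizer ({x} : Set G) : Subgroup G) : Set G) := by
          refine mem_normalizer_iff.2 fun k => ⟨hmove e he k, fun hk => ?_⟩
          have := hmove e⁻¹ (A.inv_mem he) _ hk
          simpa [mul_assoc] using this
        have h4 := pow_three_le hrq.symm h1 h2 (hU.to_le (inf_le_left.trans inf_le_left))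
          (hord e he) hed fun hall => hne' (hall k hk).symm.eq
        rw [hm] at h4
        have h5 := Nat.pow_le_pow_right hq.pos hm1
        rw [pow_one] at h5
        have h6 : q < q ^ 3 := lt_self_pow₀ hq.one_lt (by norm_num)
        have h7 : 1 ≤ Nat.card ((K ⊓ centralizer ({x} : Set G)) ⊓ centralizer ({e} : Set G) : Subgroup G) :=
          Nat.card_pos
        nlinarith
      refine absurd hK (not_le.2 (lt_of_le_of_lt (Subgroup.card_le_of_le (le_inf inf_le_left fun k hk =>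
        mem_centralizer_singleton_iff.2 (mem_centralizer_iff.1 (hKA hk) a ha).symm)) ?_))
      exact hcon a (by simpa using hlines a (Or.inr ⟨0, by simp⟩))
    obtain ⟨v, hv, hv1, hc⟩ := hnoncentral x hx.1 hx.2
    exact ⟨x, hx.1, fun e1 => hx.2 (e1 ▸ one_mem _), hbig x hx2, v, hv, hv1, hc⟩
  · have hzU : ¬ ∀ u ∈ U, Commute z u := fun hall => hK (by
      have e1 : K = U := inf_eq_left.2 fun u hu => mem_centralizer_singleton_iff.2 (hall u hu).eq.symm
      rw [e1]; exact h23.trans hUbig)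
    obtain ⟨a, ha, b, hb, -, hlines⟩ := plane z hz hz1 hzc
    obtain ⟨H, hH, hHc, hHcomm, hzH, -, hHel⟩ := mkH z hz hz1 hzc b hb (hlines b (Or.inl rfl)).2
    obtain ⟨x, hx, hx1, hx3⟩ := moved H hH hHc hHcomm fun hle => hzU fun u hu =>
      (mem_centralizer_iff.1 (hle hzH) u hu).symm
    have hxz : x ∉ zpowers z := fun hm => hK (by
      have e1 : zpowers x = zpowers z := eq_of_le_of_card_ge (zpowers_le.2 hm) (by
        rw [Nat.card_zpowers, Nat.card_zpowers, orderOf_eq_prime (hord z hz) hz1,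
          orderOf_eq_prime (hord x (hH hx)) hx1])
      have e2 : K = U ⊓ centralizer ({x} : Set G) := by
        rw [hKdef, ← centralizer_closure, ← centralizer_closure (s := ({x} : Set G)),
          ← zpowers_eq_closure, ← zpowers_eq_closure, e1]
      rw [e2]; exact h23.trans hx3)
    obtain ⟨v, hv, hv1, hc⟩ := hnoncentral x (hH hx) hxz
    exact ⟨x, hH hx, hx1, hbig x (h23.trans hx3), v, hv, hv1, hc⟩

end Cfsg.Lib.Spec.JOneSq
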