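import Cfsg.Agent.Lib.Spec.JOneSquare.Double
import Cfsg.Agent.Lib.Spec.JOneSquare.CaseB
import Cfsg.Agent.Lib.Spec.JOneSquare.CaseNonsolvable
import Cfsg.Agent.Lib.Spec.JOneSquare.CaseSolvable

/-!
# The square of the first Janko group is recognizable by its element orders
-/

set_option autoImplicit false

namespace Cfsg.Lib.Spec.JOneSq

universe u

/-- A group with exactly the element orders of `J₁ × J₁` is that group. -/
theorem main {G : Type u} [Group G] [Finite G] (h : Le G) (hge : Ge G) :
    Nonempty (G ≃* ↥Spor.J1 × ↥Spor.J1) := by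
  rcases trichotomy h with hs | ⟨φ, hφ, hs⟩ | ⟨φ, hφ⟩
  · by_cases hsol : Group.IsSolvable G
    · exact (not_solvable_ge h hge).elim
    · exact (not_sep_nonsolvable h hge hs hsol).elim
  · exact (not_caseB h hge φ hφ hs).elim
  · exact double h φ hφ

end Cfsg.Lib.Spec.JOneSq
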