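import Cfsg.Agent.Lib.Spec.JOneSquare.JFacts

/-!
# Abelian groups on which the first Janko group acts
-/

set_option autoImplicit false
set_option linter.style.haveILetI false
set_option linter.unusedSectionVars false

namespace Cfsg.Lib.Spec.JOneSq

open Subgroup

universe u v

/-- The kernel of a norm along a Frobenius complement is centralized by the Frobenius kernel. -/
theorem frob_trivial {V : Type u} [CommGroup V] [Finite V] {K : Type v} [Group K] [Finite K] (φ : K →* MulAut V)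
    (S : Subgroup K) (y : K) (hnorm : ∀ s ∈ S, y * s * y⁻¹ ∈ S)
    (hfix : ∀ i, 0 < i → i < orderOf y → ∀ s ∈ S, Commute s (y ^ i) → s = 1)
    (hcop : (Nat.card V).Coprime (Nat.card S))
    (hN : ∀ v : V, ∏ i ∈ Finset.range (orderOf y), φ (y ^ i) v = 1) : ∀ s ∈ S, φ s = 1 := by
  classical
  intro s₀ hs₀
  apply MulEquiv.ext
  intro u
  show φ s₀ u = u
  haveI := Fintype.ofFinite S
  set v := φ s₀ u * u⁻¹ with hv
  have hprod : ∏ t : S, φ (t : K) v = 1 := by
    simp only [hv, map_mul, map_inv, Finset.prod_mul_distrib, Finset.prod_inv_distrib]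
    rw [mul_inv_eq_one]
    refine Fintype.prod_bijective (fun t => t * (⟨s₀, hs₀⟩ : S)) (Group.mulRight_bijective _) _ _ fun t => ?_
    rw [← MulAut.mul_apply, ← map_mul]
    rfl
  clear_value v
  set n := orderOf y with hn
  have hn0 : 0 < n := orderOf_pos y
  have hyi : ∀ (i : ℕ), ∀ s ∈ S, y ^ i * s * (y ^ i)⁻¹ ∈ S := by
    intro i
    induction i with
    | zero => intro s hs; simpa using hs
    | succ i ih => intro s hs; simpa [pow_succ', mul_assoc, mul_inv_rev] using hnorm _ (ih s hs)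
  have hw : ∀ s : S, ∏ i ∈ Finset.range n, φ ((s : K) * y ^ i * (s : K)⁻¹) v = 1 := by
    intro s
    have e : ∀ i, φ ((s : K) * y ^ i * (s : K)⁻¹) v = φ (s : K) (φ (y ^ i) (φ (s : K)⁻¹ v)) := fun i => by
      rw [map_mul, map_mul, MulAut.mul_apply, MulAut.mul_apply]
    simp only [e, ← map_prod, hN, map_one]
  have hi : ∀ i ∈ Finset.range n, i ≠ 0 → ∏ s : S, φ ((s : K) * y ^ i * (s : K)⁻¹) v = 1 := by
    intro i hip hi0
    let e : S → S := fun s => ⟨(s : K) * (y ^ i * (s : K)⁻¹ * (y ^ i)⁻¹), S.mul_mem s.2 (hyi i _ (S.inv_mem s.2))⟩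
    have hinj : Function.Injective e := by
      intro s t hst
      have h1 : (s : K) * (y ^ i * (s : K)⁻¹ * (y ^ i)⁻¹) = (t : K) * (y ^ i * (t : K)⁻¹ * (y ^ i)⁻¹) :=
        congrArg Subtype.val hst
      have h2 : Commute ((t : K)⁻¹ * (s : K)) (y ^ i) := by
        show _ * _ = _ * _
        have h3 := congrArg (fun a => (t : K)⁻¹ * a * (y ^ i) * (s : K)) h1
        simpa [mul_assoc] using h3
      exact Subtype.ext (inv_mul_eq_one.1 (hfix i (Nat.pos_of_ne_zero hi0) (Finset.mem_range.1 hip) _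
        (S.mul_mem (S.inv_mem t.2) s.2) h2)).symm
    let c : S → S := fun t => ⟨y ^ i * t * (y ^ i)⁻¹, hyi i _ t.2⟩
    have hcinj : Function.Injective c := fun a b hab =>
      Subtype.ext (mul_left_cancel (mul_right_cancel (congrArg Subtype.val hab)))
    rw [show (∏ s : S, φ ((s : K) * y ^ i * (s : K)⁻¹) v) = ∏ t : S, φ (t : K) (φ (y ^ i) v) from
      Fintype.prod_bijective e (Finite.injective_iff_bijective.1 hinj) _ _ fun s => by
        rw [← MulAut.mul_apply, ← map_mul]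
        congr 2
        show _ = (s : K) * (y ^ i * (s : K)⁻¹ * (y ^ i)⁻¹) * y ^ i
        group]
    rw [← (Fintype.prod_bijective c (Finite.injective_iff_bijective.1 hcinj)
      (fun t => φ (c t : K) (φ (y ^ i) v)) (fun t => φ (t : K) (φ (y ^ i) v)) fun _ => rfl)]
    have e2 : ∀ t : S, φ (c t : K) (φ (y ^ i) v) = φ (y ^ i) (φ (t : K) v) := fun t => by
      rw [← MulAut.mul_apply, ← map_mul, ← MulAut.mul_apply, ← map_mul]
      congr 2
      show y ^ i * (t : K) * (y ^ i)⁻¹ * y ^ i = _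
      group
    simp only [e2, ← map_prod, hprod, map_one]
  have h1 : ∏ i ∈ Finset.range n, ∏ s : S, φ ((s : K) * y ^ i * (s : K)⁻¹) v = 1 := by
    rw [Finset.prod_comm]; exact Finset.prod_eq_one fun s _ => hw s
  rw [Finset.prod_eq_single 0 hi (fun h0 => absurd (Finset.mem_range.2 hn0) h0)] at h1
  simp only [pow_zero, mul_one, mul_inv_cancel, map_one, MulAut.one_apply, Finset.prod_const,
    Finset.card_univ, ← Nat.card_eq_fintype_card] at h1
  have hv1 : v = 1 :=
    orderOf_eq_one_iff.1 (Nat.eq_one_of_dvd_coprimes hcop (orderOf_dvd_natCard v) (orderOf_dvd_of_pow_eq_one h1))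
  exact mul_inv_eq_one.1 (hv ▸ hv1)

/-- A Frobenius complement has a fixed point unless the Frobenius kernel acts trivially. -/
theorem frob_fixed {V : Type u} [CommGroup V] [Finite V] {K : Type v} [Group K] [Finite K] (φ : K →* MulAut V)
    (S : Subgroup K) (y : K) (hnorm : ∀ s ∈ S, y * s * y⁻¹ ∈ S)
    (hfix : ∀ i, 0 < i → i < orderOf y → ∀ s ∈ S, Commute s (y ^ i) → s = 1)
    (hcop : (Nat.card V).Coprime (Nat.card S)) (hyV : ∀ v, φ y v = v → v = 1) : ∀ s ∈ S, φ s = 1 := by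
  refine frob_trivial φ S y hnorm hfix hcop fun v => hyV _ ?_
  have h2 := (Finset.prod_range_succ' (fun i => φ (y ^ i) v) (orderOf y)).symm.trans
    (Finset.prod_range_succ (fun i => φ (y ^ i) v) (orderOf y))
  simp only [pow_orderOf_eq_one, pow_zero] at h2
  rw [map_prod]
  have e : ∀ i : ℕ, φ y (φ (y ^ i) v) = φ (y ^ (i + 1)) v := fun i => by
    rw [← MulAut.mul_apply, ← map_mul, ← pow_succ']
  simp only [e]
  exact mul_right_cancel h2

variable {V : Type u}

/-- A representation of the first Janko group with a nontrivial element in the kernel is trivial. -/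
theorem j_trivial [Group V] (ρ : ↥Spor.J1 →* MulAut V) {s : ↥Spor.J1} (hs : s ≠ 1) (h : ρ s = 1) : ρ = 1 := by
  haveI := simple_J1
  rcases IsSimpleGroup.eq_bot_or_eq_top_of_normal ρ.ker inferInstance with hk | hk
  · exact absurd (Subgroup.mem_bot.1 (hk ▸ (MonoidHom.mem_ker.2 h : s ∈ ρ.ker))) hs
  · exact MonoidHom.ext fun x => MonoidHom.mem_ker.1 (hk ▸ mem_top x)

variable [CommGroup V] [Finite V] [Nontrivial V] (ρ : ↥Spor.J1 →* MulAut V)

theorem exists_fixed_j {q m : ℕ} (hqm : q = 7 ∧ m = 6 ∨ q = 11 ∧ m = 10 ∨ q = 19 ∧ m = 6)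
    (hq : (Nat.card V).Coprime q) : ∃ h : ↥Spor.J1, orderOf h = m ∧ ∃ v : V, v ≠ 1 ∧ ρ h v = v := by
  haveI := finite_J1
  obtain ⟨y, h, hy, hh, hconj, hfpf⟩ := exists_frob hqm
  refine ⟨h, hh, ?_⟩
  by_contra hno
  push Not at hno
  have hy1 : y ≠ 1 := fun e => by
    rw [e, orderOf_one] at hy; omega
  have hqp : q.Prime := by rcases hqm with ⟨rfl, -⟩ | ⟨rfl, -⟩ | ⟨rfl, -⟩ <;> norm_num
  haveI := Fact.mk hqp
  have hρ : ρ = 1 := j_trivial ρ hy1 (frob_fixed ρ (zpowers y) h (fun s hs => by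
      obtain ⟨k, rfl⟩ := mem_zpowers_iff.1 hs
      rw [← conj_zpow]
      exact zpow_mem hconj k) (fun i hi him s hs hc => by
      by_contra hs1
      obtain ⟨k, hk⟩ := Subgroup.mem_zpowers_iff.1 hs
      have hgen : y ∈ zpowers s := by
        have hle : zpowers s = zpowers y := by
          refine eq_of_le_of_card_ge (zpowers_le.2 hs) ?_
          rw [Nat.card_zpowers, Nat.card_zpowers, hy]
          rcases (Nat.dvd_prime hqp).1 (hy ▸ (orderOf_dvd_of_mem_zpowers hs)) with h1 | h1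
          · exact absurd (orderOf_eq_one_iff.1 h1) hs1
          · exact h1.ge
        exact hle ▸ mem_zpowers y
      obtain ⟨j, rfl⟩ := mem_zpowers_iff.1 hgen
      exact hfpf i hi (hh ▸ him) (hc.zpow_left j))
    (by rwa [Nat.card_zpowers, hy]) (fun v hv => by
      by_contra hv1
      exact hno v hv1 hv) y (mem_zpowers y))
  obtain ⟨v, hv⟩ := exists_ne (1 : V)
  exact hno v hv (by rw [hρ]; rfl)

theorem exists_fixed_j7 (hodd : Odd (Nat.card V)) : ∃ h : ↥Spor.J1, orderOf h = 7 ∧ ∃ v : V, v ≠ 1 ∧ ρ h v = v := by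
  haveI := finite_J1
  obtain ⟨E, h, hE, hh, hconj, hfpf⟩ := exists_seven
  refine ⟨h, hh, ?_⟩
  by_contra hno
  push Not at hno
  haveI : Nontrivial E := Finite.one_lt_card_iff_nontrivial.1 (by omega)
  obtain ⟨s, hs⟩ := exists_ne (1 : E)
  have hρ : ρ = 1 := j_trivial ρ (fun e => hs (Subtype.ext e)) (frob_fixed ρ E h hconj
    (fun i hi him s hs hc => hfpf i hi (hh ▸ him) s hs hc)
    (by rw [hE, show (8 : ℕ) = 2 ^ 3 by norm_num]; exact (Nat.coprime_two_right.2 hodd).pow_right 3)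
    (fun v hv => by
      by_contra hv1
      exact hno v hv1 hv) s s.2)
  obtain ⟨v, hv⟩ := exists_ne (1 : V)
  exact hno v hv (by rw [hρ]; rfl)

/-- A module for the first Janko group on which the norms of the elements of order three or five vanish. -/
theorem j_trivial_of_norm {p : ℕ} (hp : p = 3 ∨ p = 5) (hV : (Nat.card V).Coprime 77)
    (hN : ∀ g : ↥Spor.J1, orderOf g = p → ∀ v : V, ∏ i ∈ Finset.range p, ρ (g ^ i) v = 1) : ρ = 1 := by
  haveI := finite_J1
  obtain ⟨q, m, hqm, hm, hq77⟩ : ∃ q m, (q = 7 ∧ m = 6 ∨ q = 11 ∧ m = 10 ∨ q = 19 ∧ m = 6) ∧ m = 2 * p ∧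
      q ∣ 77 := by
    rcases hp with rfl | rfl
    · exact ⟨7, 6, Or.inl ⟨rfl, rfl⟩, rfl, by norm_num⟩
    · exact ⟨11, 10, Or.inr (Or.inl ⟨rfl, rfl⟩), rfl, by norm_num⟩
  obtain ⟨y, h, hy, hh, hconj, hfpf⟩ := exists_frob hqm
  have hqp : q.Prime := by rcases hqm with ⟨rfl, -⟩ | ⟨rfl, -⟩ | ⟨rfl, -⟩ <;> norm_num
  haveI := Fact.mk hqp
  have hy1 : y ≠ 1 := fun e => hqp.one_lt.ne (by rw [← hy, e, orderOf_one])
  have hp0 : 0 < p := by omega
  have ho : orderOf (h ^ 2) = p := by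
    rw [orderOf_pow' _ two_ne_zero, hh, hm, Nat.gcd_mul_right_left]
    omega
  have hc2 : ∀ s ∈ zpowers y, h ^ 2 * s * (h ^ 2)⁻¹ ∈ zpowers y := by
    intro s hs
    obtain ⟨k, rfl⟩ := mem_zpowers_iff.1 hs
    have h1 : h * y * h⁻¹ ∈ zpowers y := hconj
    have h2 : h ^ 2 * y * (h ^ 2)⁻¹ ∈ zpowers y := by
      obtain ⟨j, hj⟩ := mem_zpowers_iff.1 h1
      rw [show h ^ 2 * y * (h ^ 2)⁻¹ = h * (h * y * h⁻¹) * h⁻¹ by simp only [pow_two, mul_inv_rev, mul_assoc], ← hj, ← conj_zpow]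
      exact zpow_mem h1 j
    rw [← conj_zpow]
    exact zpow_mem h2 k
  refine j_trivial ρ hy1 (frob_trivial ρ (zpowers y) (h ^ 2) hc2 (fun i hi him s hs hc => ?_)
    (by rw [Nat.card_zpowers, hy]; exact hV.coprime_dvd_right hq77) (fun v => by rw [ho]; exact hN _ ho v)
    y (mem_zpowers y))
  by_contra hs1
  have hle : zpowers s = zpowers y := by
    refine eq_of_le_of_card_ge (zpowers_le.2 hs) ?_
    rw [Nat.card_zpowers, Nat.card_zpowers, hy]
    rcases (Nat.dvd_prime hqp).1 (hy ▸ (orderOf_dvd_of_mem_zpowers hs)) with h1 | h1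
    · exact absurd (orderOf_eq_one_iff.1 h1) hs1
    · exact h1.ge
  obtain ⟨j, hj⟩ := mem_zpowers_iff.1 (hle ▸ mem_zpowers y : y ∈ zpowers s)
  rw [← pow_mul] at hc
  exact hfpf (2 * i) (by omega) (by rw [ho] at him; omega) (hj ▸ hc.zpow_left j)

end Cfsg.Lib.Spec.JOneSq
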