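import Cfsg.Agent.Lib.Spec.JOneSquare.CoreTools

/-!
# The solvable radical of a nonsolvable separable normal subgroup
-/

set_option autoImplicit false
set_option linter.style.haveILetI false
set_option linter.unusedSectionVars false

namespace Cfsg.Lib.Spec.JOneSq

open Subgroup Cfsg.Lib.Group.MinFactor

universe u v

variable {G : Type u} [Group G] [Finite G]

theorem Sep.of_equiv {X : Type u} {X' : Type v} [Group X] [Group X'] [Finite X] (h : Sep X) (f : X →* X')
    (hf : Function.Surjective f) : Sep X' :=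
  haveI := Fact.mk (by norm_num : Nat.Prime 7)
  haveI := Fact.mk (by norm_num : Nat.Prime 19)
  ⟨Core.isPSolvable_of_surjective f hf h.1, Core.isPSolvable_of_surjective f hf h.2⟩

theorem Sep.of_le {H K : Subgroup G} (h : Sep K) (hle : H ≤ K) : Sep H :=
  (h.subgroup (H.subgroupOf K)).of_equiv (subgroupOfEquivOfLe hle).toMonoidHom (subgroupOfEquivOfLe hle).surjective

/-- The first Janko group is not separable. -/
theorem not_sep_J1 : ¬ Sep ↥Spor.J1 := by
  intro h
  haveI := finite_J1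
  haveI := simple_J1
  haveI := Fact.mk (by norm_num : Nat.Prime 7)
  obtain ⟨W, hW⟩ := Core.exists_isMinNormal_univ (G := ↥Spor.J1)
  rcases IsSimpleGroup.eq_bot_or_eq_top_of_normal W hW.1 with hb | ht
  · exact hW.2.1 hb
  · rcases Core.minimal_normal_of_isPSolvable (h.1 : Cfsg.IsPSolvable 7 ↥Spor.J1) hW with h7 | h7
    · obtain ⟨k, hk⟩ := IsPGroup.iff_card.1 h7
      rw [ht, card_top, card_J1] at hk
      have h11 : 11 ∣ 7 ^ k := hk ▸ (by norm_num : (11 : ℕ) ∣ 175560)
      have := (Nat.prime_dvd_prime_iff_eq (by norm_num) (by norm_num)).1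
        ((by norm_num : Nat.Prime 11).dvd_of_dvd_pow h11)
      norm_num at this
    · rw [ht, card_top, card_J1] at h7
      norm_num at h7

theorem isSolvable_of_map {X : Subgroup G} (R : Subgroup G) [R.Normal] (hR : Group.IsSolvable R)
    (hX : Group.IsSolvable (X.map (QuotientGroup.mk' R))) : Group.IsSolvable X := by
  haveI := hR
  haveI := hX
  haveI : Group.IsSolvable (R.subgroupOf X) := by
    let g : ↥(R.subgroupOf X) →* ↥R :=
      ((X.subtype).comp (R.subgroupOf X).subtype).codRestrict R fun x => x.2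
    exact Group.isSolvable_of_isSolvable_injective (f := g) fun a b e => by
      have e0 := congrArg (fun t : R => (t : G)) e
      have e' : ((a : X) : G) = ((b : X) : G) := e0
      exact Subtype.ext (Subtype.ext e')
  refine Group.isSolvable_of_ker_le_range (R.subgroupOf X).subtype ((QuotientGroup.mk' R).subgroupMap X) ?_
  rw [range_subtype]
  intro x hx
  rw [mem_subgroupOf, ← QuotientGroup.eq_one_iff]
  exact congrArg Subtype.val hx

/-- The solvable radical, and nonsolvable subgroups centralized by the elements of order dividing 133 modulo it. -/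
theorem exists_radical (h : Le G) {N : Subgroup G} [hN : N.Normal] (hsep : Sep N) (hns : ¬ Group.IsSolvable N) :
    ∃ R : Subgroup G, R.Normal ∧ R ≤ N ∧ Group.IsSolvable R ∧
      (∀ W : Subgroup G, W.Normal → W ≤ N → Group.IsSolvable W → W ≤ R) ∧
      ∀ z : G, z ^ 133 = 1 → ∃ M₁ : Subgroup G, R ≤ M₁ ∧ M₁ ≤ N ∧ ¬ Group.IsSolvable M₁ ∧
        ∀ g ∈ M₁, z * g * z⁻¹ * g⁻¹ ∈ R := by
  classical
  haveI : Nonempty {R : Subgroup G // R.Normal ∧ R ≤ N ∧ Group.IsSolvable R} :=
    ⟨⟨⊥, inferInstance, bot_le, inferInstance⟩⟩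
  obtain ⟨⟨R, hRn, hRN, hRs⟩, hmax⟩ :=
    Finite.exists_max (fun R : {R : Subgroup G // R.Normal ∧ R ≤ N ∧ Group.IsSolvable R} => Nat.card R.1)
  haveI := hRn
  set f := QuotientGroup.mk' R with hf
  have hmax' : ∀ W : Subgroup G, W.Normal → W ≤ N → Group.IsSolvable W → W ≤ R := by
    intro W hW hWN hWs
    haveI := hW
    have hs : Group.IsSolvable (W ⊔ R : Subgroup G) := by
      refine isSolvable_of_map R hRs ?_
      rw [Subgroup.map_sup, (Subgroup.map_eq_bot_iff R).2 (QuotientGroup.ker_mk' R).ge, sup_bot_eq]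
      haveI := hWs
      exact Group.isSolvable_of_surjective ((QuotientGroup.mk' R).subgroupMap_surjective W)
    have := hmax ⟨W ⊔ R, inferInstance, sup_le hWN hRN, hs⟩
    exact le_sup_left.trans (eq_of_le_of_card_ge (le_sup_right : R ≤ W ⊔ R) this).ge
  refine ⟨R, hRn, hRN, hRs, hmax', fun z hz => ?_⟩
  have hNf : (N.map f).Normal := hN.map f (QuotientGroup.mk'_surjective R)
  have hne : N.map f ≠ ⊥ := by
    rw [Ne, Subgroup.map_eq_bot_iff, hf, QuotientGroup.ker_mk']
    intro hle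
    exact hns (Core.isSolvable_of_le hle hRs)
  obtain ⟨W, hW, hWN, hW0, hmin⟩ := exists_minimal_normal hNf hne
  haveI := hW
  have hWcomap : W.comap f ≤ N := by
    refine (comap_mono hWN).trans ?_
    rw [comap_map_eq, hf, QuotientGroup.ker_mk', sup_eq_left.2 hRN]
  have hnc : ¬ IsMulCommutative W := by
    intro hc
    haveI := hc
    have hs : Group.IsSolvable (W.comap f) := by
      refine isSolvable_of_map R hRs ?_
      rw [map_comap_eq_self_of_surjective (QuotientGroup.mk'_surjective R)]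
      exact Core.isSolvable_of_isMulCommutative W
    have hle := hmax' _ (hW.comap f) hWcomap hs
    refine hW0 (eq_bot_iff.2 ?_)
    calc W = (W.comap f).map f := (map_comap_eq_self_of_surjective (QuotientGroup.mk'_surjective R) _).symm
      _ ≤ R.map f := map_mono hle
      _ = ⊥ := by rw [Subgroup.map_eq_bot_iff, hf, QuotientGroup.ker_mk']
  obtain ⟨S, hS⟩ := exists_factor hW0
  have hJ : ¬ Spor.IsoJ1 S := by
    rintro ⟨e⟩
    have h1 : Sep (N.map f) := hsep.of_equiv (f.subgroupMap N) (f.subgroupMap_surjective N)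
    exact not_sep_J1 ((h1.of_le (hS.le.trans hWN)).of_equiv e.toMonoidHom e.surjective)
  obtain ⟨W₁, hW₁, hzW, hW₁s⟩ := exists_nonsolvable_fixed (h.quotient R) hmin hnc hS hJ (z := f z)
    (by rw [← map_pow, hz, map_one])
  refine ⟨W₁.comap f, fun x hx => ?_, (comap_mono hW₁).trans hWcomap, fun hs => hW₁s ?_, fun g hg => ?_⟩
  · rw [mem_comap, show f x = 1 from (QuotientGroup.eq_one_iff x).2 hx]; exact one_mem _
  · haveI := hs
    rw [← map_comap_eq_self_of_surjective (f := f) (QuotientGroup.mk'_surjective R) W₁]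
    exact Group.isSolvable_of_surjective (f.subgroupMap_surjective _)
  · rw [← QuotientGroup.ker_mk' R, MonoidHom.mem_ker, map_mul, map_mul, map_mul, map_inv, map_inv,
      (hzW _ hg).eq, mul_inv_cancel_right, mul_inv_cancel]

/-- The radical is divisible by the squares of seven and nineteen. -/
theorem sq_dvd_radical (h : Le G) (hex : ∃ z : G, orderOf z = 133) {R : Subgroup G} [R.Normal] [Group.IsSolvable R]
    (hrad : ∀ z : G, z ^ 133 = 1 → ∃ M₁ : Subgroup G, R ≤ M₁ ∧ ¬ Group.IsSolvable M₁ ∧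
      ∀ g ∈ M₁, z * g * z⁻¹ * g⁻¹ ∈ R) {r p : ℕ} (hrp : (r = 7 ∧ p = 19) ∨ (r = 19 ∧ p = 7)) :
    r ^ 2 ∣ Nat.card R := by
  classical
  by_contra hdvd
  have hr : Big r := by rcases hrp with ⟨rfl, -⟩ | ⟨rfl, -⟩ <;> simp [Big]
  have hp : Big p := by rcases hrp with ⟨-, rfl⟩ | ⟨-, rfl⟩ <;> simp [Big]
  haveI := Fact.mk hr.prime
  haveI := Fact.mk hp.prime
  have hrp' : r ≠ p := by omega
  have h133 : r * p = 133 := by rcases hrp with ⟨rfl, rfl⟩ | ⟨rfl, rfl⟩ <;> rfl
  obtain ⟨z, hz⟩ := hex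
  obtain ⟨M₁, hRM, hMns, hM⟩ := hrad z (hz ▸ pow_orderOf_eq_one z)
  set H := R ⊔ zpowers z with hH
  haveI : Group.IsSolvable H := by
    refine isSolvable_of_map R inferInstance ?_
    rw [hH, Subgroup.map_sup, (Subgroup.map_eq_bot_iff R).2 (QuotientGroup.ker_mk' R).ge, bot_sup_eq,
      MonoidHom.map_zpowers]
    infer_instance
  have hHcard : (Nat.card H).factorization r ≤ 2 := by
    have h1 := Coprime.RankTwo.card_eq_mul_map (QuotientGroup.mk' R) H
    rw [QuotientGroup.ker_mk', inf_eq_right.2 (le_sup_left : R ≤ H), hH, Subgroup.map_sup,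
      (Subgroup.map_eq_bot_iff R).2 (QuotientGroup.ker_mk' R).ge, bot_sup_eq, MonoidHom.map_zpowers,
      Nat.card_zpowers] at h1
    have h2 : orderOf (QuotientGroup.mk' R z) ∣ r * p := h133 ▸ hz ▸ orderOf_map_dvd _ z
    rw [h1, Nat.factorization_mul Nat.card_pos.ne' (orderOf_pos _).ne', Finsupp.add_apply]
    have h3 : (Nat.card R).factorization r ≤ 1 := by
      by_contra h3
      exact hdvd ((hr.prime.pow_dvd_iff_le_factorization Nat.card_pos.ne').2 (by omega))
    have h4 := (Nat.factorization_le_iff_dvd (orderOf_pos _).ne' (Nat.mul_ne_zero hr.prime.ne_zero hp.prime.ne_zero)).2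
      h2 r
    rw [Nat.factorization_mul hr.prime.ne_zero hp.prime.ne_zero, Finsupp.add_apply, hr.prime.factorization_self,
      Nat.factorization_eq_zero_of_not_dvd (fun hd => hrp' ((Nat.prime_dvd_prime_iff_eq hr.prime hp.prime).1 hd))]
      at h4
    omega
  have hMH : M₁ ≤ normalizer (H : Set G) := by
    intro g hg
    refine mem_normalizer_iff_map_conj_eq.2 (eq_of_le_of_card_ge ?_ (Coprime.card_map_conj _ _).ge)
    rw [hH, Subgroup.map_sup, MonoidHom.map_zpowers]
    refine sup_le (le_sup_of_le_left ?_) (zpowers_le.2 ?_)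
    · rintro _ ⟨x, hx, rfl⟩
      exact (inferInstance : R.Normal).conj_mem x hx g
    · show g * z * g⁻¹ ∈ _
      rw [show g * z * g⁻¹ = (z * g * z⁻¹ * g⁻¹)⁻¹ * z by group]
      exact mul_mem (mem_sup_left (inv_mem (hM g hg))) (mem_sup_right (mem_zpowers z))
  set b := z ^ p with hb
  have hbo : orderOf b = r := by
    rw [hb, orderOf_pow' _ hp.prime.ne_zero, hz, ← h133, Nat.gcd_mul_left_left, Nat.mul_div_cancel _ hp.prime.pos]
  set a := z ^ r with ha
  have hao : orderOf a = p := by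
    rw [ha, orderOf_pow' _ hr.prime.ne_zero, hz, ← h133, Nat.gcd_mul_right_left, Nat.mul_div_cancel_left _ hr.prime.pos]
  have hzH : z ∈ H := mem_sup_right (mem_zpowers z)
  have hbH : b ∈ H := H.pow_mem hzH p
  obtain ⟨P, hP⟩ := (show IsPGroup r (zpowers (⟨b, hbH⟩ : H)) from IsPGroup.of_card (n := 1)
    (by rw [Nat.card_zpowers, Subgroup.orderOf_mk, hbo, pow_one])).exists_le_sylow
  set S := (P : Subgroup H).map H.subtype
  have hbS : b ∈ S := ⟨⟨b, hbH⟩, hP (mem_zpowers _), rfl⟩
  have hScard : Nat.card S ∣ r ^ 2 := by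
    rw [card_map_of_injective H.subtype_injective, P.card_eq_multiplicity]
    exact pow_dvd_pow r hHcard
  have hC : M₁ ⊔ H ≤ normalizer (H : Set G) := sup_le hMH le_normalizer
  obtain ⟨D, hD, hDp, hD0⟩ := exists_perfect_normalizer (C := M₁ ⊔ H) (H := H) le_sup_right hC
    (fun hs => hMns (Core.isSolvable_of_le le_sup_left hs)) P
  have hDb : ∀ d ∈ D, Commute d b := fun d hd =>
    (mem_centralizer_iff.1 (le_centralizer_of_small h hDp (hD.trans inf_le_right) hr.prime hr.ne_two hScard hd)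
      b hbS).symm
  -- second step
  set Hb := H ⊓ centralizer ({b} : Set G) with hHb
  haveI : Group.IsSolvable Hb := Core.isSolvable_of_le inf_le_left inferInstance
  have haHb : a ∈ Hb := ⟨H.pow_mem hzH r, mem_centralizer_singleton_iff.2 ((Commute.refl z).pow_pow r p).eq⟩
  set C' := D ⊔ Hb with hC'
  have hC'b : C' ≤ centralizer ({b} : Set G) :=
    sup_le (fun d hd => mem_centralizer_singleton_iff.2 (hDb d hd).eq) inf_le_right
  have hC'N : C' ≤ normalizer (Hb : Set G) := sup_le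
    ((le_inf ((hD.trans inf_le_left).trans hC)
      (fun d hd => le_normalizer (mem_centralizer_singleton_iff.2 (hDb d hd).eq))).trans
        inf_normalizer_le_normalizer_inf) le_normalizer
  obtain ⟨P₂⟩ : Nonempty (Sylow p Hb) := inferInstance
  have hDns : ¬ Group.IsSolvable C' := by
    intro hs
    have hDs : Group.IsSolvable D := Core.isSolvable_of_le le_sup_left hs
    haveI := hDs
    haveI : Nontrivial D := (nontrivial_iff_ne_bot D).2 hD0
    exact (Group.IsSolvable.commutator_lt_top_of_nontrivial (G := D)).ne (commutator_eq_top_of_self hDp)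
  obtain ⟨D₂, hD₂, hD₂p, hD₂0⟩ := exists_perfect_normalizer (C := C') (H := Hb) le_sup_right hC'N hDns P₂
  obtain ⟨d, hd, hd1⟩ := (ne_bot_iff_exists_ne_one.1 hD₂0 : ∃ d : D₂, d ≠ 1) |>
    fun ⟨d, hd1⟩ => (⟨d, d.2, fun e => hd1 (Subtype.ext e)⟩ : ∃ d ∈ D₂, d ≠ 1)
  obtain ⟨x, hx, hx2, hx1⟩ := exists_invol_notin h hD₂p (MonoidHom.id G) ⟨d, hd, hd1⟩
  set V := (P₂ : Subgroup Hb).map Hb.subtype
  have hVp : IsPGroup p V := P₂.2.map _
  have hVne : V ≠ ⊥ := by
    intro e
    have hd' : p ∣ Nat.card (P₂ : Subgroup Hb) := P₂.dvd_card_of_dvd_card (hao ▸ by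
      rw [← Subgroup.orderOf_mk a haHb]; exact _root_.orderOf_dvd_natCard _)
    rw [← card_map_of_injective Hb.subtype_injective, show Subgroup.map Hb.subtype ↑P₂ = ⊥ from e, card_bot] at hd'
    exact hp.prime.not_dvd_one hd'
  have hVodd : Odd (Nat.card V) := by
    obtain ⟨k, hk⟩ := IsPGroup.iff_card.1 hVp
    rw [hk]; exact (hp.prime.odd_of_ne_two hp.ne_two).pow
  obtain ⟨v, hv, hv1, hxv⟩ := exists_fixed h hD₂p (hD₂.trans inf_le_right) hVodd hVne hx hx2
  have hxo : orderOf x = 2 := orderOf_eq_prime (by rw [pow_two, hx2]) hx1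
  exact h.no_three hr hp Nat.prime_two hrp' hr.ne_two hp.ne_two hbo.symm.dvd
    (h.orderOf_of_mem hVp hv hv1).symm.dvd hxo.symm.dvd
    (mem_centralizer_singleton_iff.1 ((map_subtype_le _ hv : v ∈ Hb).2)).symm
    (mem_centralizer_singleton_iff.1 (hC'b ((hD₂.trans inf_le_left) hx))).symm hxv.symm

/-- A Hall subgroup of the radical for seven and nineteen. -/
theorem exists_hall_perfect (h : Le G) {R : Subgroup G} [hRn : R.Normal] [Group.IsSolvable R] {M₁ : Subgroup G}
    (hRM : R ≤ M₁) (hns : ¬ Group.IsSolvable M₁) :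
    ∃ T ≤ R, (∀ q : ℕ, q.Prime → q ∣ Nat.card T → q = 7 ∨ q = 19) ∧
      (∀ W : Subgroup G, W.Normal → W ≤ R → (∀ q : ℕ, q.Prime → q ∣ Nat.card W → q = 7 ∨ q = 19) → W ≤ T) ∧
      (∀ q k : ℕ, (q = 7 ∨ q = 19) → q ^ k ∣ Nat.card R → q ^ k ∣ Nat.card T) ∧
      (∀ {Q : Type} [Group Q] (φ : G →* Q), R ≤ φ.ker → (normalizer (T : Set G)).map φ = φ.range) ∧
      ∃ D ≤ M₁ ⊓ normalizer (T : Set G), ⁅D, D⁆ = D ∧ D ≠ ⊥ := by
  obtain ⟨T₀, hT₀⟩ := Solv.exists_isPiHall ({7, 19} : Set ℕ) R
  refine ⟨T₀.map R.subtype, map_subtype_le _, fun q hq hqd => ?_, fun W hW hWR hWπ => ?_, fun q k hq hqk => ?_,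
    fun φ hφ => ?_, exists_perfect_hall hRM le_normalizer_of_normal hns hT₀⟩
  · rw [card_map_of_injective R.subtype_injective] at hqd
    simpa using hT₀.1 q hq hqd
  · haveI := hW
    haveI : (W.subgroupOf R).Normal := hW.subgroupOf R
    rw [← map_subgroupOf_eq_of_le hWR]
    refine map_mono (le_hall hT₀ fun q hq hqd => ?_)
    rw [Nat.card_congr (subgroupOfEquivOfLe hWR).toEquiv] at hqd
    simpa using hWπ q hq hqd
  · rw [card_map_of_injective R.subtype_injective]
    have hqp : q.Prime := by rcases hq with rfl | rfl <;> norm_num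
    rw [← T₀.card_mul_index] at hqk
    exact (Nat.Coprime.pow_left k (hqp.coprime_iff_not_dvd.2 (hT₀.2 q hqp (by rcases hq with rfl | rfl <;> simp)))).dvd_of_dvd_mul_right hqk
  · rw [MonoidHom.range_eq_map, ← map_inf_normalizer_hall φ (C := ⊤) (H := R) hφ le_top
      le_normalizer_of_normal hT₀, top_inf_eq]

end Cfsg.Lib.Spec.JOneSq
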