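import Cfsg.Agent.Lib.Spec.JOneSquare.Simple
import Cfsg.Agent.Lib.Spec.JOneSquare.JFacts
import Cfsg.Agent.Lib.Group.MinimalNormalFactor

/-!
# Minimal normal subgroups, and the homomorphisms onto the first Janko group
-/

set_option autoImplicit false
set_option linter.style.haveILetI false
set_option linter.unusedSectionVars false

namespace Cfsg.Lib.Spec.JOneSq

open Subgroup Cfsg.Lib.Group.MinFactor

universe u

/-- An automorphism of order seven or nineteen of a simple group of order 60 or 660 is trivial. -/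
theorem aut_trivial {T : Type u} [Group T] [Finite T] [IsSimpleGroup T]
    (hT : Nat.card T = 60 ∨ Nat.card T = 660) {p : ℕ} (hp : p = 7 ∨ p = 19) (φ : MulAut T) (hφ : φ ^ p = 1) :
    φ = 1 := by
  classical
  obtain ⟨l, hl, hcase⟩ : ∃ l, (l = 5 ∨ l = 11) ∧ (Nat.card T = 60 ∧ l = 5 ∨ Nat.card T = 660 ∧ l = 11) := by
    rcases hT with h | h
    · exact ⟨5, Or.inl rfl, Or.inl ⟨h, rfl⟩⟩
    · exact ⟨11, Or.inr rfl, Or.inr ⟨h, rfl⟩⟩
  have hlp : l.Prime := by rcases hl with rfl | rfl <;> norm_num
  have hpp : p.Prime := by rcases hp with rfl | rfl <;> norm_num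
  haveI := Fact.mk hlp
  haveI := Fact.mk hpp
  -- the Sylow subgroups
  have hY : ∀ P : Sylow l T, Nat.card (P : Subgroup T) = l := by
    intro P
    rw [P.card_eq_multiplicity]
    rcases hcase with ⟨h, rfl⟩ | ⟨h, rfl⟩ <;> rw [h]
    · rw [show (60 : ℕ) = 5 ^ 1 * 12 by norm_num, Nat.factorization_mul (by norm_num) (by norm_num),
        Finsupp.add_apply, Nat.prime_five.factorization_pow, Finsupp.single_eq_same,
        Nat.factorization_eq_zero_of_not_dvd (by norm_num : ¬ 5 ∣ 12)]
      rfl
    · rw [show (660 : ℕ) = 11 ^ 1 * 60 by norm_num, Nat.factorization_mul (by norm_num) (by norm_num),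
        Finsupp.add_apply, (by norm_num : Nat.Prime 11).factorization_pow, Finsupp.single_eq_same,
        Nat.factorization_eq_zero_of_not_dvd (by norm_num : ¬ 11 ∣ 60)]
      rfl
  have hn : Nat.card (Sylow l T) = l + 1 := by
    obtain ⟨P⟩ : Nonempty (Sylow l T) := inferInstance
    have h1 := P.card_dvd_index
    have h2 := card_sylow_modEq_one l T
    have h3 : (P : Subgroup T).index = Nat.card T / l := by
      have := (P : Subgroup T).card_mul_index
      rw [hY P] at this
      exact (Nat.div_eq_of_eq_mul_right hlp.pos this.symm).symm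
    have hne : Nat.card (Sylow l T) ≠ 1 := by
      intro he
      haveI := (Nat.card_eq_one_iff_unique.1 he).1
      have hn : (P : Subgroup T).Normal := Sylow.normal_of_subsingleton P
      rcases IsSimpleGroup.eq_bot_or_eq_top_of_normal _ hn with h | h
      · have := hY P; rw [h, card_bot] at this; exact hlp.ne_one this.symm
      · have := hY P
        rw [h, card_top] at this
        rcases hl with rfl | rfl <;> omega
    rw [h3] at h1
    have hm : Nat.card (Sylow l T) ∈ (Nat.card T / l).divisors :=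
      Nat.mem_divisors.2 ⟨h1, by rcases hcase with ⟨h, rfl⟩ | ⟨h, rfl⟩ <;> rw [h] <;> norm_num⟩
    rcases hcase with ⟨h, rfl⟩ | ⟨h, rfl⟩ <;> rw [h] at hm
    · exact (by decide +kernel : ∀ n ∈ (60 / 5).divisors, n % 5 = 1 % 5 → n ≠ 1 → n = 5 + 1) _ hm h2 hne
    · exact (by decide +kernel : ∀ n ∈ (660 / 11).divisors, n % 11 = 1 % 11 → n ≠ 1 → n = 11 + 1) _ hm h2 hne
  letI : MulAction (zpowers φ) (Sylow l T) := MulAction.compHom _ (zpowers φ).subtype
  letI : MulAction (zpowers φ) T := MulAction.compHom _ (zpowers φ).subtype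
  have hZ : IsPGroup p (zpowers φ) := by
    rcases (Nat.dvd_prime hpp).1 (orderOf_dvd_of_pow_eq_one hφ) with h0 | h0
    · exact IsPGroup.of_card (n := 0) (by rw [Nat.card_zpowers, h0, pow_zero])
    · exact IsPGroup.of_card (n := 1) (by rw [Nat.card_zpowers, h0, pow_one])
  let C : Subgroup T :=
    { carrier := {x | φ x = x}
      mul_mem' := fun {a b} ha hb => by simp only [Set.mem_setOf_eq] at ha hb ⊢; rw [map_mul, ha, hb]
      one_mem' := map_one φ
      inv_mem' := fun {a} ha => by simp only [Set.mem_setOf_eq] at ha ⊢; rw [map_inv, ha] }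
  -- an invariant Sylow subgroup is centralized
  have hfixY : ∀ P : Sylow l T, P ∈ MulAction.fixedPoints (zpowers φ) (Sylow l T) → (P : Subgroup T) ≤ C := by
    intro P hP
    have hinv : ∀ (k : zpowers φ), ∀ x ∈ (P : Subgroup T), (k : MulAut T) x ∈ (P : Subgroup T) := by
      intro k x hx
      have h1 : ((k : MulAut T) • P : Sylow l T) = P := hP k
      rw [← h1]
      exact ⟨x, hx, rfl⟩
    letI : MulAction (zpowers φ) (P : Subgroup T) :=
      { smul := fun k x => ⟨(k : MulAut T) x, hinv k x x.2⟩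
        one_smul := fun x => Subtype.ext rfl
        mul_smul := fun a b x => Subtype.ext rfl }
    have hmod := hZ.card_modEq_card_fixedPoints (P : Subgroup T)
    have hsub : Nat.card (MulAction.fixedPoints (zpowers φ) (P : Subgroup T)) =
        Nat.card ((P : Subgroup T) ⊓ C : Subgroup T) := by
      refine Nat.card_congr
        { toFun := fun v => ⟨(v.1 : T), v.1.2, congrArg Subtype.val (v.2 ⟨φ, mem_zpowers φ⟩)⟩
          invFun := fun v => ⟨⟨(v : T), v.2.1⟩, fun k => Subtype.ext ?_⟩
          left_inv := fun v => rfl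
          right_inv := fun v => rfl }
      obtain ⟨j, hj⟩ := mem_zpowers_iff.1 k.2
      show (k : MulAut T) (v : T) = v
      rw [← hj]
      exact Subgroup.zpow_mem (MulAction.stabilizer (MulAut T) (v : T)) (show φ (v : T) = v from v.2.2) j
    rw [hsub, hY P] at hmod
    have hdvd := card_dvd_of_le (inf_le_left : (P : Subgroup T) ⊓ C ≤ P)
    rw [hY P] at hdvd
    rcases (Nat.dvd_prime hlp).1 hdvd with h | h
    · rw [h, Nat.ModEq] at hmod
      rcases hl with rfl | rfl <;> rcases hp with rfl | rfl <;> norm_num at hmod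
    · exact inf_eq_left.1 (eq_of_le_of_card_ge inf_le_left (by rw [h, hY P]))
  -- two of them are invariant
  have hfix2 : 2 ≤ Nat.card (MulAction.fixedPoints (zpowers φ) (Sylow l T)) := by
    have hmod := hZ.card_modEq_card_fixedPoints (Sylow l T)
    rw [hn, Nat.ModEq] at hmod
    rcases hl with rfl | rfl <;> rcases hp with rfl | rfl <;> omega
  haveI : Nontrivial (MulAction.fixedPoints (zpowers φ) (Sylow l T)) := Finite.one_lt_card_iff_nontrivial.1 hfix2
  obtain ⟨⟨P, hP⟩, ⟨Q, hQ⟩, hne⟩ := exists_pair_ne (MulAction.fixedPoints (zpowers φ) (Sylow l T))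
  have hPQ : P ≠ Q := fun e => hne (Subtype.ext e)
  -- every Sylow subgroup lies in `C`
  let X : Set (Sylow l T) := {R | (R : Subgroup T) ≤ C}
  letI : MulAction (P : Subgroup T) X :=
    { smul := fun g R => ⟨(g : T) • (R.1 : Sylow l T), by
        rintro _ ⟨y, hy, rfl⟩
        exact C.mul_mem (C.mul_mem (hfixY P hP g.2) (R.2 hy)) (C.inv_mem (hfixY P hP g.2))⟩
      one_smul := fun R => Subtype.ext (one_smul T R.1)
      mul_smul := fun a b R => Subtype.ext (mul_smul (a : T) (b : T) R.1) }
  have hX : X = Set.univ := by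
    have hfixP : ∀ R : X, R ∈ MulAction.fixedPoints (P : Subgroup T) X → R.1 = P := by
      intro R hR
      have hle : (P : Subgroup T) ≤ normalizer ((R.1 : Subgroup T) : Set T) := fun g hg =>
        Sylow.smul_eq_iff_mem_normalizer.1 (congrArg Subtype.val (hR ⟨g, hg⟩))
      exact Sylow.ext (eq_of_le_of_card_ge ((le_inf le_rfl hle).trans
        ((IsPGroup.inf_normalizer_sylow P.2 R.1).le.trans inf_le_right)) (by rw [hY, hY])).symm
    have hPX : (⟨P, hfixY P hP⟩ : X) ∈ MulAction.fixedPoints (P : Subgroup T) X := fun g =>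
      Subtype.ext (Sylow.smul_eq_iff_mem_normalizer.2 (le_normalizer g.2))
    have h1 : Nat.card (MulAction.fixedPoints (P : Subgroup T) X) = 1 :=
      Nat.card_eq_one_iff_unique.2 ⟨⟨fun a b => Subtype.ext (Subtype.ext
        ((hfixP _ a.2).trans (hfixP _ b.2).symm))⟩, ⟨⟨_, hPX⟩⟩⟩
    have hmod := P.2.card_modEq_card_fixedPoints X
    rw [h1] at hmod
    have h2 : 2 ≤ Nat.card X := by
      haveI : Nontrivial X := ⟨⟨⟨P, hfixY P hP⟩, ⟨Q, hfixY Q hQ⟩, fun e => hPQ (congrArg Subtype.val e)⟩⟩
      exact Finite.one_lt_card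
    have h3 : Nat.card X ≤ l + 1 := hn ▸ Nat.card_le_card_of_injective _ Subtype.val_injective
    have h4 : Nat.card X = l + 1 := by
      rw [Nat.ModEq, Nat.one_mod_eq_one.2 hlp.ne_one] at hmod
      have := Nat.mod_add_div (Nat.card X) l
      rcases Nat.lt_or_ge (Nat.card X) (l + 1) with h | h
      · exfalso
        rcases Nat.lt_or_ge (Nat.card X) l with h' | h'
        · rw [Nat.mod_eq_of_lt h'] at hmod; omega
        · rw [show Nat.card X = l by omega, Nat.mod_self] at hmod; omega
      · omega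
    refine Set.eq_univ_iff_forall.2 fun R => ?_
    have hb : Function.Bijective (Subtype.val : X → Sylow l T) :=
      (Nat.bijective_iff_injective_and_card _).2 ⟨Subtype.val_injective, by rw [h4, hn]⟩
    obtain ⟨⟨R', hR'⟩, rfl⟩ := hb.2 R
    exact hR'
  have hnc : normalClosure ((P : Subgroup T) : Set T) ≤ C := by
    rw [normalClosure, closure_le]
    rintro x hx
    obtain ⟨y, hy, hxy⟩ := Group.mem_conjugatesOfSet_iff.1 hx
    obtain ⟨g, rfl⟩ := isConj_iff.1 hxy
    exact (show ((g • P : Sylow l T) : Subgroup T) ≤ C from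
      show g • P ∈ X from hX ▸ Set.mem_univ _) ⟨y, hy, rfl⟩
  have htop : normalClosure ((P : Subgroup T) : Set T) = ⊤ := by
    refine (IsSimpleGroup.eq_bot_or_eq_top_of_normal _ inferInstance).resolve_left fun h => ?_
    have h5 := hY P
    have hb : (P : Subgroup T) = ⊥ := eq_bot_iff.2 fun x hx =>
      h ▸ (subset_normalClosure (s := ((P : Subgroup T) : Set T)) hx)
    rw [hb, card_bot] at h5
    exact hlp.ne_one h5.symm
  exact MulEquiv.ext fun x => hnc (htop ▸ mem_top x)

/-- An automorphism of order dividing 133 of a simple group of order 60 or 660 is trivial. -/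
theorem aut_trivial' {T : Type u} [Group T] [Finite T] [IsSimpleGroup T]
    (hT : Nat.card T = 60 ∨ Nat.card T = 660) (φ : MulAut T) (hφ : φ ^ 133 = 1) : φ = 1 := by
  have h1 : φ ^ 19 = 1 := aut_trivial hT (Or.inl rfl) _ (by rw [← pow_mul]; exact hφ)
  exact aut_trivial hT (Or.inr rfl) φ h1

variable {G : Type u} [Group G] [Finite G] {N S : Subgroup G}

theorem not_comm_of_ne_bot (hnc : ¬ IsMulCommutative N) : N ≠ ⊥ := fun h => hnc (h ▸ inferInstance)

/-- The factors of a nonabelian minimal normal subgroup are simple. -/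
theorem factor_simple [hN : N.Normal] (hmin : ∀ M : Subgroup G, M.Normal → M ≤ N → M ≠ ⊥ → M = N)
    (hnc : ¬ IsMulCommutative N) (hS : Factor N S) : IsSimpleGroup S ∧ ¬ IsMulCommutative S := by
  haveI := (nontrivial_iff_ne_bot S).2 hS.ne
  refine ⟨⟨fun R hR => ?_⟩, fun hc => hS.ne ?_⟩
  · by_cases hb : R = ⊥
    · exact Or.inl hb
    refine Or.inr ?_
    have h1 : R.map S.subtype = S := by
      refine hS.min _ (map_subtype_le R) ?_ (fun h => hb (map_injective S.subtype_injective (h.trans (Subgroup.map_bot _).symm)))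
      intro n hn r hr
      obtain ⟨r, hr, rfl⟩ := hr
      obtain ⟨s, hs, c, hc, rfl⟩ : ∃ s ∈ S, ∃ c ∈ N ⊓ centralizer (S : Set G), n = s * c := by
        have hle : N ⊓ centralizer (S : Set G) ≤ normalizer (S : Set G) :=
          inf_le_right.trans (centralizer_le_normalizer _)
        rw [← hS.sup_centralizer hmin] at hn
        obtain ⟨s, hs, c, hc, he⟩ := Cfsg.Lib.Coprime.exists_mul_of_mem_sup hle hn
        exact ⟨s, hs, c, hc, he⟩
      refine ⟨⟨s, hs⟩ * r * ⟨s, hs⟩⁻¹, hR.conj_mem r hr _, ?_⟩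
      have hcr := mem_centralizer_iff.1 hc.2 (r : G) r.2
      simp only [Subgroup.coe_subtype, Subgroup.coe_mul, Subgroup.coe_inv]
      calc s * (r : G) * s⁻¹ = s * ((r : G) * c * c⁻¹) * s⁻¹ := by group
        _ = s * (c * r * c⁻¹) * s⁻¹ := by rw [hcr]
        _ = s * c * r * (s * c)⁻¹ := by group
    rw [← (map_injective S.subtype_injective).eq_iff, h1, ← MonoidHom.range_eq_map, range_subtype]
  · rw [eq_bot_iff, ← hS.inf_centralizer hmin hnc]
    exact fun s hs => ⟨hs, mem_centralizer_iff.2 fun t ht => congrArg Subtype.val (hc.is_comm.comm ⟨t, ht⟩ ⟨s, hs⟩)⟩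

theorem eq_conj_of_factor [hN : N.Normal] (hmin : ∀ M : Subgroup G, M.Normal → M ≤ N → M ≠ ⊥ → M = N)
    (hnc : ¬ IsMulCommutative N) (hS : Factor N S) {T : Subgroup G} (hT : Factor N T) :
    ∃ g : G, S.map (MulAut.conj g).toMonoidHom = T := by
  by_contra hne
  push Not at hne
  have h : T ≤ N ⊓ centralizer (N : Set G) := fun t ht => by
    refine ⟨hT.le ht, ?_⟩
    have hle : N ≤ centralizer ({t} : Set G) := by
      conv_lhs => rw [← hS.iSup_conj hmin]
      exact iSup_le fun g x hx => mem_centralizer_singleton_iff.2 ((hS.conj g).commute hT (hne g) hx ht).eq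
    exact mem_centralizer_iff.2 fun x hx => mem_centralizer_singleton_iff.1 (hle hx)
  rw [inf_centralizer hmin hnc] at h
  exact hT.ne (eq_bot_iff.2 h)

theorem factor_iso (h : Le G) [hN : N.Normal] (hmin : ∀ M : Subgroup G, M.Normal → M ≤ N → M ≠ ⊥ → M = N)
    (hnc : ¬ IsMulCommutative N) (hS : Factor N S) :
    Spor.IsoJ1 S ∨ Nat.card S = 60 ∨ Nat.card S = 660 := by
  obtain ⟨h1, h2⟩ := factor_simple hmin hnc hS
  exact simple_cases (h.subgroup S) h2

/-- A minimal normal subgroup with a factor `J₁` is that factor. -/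
theorem eq_of_factor_iso (h : Le G) [hN : N.Normal] (hmin : ∀ M : Subgroup G, M.Normal → M ≤ N → M ≠ ⊥ → M = N)
    (hnc : ¬ IsMulCommutative N) (hS : Factor N S) (hJ : Spor.IsoJ1 S) : N = S := by
  classical
  haveI : Fact (Nat.Prime 2) := ⟨Nat.prime_two⟩
  obtain ⟨e⟩ := hJ
  have hconj : ∀ {T : Subgroup G}, Factor N T → ∀ n ∈ Cfsg.Lib.J1.ordList, ∃ x ∈ T, orderOf x = n := by
    intro T hT n hn
    obtain ⟨g, rfl⟩ := eq_conj_of_factor hmin hnc hS hT
    obtain ⟨j, hj⟩ := Cfsg.Lib.J1.exists_orderOf_iff.2 hn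
    refine ⟨_, mem_map_of_mem _ (e.symm j).2, ?_⟩
    rw [orderOf_injective _ (MulAut.conj g).injective, Subgroup.orderOf_coe, MulEquiv.orderOf_eq, hj]
  by_contra hne
  obtain ⟨g, hg⟩ : ∃ g : G, S.map (MulAut.conj g).toMonoidHom ≠ S := by
    by_contra hall
    push Not at hall
    refine hne ((hS.iSup_conj hmin).symm.trans ?_)
    simp only [hall, iSup_const]
  set S' := S.map (MulAut.conj g).toMonoidHom
  have hS' : Factor N S' := hS.conj g
  -- no third factor
  have htwo : ∀ T, Factor N T → T = S ∨ T = S' := by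
    intro T hT
    by_contra hT'
    push Not at hT'
    obtain ⟨a, ha, ha7⟩ := hconj hS 7 (by decide)
    obtain ⟨b, hb, hb11⟩ := hconj hS' 11 (by decide)
    obtain ⟨c, hc, hc19⟩ := hconj hT 19 (by decide)
    exact h.no_three (Or.inl rfl) (Or.inr (Or.inl rfl)) (s := 19) (by norm_num) (by decide) (by decide) (by decide)
      (dvd_of_eq ha7.symm) (dvd_of_eq hb11.symm) (dvd_of_eq hc19.symm) (hS.commute hS' hg.symm ha hb)
      (hS.commute hT hT'.1.symm ha hc) (hS'.commute hT hT'.2.symm hb hc)
  -- a two-element interchanging them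
  obtain ⟨k, hk⟩ : ∃ k, orderOf g = 2 ^ (orderOf g).factorization 2 * k :=
    ⟨_, (Nat.ordProj_mul_ordCompl_eq_self (orderOf g) 2).symm⟩
  have hkodd : ¬ 2 ∣ k := by
    have := Nat.not_dvd_ordCompl Nat.prime_two (orderOf_pos g).ne'
    rwa [show orderOf g / 2 ^ (orderOf g).factorization 2 = k from Nat.div_eq_of_eq_mul_right (by positivity) hk] at this
  have hpowS : ∀ j, S.map (MulAut.conj (g ^ j)).toMonoidHom = if j % 2 = 0 then S else S' := by
    have hmm : ∀ (a b : G) (T : Subgroup G),
        T.map (MulAut.conj (a * b)).toMonoidHom =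
          (T.map (MulAut.conj b).toMonoidHom).map (MulAut.conj a).toMonoidHom := fun a b T => by
      rw [Subgroup.map_map]; congr 1; ext x; simp [mul_assoc]
    have hback : S'.map (MulAut.conj g).toMonoidHom = S := by
      refine (htwo _ (hS'.conj g)).resolve_right fun e' => hg ?_
      exact map_injective (f := (MulAut.conj g).toMonoidHom) (MulAut.conj g).injective e'
    intro j
    induction j with
    | zero => simp only [pow_zero, map_one]; exact Subgroup.map_id S
    | succ j ih =>
      rw [pow_succ', hmm, ih]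
      rcases Nat.mod_two_eq_zero_or_one j with hj | hj
      · rw [if_pos hj, if_neg (by omega)]
      · rw [if_neg (by omega), hback, if_pos (by omega)]
  set t := g ^ k with htdef
  have ht2 : t ^ 2 = 1 := by
    refine h.pow_prime Nat.prime_two ?_
    refine (Nat.dvd_prime_pow Nat.prime_two).1 (orderOf_dvd_of_pow_eq_one (show t ^ 2 ^ (orderOf g).factorization 2 = 1 by
      rw [htdef, ← pow_mul, mul_comm, ← hk, pow_orderOf_eq_one])) |>.imp fun _ hh => hh.2
  have htS : S.map (MulAut.conj t).toMonoidHom = S' := by rw [hpowS k, if_neg (by omega)]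
  obtain ⟨u, hu, hu2⟩ := hconj hS 2 (by decide)
  set v := t * u * t⁻¹ with hvdef
  have hv : v ∈ S' := htS ▸ ⟨u, hu, rfl⟩
  have hti : t⁻¹ = t := inv_eq_of_mul_eq_one_right (by rw [← pow_two]; exact ht2)
  have huv : u * v ≠ 1 := by
    intro e1
    have hmem : u ∈ S ⊓ centralizer (S : Set G) := by
      refine ⟨hu, mem_centralizer_iff.2 fun s hs => ?_⟩
      have : u = v⁻¹ := eq_inv_of_mul_eq_one_left e1
      exact (hS.commute hS' hg.symm hs (this ▸ S'.inv_mem hv)).eq
    rw [hS.inf_centralizer hmin hnc, mem_bot] at hmem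
    rw [hmem, orderOf_one] at hu2
    norm_num at hu2
  have hsq : (u * t) ^ 2 = u * v := by
    rw [pow_two, hvdef]
    calc u * t * (u * t) = u * (t * u * t) := by group
      _ = u * (t * u * t⁻¹) := by rw [hti]
  have h4 : (u * t) ^ 4 = 1 := by
    rw [show 4 = 2 * 2 from rfl, pow_mul, hsq, (hS.commute hS' hg.symm hu hv).mul_pow]
    have hu1 : u ^ 2 = 1 := hu2 ▸ pow_orderOf_eq_one u
    rw [hu1, one_mul, hvdef, conj_pow, hu1, mul_one, mul_inv_cancel]
  exact huv (hsq ▸ h.pow_prime Nat.prime_two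
    ((Nat.dvd_prime_pow Nat.prime_two).1 (orderOf_dvd_of_pow_eq_one (show (u * t) ^ 2 ^ 2 = 1 from h4)) |>.imp
      fun _ hh => hh.2))

/-- A minimal normal subgroup without factor `J₁` has order prime to seven and nineteen. -/
theorem not_dvd_of_factor (h : Le G) [hN : N.Normal] (hmin : ∀ M : Subgroup G, M.Normal → M ≤ N → M ≠ ⊥ → M = N)
    (hnc : ¬ IsMulCommutative N) (hS : Factor N S) (hJ : ¬ Spor.IsoJ1 S) {p : ℕ} (hp : p = 7 ∨ p = 19) :
    ¬ p ∣ Nat.card N := by
  classical
  intro hd
  have hpp : p.Prime := by rcases hp with rfl | rfl <;> norm_num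
  haveI := Fact.mk hpp
  obtain ⟨⟨a, ha⟩, hao⟩ := exists_prime_orderOf_dvd_card' p hd
  rw [Subgroup.orderOf_mk] at hao
  have hmem : a ∈ N ⊓ centralizer (N : Set G) := by
    refine ⟨ha, ?_⟩
    have hle : N ≤ centralizer ({a} : Set G) := by
      conv_lhs => rw [← hS.iSup_conj hmin]
      refine iSup_le fun g x hx => mem_centralizer_singleton_iff.2 ?_
      set T := S.map (MulAut.conj g).toMonoidHom
      have hT : Factor N T := hS.conj g
      have hnorm : zpowers a ≤ normalizer (T : Set G) := zpowers_le.2 (by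
        rw [mem_normalizer_iff]
        intro y
        refine ⟨fun hy => hT.norm a ha y hy, fun hy => ?_⟩
        have := hT.norm a⁻¹ (N.inv_mem ha) _ hy
        simpa [mul_assoc] using this)
      have hcardT : Nat.card T = 60 ∨ Nat.card T = 660 := by
        rw [card_map_of_injective (f := (MulAut.conj g).toMonoidHom) (MulAut.conj g).injective]
        exact (factor_iso h hmin hnc hS).resolve_left hJ
      haveI := (factor_simple hmin hnc hT).1
      have h1 := aut_trivial hcardT hp (Solv.conjAut hnorm ⟨a, mem_zpowers a⟩) (by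
        rw [← map_pow, show (⟨a, mem_zpowers a⟩ : zpowers a) ^ p = 1 from Subtype.ext (by
          simp [← hao, pow_orderOf_eq_one]), map_one])
      have h2 := congrArg (fun f : MulAut T => ((f ⟨x, hx⟩ : T) : G)) h1
      simp only [Solv.conjAut_apply, MulAut.one_apply] at h2
      exact (mul_inv_eq_iff_eq_mul.1 h2).symm
    exact mem_centralizer_iff.2 fun x hx => mem_centralizer_singleton_iff.1 (hle hx)
  rw [inf_centralizer hmin hnc, mem_bot] at hmem
  rw [hmem, orderOf_one] at hao
  exact hpp.ne_one hao.symm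

/-- An element of order dividing 133 centralizes a nonsolvable subgroup of a minimal normal subgroup without factor
`J₁`. -/
theorem exists_nonsolvable_fixed (h : Le G) [hN : N.Normal]
    (hmin : ∀ M : Subgroup G, M.Normal → M ≤ N → M ≠ ⊥ → M = N) (hnc : ¬ IsMulCommutative N) (hS : Factor N S)
    (hJ : ¬ Spor.IsoJ1 S) {z : G} (hz : z ^ 133 = 1) :
    ∃ W : Subgroup G, W ≤ N ∧ (∀ w ∈ W, Commute z w) ∧ ¬ Group.IsSolvable W := by
  classical
  obtain ⟨hsimp, hna⟩ := factor_simple hmin hnc hS
  haveI := hsimp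
  -- the period of `S`
  have hex : ∃ d, 0 < d ∧ S.map (MulAut.conj (z ^ d)).toMonoidHom = S :=
    ⟨133, by norm_num, by rw [hz, map_one]; exact Subgroup.map_id S⟩
  obtain ⟨d, hdpos, hdS, hdmin⟩ : ∃ d, 0 < d ∧ S.map (MulAut.conj (z ^ d)).toMonoidHom = S ∧
      ∀ i, 0 < i → i < d → S.map (MulAut.conj (z ^ i)).toMonoidHom ≠ S :=
    ⟨Nat.find hex, (Nat.find_spec hex).1, (Nat.find_spec hex).2, fun i hi hid he => Nat.find_min hex hid ⟨hi, he⟩⟩
  -- `z ^ d` centralizes `S`
  have hfix : ∀ s ∈ S, z ^ d * s * (z ^ d)⁻¹ = s := by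
    have hnorm : zpowers (z ^ d) ≤ normalizer (S : Set G) :=
      zpowers_le.2 (mem_normalizer_iff_map_conj_eq.2 hdS)
    have h1 := aut_trivial' ((factor_iso h hmin hnc hS).resolve_left hJ)
      (Solv.conjAut hnorm ⟨z ^ d, mem_zpowers _⟩) (by
        rw [← map_pow, show (⟨z ^ d, mem_zpowers (z ^ d)⟩ : zpowers (z ^ d)) ^ 133 = 1 from Subtype.ext (by
          simp only [SubgroupClass.coe_pow, OneMemClass.coe_one]; rw [← pow_mul, mul_comm, pow_mul, hz, one_pow]), map_one])
    intro s hs
    have h2 := congrArg (fun f : MulAut S => ((f ⟨s, hs⟩ : S) : G)) h1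
    simpa [Solv.conjAut_apply] using h2
  have hcomm : ∀ i j, i < d → j < d → i ≠ j → ∀ a ∈ S, ∀ b ∈ S,
      Commute (z ^ i * a * (z ^ i)⁻¹) (z ^ j * b * (z ^ j)⁻¹) := by
    have key : ∀ i j, i < j → j < d → ∀ a ∈ S, ∀ b ∈ S,
        Commute (z ^ i * a * (z ^ i)⁻¹) (z ^ j * b * (z ^ j)⁻¹) := by
      intro i j hij hj a ha b hb
      have hc : Commute a (z ^ (j - i) * b * (z ^ (j - i))⁻¹) :=
        hS.commute (hS.conj (z ^ (j - i))) (hdmin (j - i) (by omega) (by omega)).symm ha ⟨b, hb, rfl⟩
      have := hc.map (MulAut.conj (z ^ i)).toMonoidHom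
      simp only [MulEquiv.coe_toMonoidHom, MulAut.conj_apply] at this
      rwa [show z ^ i * (z ^ (j - i) * b * (z ^ (j - i))⁻¹) * (z ^ i)⁻¹ = z ^ j * b * (z ^ j)⁻¹ by
        conv_rhs => rw [show j = i + (j - i) by omega, pow_add]
        group] at this
    intro i j hi hj hne a ha b hb
    rcases lt_or_gt_of_ne hne with hlt | hlt
    · exact key i j hlt hj a ha b hb
    · exact (key j i hlt hi b hb a ha).symm
  -- the diagonal
  let F : ℕ → S → G := fun n a => ((List.range n).map fun i => z ^ i * (a : G) * (z ^ i)⁻¹).prod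
  have hFsucc : ∀ n a, F (n + 1) a = F n a * (z ^ n * (a : G) * (z ^ n)⁻¹) := fun n a => by
    simp [F, List.range_succ]
  have hFsucc' : ∀ n a, F (n + 1) a = (a : G) * (z * F n a * z⁻¹) := by
    intro n a
    induction n with
    | zero => simp [F]
    | succ n ih =>
      rw [hFsucc (n + 1) a]
      nth_rw 1 [ih]
      rw [hFsucc n a, pow_succ' z n]
      group
  have hFcomm : ∀ n ≤ d, ∀ a : S, ∀ j, n ≤ j → j < d → ∀ b ∈ S, Commute (F n a) (z ^ j * b * (z ^ j)⁻¹) := by
    intro n
    induction n with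
    | zero => intro _ a j _ _ b _; simp [F]
    | succ n ih =>
      intro hn a j hj hjd b hb
      rw [hFsucc]
      exact (ih (by omega) a j (by omega) hjd b hb).mul_left
        (hcomm n j (by omega) hjd (by omega) a a.2 b hb)
  have hFmul : ∀ n ≤ d, ∀ a b : S, F n (a * b) = F n a * F n b := by
    intro n
    induction n with
    | zero => intro _ a b; simp [F]
    | succ n ih =>
      intro hn a b
      rw [hFsucc, hFsucc, hFsucc, ih (by omega)]
      have hc := hFcomm n (by omega) b n le_rfl (by omega) a a.2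
      rw [Subgroup.coe_mul]
      calc F n a * F n b * (z ^ n * ((a : G) * b) * (z ^ n)⁻¹) =
          F n a * (F n b * (z ^ n * (a : G) * (z ^ n)⁻¹)) * (z ^ n * (b : G) * (z ^ n)⁻¹) := by group
        _ = F n a * ((z ^ n * (a : G) * (z ^ n)⁻¹) * F n b) * (z ^ n * (b : G) * (z ^ n)⁻¹) := by rw [hc.eq]
        _ = _ := by group
  have hF1 : ∀ n, F n 1 = 1 := by
    intro n
    induction n with
    | zero => simp [F]
    | succ n ih => rw [hFsucc, ih]; simp
  let f : S →* G :=
    { toFun := F d
      map_one' := hF1 d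
      map_mul' := hFmul d le_rfl }
  refine ⟨f.range, ?_, ?_, ?_⟩
  · rintro _ ⟨a, rfl⟩
    show F d a ∈ N
    refine N.list_prod_mem fun x hx => ?_
    obtain ⟨i, -, rfl⟩ := List.mem_map.1 hx
    exact hN.conj_mem _ (hS.le a.2) _
  · rintro _ ⟨a, rfl⟩
    obtain ⟨e, rfl⟩ : ∃ e, d = e + 1 := ⟨d - 1, by omega⟩
    show z * F (e + 1) a = F (e + 1) a * z
    have h1 : F (e + 2) a = F (e + 1) a * a := by rw [hFsucc, hfix a a.2]
    have h2 := hFsucc' (e + 1) a
    rw [h1] at h2
    have hc : Commute (a : G) (F (e + 1) a) := by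
      have h3 : ∀ n ≤ e + 1, Commute (a : G) (F n a) := by
        intro n
        induction n with
        | zero => intro _; simp [F]
        | succ n ih =>
          intro hn
          rw [hFsucc]
          refine (ih (by omega)).mul_right ?_
          rcases eq_or_ne n 0 with rfl | hne
          · simp
          · simpa using hcomm 0 n (by omega) (by omega) hne.symm a a.2 a a.2
      exact h3 _ le_rfl
    rw [← hc.eq] at h2
    have h4 := mul_left_cancel h2
    exact (mul_inv_eq_iff_eq_mul.1 h4.symm)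
  · intro hsol
    have hinj : Function.Injective f := by
      refine (injective_iff_map_eq_one f).2 fun a ha => ?_
      have hmem : (a : G) ∈ S ⊓ centralizer (S : Set G) := by
        refine ⟨a.2, mem_centralizer_iff.2 fun s hs => ?_⟩
        obtain ⟨e, rfl⟩ : ∃ e, d = e + 1 := ⟨d - 1, by omega⟩
        have h2 : (a : G) * (z * F e a * z⁻¹) = 1 := (hFsucc' e a).symm.trans ha
        have hrest : ∀ n ≤ e, Commute s (z * F n a * z⁻¹) := by
          intro n
          induction n with
          | zero => intro _; simp [F]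
          | succ n ih =>
            intro hn
            rw [hFsucc, show z * (F n a * (z ^ n * (a : G) * (z ^ n)⁻¹)) * z⁻¹ =
              z * F n a * z⁻¹ * (z ^ (n + 1) * (a : G) * (z ^ (n + 1))⁻¹) by rw [pow_succ' z n]; group]
            refine (ih (by omega)).mul_right ?_
            simpa using hcomm 0 (n + 1) (by omega) (by omega) (by omega) s hs a a.2
        rw [eq_inv_of_mul_eq_one_left h2]
        exact (hrest e le_rfl).inv_right.eq
      rw [hS.inf_centralizer hmin hnc, mem_bot] at hmem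
      exact Subtype.ext hmem
    haveI := hsol
    haveI : Group.IsSolvable S :=
      Group.isSolvable_of_isSolvable_injective (f := f.rangeRestrict) (fun a b e => hinj (congrArg Subtype.val e))
    exact hna ⟨⟨IsSimpleGroup.comm_iff_isSolvable.2 inferInstance⟩⟩

end Cfsg.Lib.Spec.JOneSq
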