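import Cfsg.Agent.Lib.Spec.JOneSquare.Basic
import Cfsg.Agent.Lib.Spec.PSLTwoSpectrum
import Cfsg.Agent.Lib.SimpleAbTwo.Cases
import Cfsg.Agent.Lib.Walter3.CentClause
import Cfsg.Agent.Lib.Dickson.Overgroups
import Cfsg.Agent.S1644
import Cfsg.Agent.S0252
import Cfsg.Agent.S0253

/-!
# The simple groups whose element orders occur in `J₁ × J₁`
-/

set_option autoImplicit false
set_option linter.style.haveILetI false
set_option linter.unusedSectionVars false

namespace Cfsg.Lib.Spec.JOneSq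

open Subgroup Matrix

universe u

theorem le_of_mem : ∀ m ∈ omega, m ≤ 285 := by decide +kernel

theorem odd_fields : ∀ p ∈ [3, 5, 7, 11, 19], ∀ k < 7, 5 ≤ p ^ k → (p ^ k % 8 = 3 ∨ p ^ k % 8 = 5) →
    (p ^ k - 1) / 2 ∈ omega → (p ^ k + 1) / 2 ∈ omega → p ^ k = 5 ∨ p ^ k = 11 := by decide +kernel

theorem even_fields : ∀ a < 10, 2 ≤ a → 2 ^ a - 1 ∈ omega → 2 ^ a + 1 ∈ omega → a = 2 := by decide +kernel

/-- The fields of the projective special linear groups with admissible element orders. -/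
theorem psl_card {F : Type} [Field F] [Fintype F] (h : Le (ProjectiveSpecialLinearGroup (Fin 2) F))
    (hq : (∃ a : ℕ, 2 ≤ a ∧ Fintype.card F = 2 ^ a) ∨
      ((Fintype.card F % 8 = 3 ∨ Fintype.card F % 8 = 5) ∧ 5 ≤ Fintype.card F)) :
    Fintype.card F = 4 ∨ Fintype.card F = 5 ∨ Fintype.card F = 11 := by
  classical
  obtain ⟨p, hp⟩ := CharP.exists F
  haveI := hp
  obtain ⟨k, hpk, hqk⟩ := FiniteField.card F p
  haveI := Fact.mk hpk
  have h4 : 4 ≤ Fintype.card F := by
    rcases hq with ⟨a, ha, he⟩ | ⟨-, h5⟩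
    · exact he ▸ (Nat.pow_le_pow_right two_pos ha)
    · omega
  have hmem : ∀ m, m ∈ {m : ℕ | m ∣ p ∨ m ∣ (Fintype.card F - 1) / Nat.gcd 2 (Fintype.card F - 1) ∨
      m ∣ (Fintype.card F + 1) / Nat.gcd 2 (Fintype.card F - 1)} → m ∈ omega := by
    intro m hm
    rw [← Cfsg.Lib.Spec.psl_two_spectrum p h4] at hm
    obtain ⟨x, rfl⟩ := hm
    exact h x
  have hm1 := hmem _ (Or.inr (Or.inl dvd_rfl))
  have hp1 := hmem _ (Or.inr (Or.inr dvd_rfl))
  have hle := le_of_mem _ hp1
  rcases hq with ⟨a, ha, he⟩ | ⟨hmod, h5⟩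
  · rw [he] at hm1 hp1 hle ⊢
    have hg : Nat.gcd 2 (2 ^ a - 1) = 1 := by
      refine Nat.coprime_two_left.2 (Nat.odd_iff.2 ?_)
      have : 2 ^ a % 2 = 0 := Nat.mod_eq_zero_of_dvd (dvd_pow_self 2 (by omega))
      have : 1 ≤ 2 ^ a := Nat.one_le_pow _ _ two_pos
      omega
    rw [hg, Nat.div_one] at hm1 hp1 hle
    have ha10 : a < 10 := by
      by_contra hc
      have := Nat.pow_le_pow_right two_pos (not_lt.1 hc)
      omega
    rw [even_fields a ha10 ha hm1 hp1]
    exact Or.inl rfl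
  · have hg : Nat.gcd 2 (Fintype.card F - 1) = 2 := Nat.gcd_eq_left (by omega)
    rw [hg] at hm1 hp1 hle
    have hpl : p ∈ [3, 5, 7, 11, 19] := by
      have h1 := six_of_dvd _ (hmem p (Or.inl dvd_rfl)) p (Nat.mem_divisors.2 ⟨dvd_rfl, hpk.ne_zero⟩) hpk
      have h2 : p ≠ 2 := fun e => by
        have : 2 ∣ Fintype.card F := hqk ▸ e ▸ dvd_pow_self p k.ne_zero
        omega
      simp only [List.mem_cons, List.not_mem_nil, or_false]
      omega
    have hk7 : (k : ℕ) < 7 := by
      by_contra hc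
      have h3 : 3 ≤ p := by
        simp only [List.mem_cons, List.not_mem_nil, or_false] at hpl
        omega
      have := (Nat.pow_le_pow_left h3 7).trans (Nat.pow_le_pow_right hpk.pos (not_lt.1 hc))
      rw [← hqk] at this
      omega
    rw [hqk] at hmod h5 hm1 hp1 ⊢
    exact Or.inr (odd_fields p hpl _ hk7 h5 hmod hm1 hp1)

theorem card_psl_four_five_eleven {F : Type} [Field F] [Fintype F]
    (hq : Fintype.card F = 4 ∨ Fintype.card F = 5 ∨ Fintype.card F = 11) :
    Nat.card (ProjectiveSpecialLinearGroup (Fin 2) F) = 60 ∨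
      Nat.card (ProjectiveSpecialLinearGroup (Fin 2) F) = 660 := by
  rcases hq with h | h | h
  · obtain ⟨e⟩ := Cfsg.Agent.S0252.result (F := F) h
    left
    rw [Nat.card_congr e.toEquiv, nat_card_alternatingGroup, Nat.card_fin]
    rfl
  · left
    have := Cfsg.Lib.Dickson.card_psl_mul (K := F) (by omega)
    rw [h] at this
    omega
  · right
    have := Cfsg.Lib.Dickson.card_psl_mul (K := F) (by omega)
    rw [h] at this
    omega

/-- A simple group with admissible element orders is `J₁`, or has order 60 or 660. -/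
theorem simple_cases {T : Type u} [Group T] [Finite T] [IsSimpleGroup T] (h : Le T)
    (hna : ¬ IsMulCommutative T) : Cfsg.Spor.IsoJ1 T ∨ Nat.card T = 60 ∨ Nat.card T = 660 := by
  classical
  haveI : Fact (Nat.Prime 2) := ⟨Nat.prime_two⟩
  obtain ⟨S⟩ : Nonempty (Sylow 2 T) := inferInstance
  rcases SimpleAbTwo.cases hna S (h.sylow_two_comm S) (Walter3.centClause T hna) with
    ⟨F, i, j, hF, ⟨e⟩⟩ | ⟨t, F, i, j, ht, -, -, ⟨e⟩, hord⟩
  · have := card_psl_four_five_eleven (psl_card (h.of_injective e.symm.toMonoidHom e.symm.injective) hF)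
    rw [← Nat.card_congr e.toEquiv] at this
    exact Or.inr this
  rcases hord with ⟨m, hm, hF, -⟩ | ⟨h45, hJ⟩
  · exfalso
    have hF8 : Fintype.card F % 8 = 3 := by
      rw [hF, pow_succ, pow_mul, Nat.mul_mod, Nat.pow_mod]
      norm_num
    have h27 : 27 ≤ Fintype.card F := hF ▸ (Nat.pow_le_pow_right (show 0 < 3 by norm_num) (by omega : 3 ≤ 2 * m + 1))
    have hpsl : Le (ProjectiveSpecialLinearGroup (Fin 2) F) :=
      h.of_injective (((centralizer ({t} : Set T)).subtype.comp e.symm.toMonoidHom).comp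
        (MonoidHom.inr (Multiplicative (ZMod 2)) _)) (((centralizer ({t} : Set T)).subtype_injective.comp
          e.symm.injective).comp (fun a b hab => (Prod.ext_iff.1 hab).2))
    have := psl_card hpsl (Or.inr ⟨Or.inl hF8, by omega⟩)
    omega
  · obtain ⟨ψ⟩ : Nonempty (ProjectiveSpecialLinearGroup (Fin 2) F ≃* alternatingGroup (Fin 5)) :=
      h45.elim Cfsg.Agent.S0252.result Cfsg.Agent.S0253.result
    have h8 : Nat.card (S : Subgroup T) = 8 := by
      rw [S.card_eq_multiplicity, hJ.2]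
      rw [show (175560 : ℕ) = 2 ^ 3 * 21945 by norm_num, Nat.factorization_mul (by norm_num) (by norm_num),
        Finsupp.add_apply, Nat.prime_two.factorization_pow, Finsupp.single_eq_same,
        Nat.factorization_eq_zero_of_not_dvd (by norm_num : ¬ 2 ∣ 21945)]
      rfl
    exact Or.inl (Cfsg.Agent.S1644.result S (h.sylow_two_comm S) h8 t ht
      (e.trans ((MulEquiv.refl _).prodCongr ψ)))

end Cfsg.Lib.Spec.JOneSq
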